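import Cfsg.Statements.S3771
import Cfsg.Agent.H2.Extraspecial
import Cfsg.Agent.H3.Modular

set_option autoImplicit false
open Cfsg

namespace Cfsg.Agent.S3771

/-- Let p be a prime and R a finite p-group of p-rank at most 2 (no elementary abelian subgroup of order p³) in which every element has order dividing p. Then R has order at most p³. -/
theorem result {R : Type*} [Group R] [Finite R] {p : ℕ} [Fact p.Prime] (hR : IsPGroup p R) (hrank : Cfsg.PRankLE p 2 R) (hexp : ∀ x : R, x ^ p = 1) : Nat.card R ≤ p ^ 3 := by
  have hp : p.Prime := Fact.out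
  have := hR.isNilpotent
  obtain ⟨A, hAn, hA, hC⟩ := H3.exists_selfCentralizing_normal (G := R)
  have hcA : Nat.card A ≤ p ^ 2 := hrank A hA fun a _ => hexp a
  have key : A.index ≤ p := by
    rcases eq_or_ne A ⊥ with h0 | h0
    · have : A = ⊤ := by rw [← hC, h0]; simp
      rw [this, Subgroup.index_top]; exact hp.one_lt.le
    obtain ⟨Z, hZn, -, hZA, hZc, hZ⟩ := H3.exists_normal_card_eq_mul hR (bot_lt_iff_ne_bot.mpr h0)
    rw [Subgroup.card_bot, mul_one] at hZc
    have hZ' : ∀ z ∈ Z, ∀ g : R, z * g = g * z := fun z hz g => by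
      have := hZ z hz g
      rw [Subgroup.mem_bot] at this
      calc z * g = (z * g * z⁻¹ * g⁻¹) * (g * z) := by group
        _ = g * z := by rw [this, one_mul]
    rcases hZA.eq_or_lt with h1 | h1
    · have : A = ⊤ := by
        rw [← hC, ← h1, eq_top_iff]
        intro g _
        exact Subgroup.mem_centralizer_iff.mpr fun z hz => hZ' z hz g
      rw [this, Subgroup.index_top]; exact hp.one_lt.le
    obtain ⟨K, hKn, -, hKA, hKc, hK⟩ := H3.exists_normal_card_eq_mul hR h1
    have hKA' : K = A := H1.eq_of_le_of_card_le hKA (by rw [hKc, hZc, ← sq]; exact hcA)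
    subst hKA'
    obtain ⟨a, haK, haZ⟩ := SetLike.exists_of_lt h1
    have h2 : Z ⊔ Subgroup.zpowers a = K := H1.eq_of_le_of_card_le
      (sup_le hZA ((Subgroup.zpowers_le).mpr haK))
      (by rw [H3.card_sup_zpowers hp Z haZ (hexp a), hKc, mul_comm])
    have h3 : Subgroup.centralizer ({a} : Set R) ≤ K := by
      rw [← hC]
      intro g hg
      have hg' := Subgroup.mem_centralizer_singleton_iff.mp hg
      rw [← h2]
      have : Z ⊔ Subgroup.zpowers a ≤ Subgroup.centralizer ({g} : Set R) :=
        sup_le (fun z hz => Subgroup.mem_centralizer_singleton_iff.mpr (hZ' z hz g))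
          (Subgroup.zpowers_le.mpr (Subgroup.mem_centralizer_singleton_iff.mpr hg'.symm))
      exact Subgroup.mem_centralizer_iff.mpr fun x hx =>
        Subgroup.mem_centralizer_singleton_iff.mp (this hx)
    have h4 := H2.relIndex_centralizer_le_card (H := ⊤) (N := Z) (x := a) fun g _ => by
      have := inv_mem (hK a haK g)
      convert this using 1
      rw [commutatorElement_def]; group
    rw [Subgroup.relIndex_top_right, hZc] at h4
    exact (Nat.le_of_dvd (Nat.pos_of_ne_zero Subgroup.FiniteIndex.index_ne_zero)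
      (Subgroup.index_dvd_of_le h3)).trans h4
  calc Nat.card R = Nat.card A * A.index := (Subgroup.card_mul_index A).symm
    _ ≤ p ^ 2 * p := Nat.mul_le_mul hcA key
    _ = p ^ 3 := by ring

end Cfsg.Agent.S3771
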