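import Cfsg.Statements.S3766
import Cfsg.Agent.H1.Solv

set_option autoImplicit false
open Cfsg

namespace Cfsg.Agent.S3766

open Subgroup
open scoped commutatorElement

/-- Let G be a finite solvable group and N a normal subgroup of G. Call a pair V < U of normal subgroups of G a chief factor of G when no normal subgroup of G lies strictly between them; an element g centralizes the chief factor U/V when u g u⁻¹ g⁻¹ ∈ V for all u ∈ U. Then an element of G lies in the Fitting subgroup F(N) if and only if it lies in N and centralizes every chief factor of G; and also if and only if it lies in N and centralizes every chief factor U/V of G with U ≤ F(N). -/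
theorem result {G : Type*} [Group G] [Finite G] (hG : Group.IsSolvable G) (N : Subgroup G) [N.Normal] (g : G) : (g ∈ (Cfsg.fittingSubgroup ↥N).map N.subtype ↔ g ∈ N ∧ ∀ U V : Subgroup G, (U.Normal ∧ V.Normal ∧ V < U ∧ ∀ W : Subgroup G, W.Normal → V ≤ W → W ≤ U → W = V ∨ W = U) → ∀ u ∈ U, u * g * u⁻¹ * g⁻¹ ∈ V) ∧ (g ∈ (Cfsg.fittingSubgroup ↥N).map N.subtype ↔ g ∈ N ∧ ∀ U V : Subgroup G, (U.Normal ∧ V.Normal ∧ V < U ∧ ∀ W : Subgroup G, W.Normal → V ≤ W → W ≤ U → W = V ∨ W = U) → U ≤ (Cfsg.fittingSubgroup ↥N).map N.subtype → ∀ u ∈ U, u * g * u⁻¹ * g⁻¹ ∈ V) := by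
  rw [L.map_subtype_fittingSubgroup]
  have h1 : g ∈ fittingSubgroup G ⊓ N → g ∈ N ∧ ∀ U V : Subgroup G, (U.Normal ∧ V.Normal ∧ V < U ∧ ∀ W : Subgroup G, W.Normal → V ≤ W → W ≤ U → W = V ∨ W = U) → ∀ u ∈ U, u * g * u⁻¹ * g⁻¹ ∈ V :=
    fun h => ⟨h.2, fun U V ⟨_, _, hVU, hc⟩ u hu => H1.commutator_mem_of_chief hVU hc h.1 hu⟩
  have h2 : (g ∈ N ∧ ∀ U V : Subgroup G, (U.Normal ∧ V.Normal ∧ V < U ∧ ∀ W : Subgroup G, W.Normal → V ≤ W → W ≤ U → W = V ∨ W = U) → U ≤ fittingSubgroup G ⊓ N → ∀ u ∈ U, u * g * u⁻¹ * g⁻¹ ∈ V) → g ∈ fittingSubgroup G ⊓ N := by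
    rintro ⟨hgN, hg⟩
    refine ⟨?_, hgN⟩
    let C : Subgroup G := N ⊓ ⨅ (U : Subgroup G) (V : Subgroup G) (_ : U.Normal ∧ V.Normal ∧ V < U ∧ ∀ W : Subgroup G, W.Normal → V ≤ W → W ≤ U → W = V ∨ W = U) (_ : U ≤ fittingSubgroup G ⊓ N), H1.commStab U V
    have hC : ∀ x, x ∈ C ↔ x ∈ N ∧ ∀ U V : Subgroup G, (U.Normal ∧ V.Normal ∧ V < U ∧ ∀ W : Subgroup G, W.Normal → V ≤ W → W ≤ U → W = V ∨ W = U) → U ≤ fittingSubgroup G ⊓ N → ∀ u ∈ U, ⁅u, x⁆ ∈ V := by
      intro x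
      simp only [C, mem_inf, mem_iInf, H1.mem_commStab]
      exact ⟨fun h => ⟨h.1, fun U V h1 h2 => (h.2 U V h1 h2).2⟩, fun h => ⟨h.1, fun U V h1 h2 =>
        ⟨by have := h1.2.1; exact le_normalizer_of_normal (mem_top x), h.2 U V h1 h2⟩⟩⟩
    have hCn : C.Normal := ⟨fun c hc y => by
      rw [hC] at hc ⊢
      refine ⟨Normal.conj_mem inferInstance c hc.1 y, fun U V h hU u hu => ?_⟩
      have := h.2.1.conj_mem _ (hc.2 U V h hU _ (h.1.conj_mem u hu y⁻¹)) y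
      convert this using 1
      simp only [commutatorElement_def]; group⟩
    refine H1.le_fittingSubgroup_of_coprime_centralizes C ?_ ((hC g).mpr ⟨hgN, hg⟩)
    intro c hc p hp hcop
    have := Fact.mk hp
    refine H1.mem_centralizer_of_chief _ inferInstance
      (H1.coprime_card_of_isPGroup ((L.isPGroup_pCore p).to_inf_left) hcop) ?_
    intro A B hA hB hBA hch hAU
    exact ((hC c).mp hc).2 A B ⟨hA, hB, hBA, hch⟩
      (hAU.trans (inf_le_inf (L.pCore_le_fittingSubgroup hp) inf_le_left))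
  exact ⟨⟨h1, fun h => h2 ⟨h.1, fun U V hUV _ => h.2 U V hUV⟩⟩,
    ⟨fun h => ⟨h.2, fun U V hUV _ => (h1 h).2 U V hUV⟩, h2⟩⟩

end Cfsg.Agent.S3766
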