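import Cfsg.Statements.S3767
import Cfsg.Agent.H1.RepExtra

set_option autoImplicit false
open Cfsg

namespace Cfsg.Agent.S3767

open scoped commutatorElement

/-- Let P be an extraspecial p-group of order p^(2n+1) and H a cyclic group of order h prime to p acting on P (inside a common finite group: H normalizes P) so that C_P(x) = Z(P) for every non-identity x ∈ H. Then h divides p^n + 1 or h divides p^n − 1. -/
theorem result {G : Type*} [Group G] [Finite G] {p : ℕ} [Fact p.Prime] (P H : Subgroup G) (hP : Cfsg.IsExtraspecial p ↥P) (n : ℕ) (hn : Nat.card P = p ^ (2 * n + 1)) (hH : IsCyclic H) (hcop : (Nat.card H).Coprime p) (hHP : H ≤ Subgroup.normalizer (P : Set G)) (hfix : ∀ x ∈ H, x ≠ 1 → P ⊓ Subgroup.centralizer {x} = (Subgroup.center ↥P).map P.subtype) : Nat.card H ∣ p ^ n + 1 ∨ Nat.card H ∣ p ^ n - 1 := by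
  have hp : p.Prime := Fact.out
  obtain ⟨g, rfl⟩ := (Subgroup.isCyclic_iff_exists_zpowers_eq_top H).mp hH
  by_cases hg1 : g = 1
  · left; simp [hg1]
  obtain ⟨⟨hPp, -, hcomm⟩, hZ⟩ := hP
  rw [Nat.card_zpowers] at hcop ⊢
  have hgP := hHP (Subgroup.mem_zpowers g)
  let ρ : G →* Module.End ℂ (MonoidAlgebra ℂ G) := Representation.leftRegular ℂ G
  have hρ : ∀ x, ρ x = 1 → x = 1 := by
    intro x hx
    have := LinearMap.congr_fun hx (MonoidAlgebra.single 1 1)
    rw [Representation.ofMulAction_single, Module.End.one_apply, smul_eq_mul, mul_one] at this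
    exact MonoidAlgebra.single_left_injective one_ne_zero this
  let σ := ρ.comp P.subtype
  have hcov := H1.cov_conjAutOf ρ hgP
  obtain ⟨W, h1, h2, h3, h4⟩ := H1.exists_nofix_subspace σ (Subgroup.center P)
    (by rw [hZ]; exact_mod_cast hp.ne_zero) (by
    have : Nontrivial (Subgroup.center P) := Finite.one_lt_card_iff_nontrivial.mp (hZ ▸ hp.one_lt)
    obtain ⟨⟨x, hx⟩, hx1⟩ := exists_ne (1 : Subgroup.center P)
    exact ⟨x, hx, fun h => hx1 (Subtype.ext (Subtype.ext (hρ _ h)))⟩)
  obtain ⟨U, hUW, hU0, hU, hmin⟩ := H1.exists_minimal_invBy (S := insert (ρ g) (Set.range σ))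
    (W := W) (by
      rintro T (hT | ⟨x, rfl⟩)
      · rw [hT]
        exact h4 _ _ hcov fun x => SetLike.ext_iff.mp
          ((Subgroup.characteristic_iff_comap_eq (H := Subgroup.center P)).mp inferInstance
            (H1.conjAutOf hgP)) x
      · exact h2 x) h1
  have hσ : ∀ x, ∀ u ∈ U, σ x u ∈ U := fun x => hU _ (Or.inr ⟨x, rfl⟩)
  have hY : ∀ u ∈ U, ρ g u ∈ U := hU _ (Or.inl rfl)
  have : Nontrivial U := Submodule.nontrivial_iff_ne_bot.mpr hU0
  have hirr := H1.irrBy_restrict hσ hY (fun U' a b c => hmin U' a (by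
    rintro T (hT | ⟨x, rfl⟩)
    · rw [hT]; exact c
    · exact b x))
  have hle : Subgroup.center P ≤ H1.scalarSub (H1.restrictRep σ U hσ) := by
    intro z hz
    refine hirr.exists_eq_smul ?_
    rintro T (hT | ⟨x, rfl⟩)
    · rw [hT]
      ext1 u
      have h5 : (z : G) ∈ P ⊓ Subgroup.centralizer {g} := by
        rw [hfix g (Subgroup.mem_zpowers g) hg1]; exact ⟨z, hz, rfl⟩
      have h6 := Subgroup.mem_centralizer_singleton_iff.mp (Subgroup.mem_inf.mp h5).2
      refine Subtype.ext ?_
      change ρ z (ρ g u) = ρ g (ρ z u)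
      rw [← Module.End.mul_apply, ← Module.End.mul_apply, ← map_mul, ← map_mul, h6]
    · rw [← map_mul, ← map_mul, Subgroup.mem_center_iff.mp hz]
  have hZZ : H1.scalarSub (H1.restrictRep σ U hσ) = Subgroup.center P :=
    le_antisymm (H1.ScalarOn.le_center (W := W) ⟨U, hUW, hU0, hσ,
      fun x => H1.mem_scalarSub_restrictRep hσ⟩ hcomm.le (hZ ▸ hp) h3) hle
  have hfree : ∀ i, 0 < i → i < orderOf g → ∀ x, (H1.conjAutOf hgP ^ i) x * x⁻¹ ∈
      H1.scalarSub (H1.restrictRep σ U hσ) → x ∈ H1.scalarSub (H1.restrictRep σ U hσ) := by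
    intro i hi0 hi x hx
    rw [hZZ] at hx ⊢
    have hN : Subgroup.zpowers (g ^ i) ≤ Subgroup.normalizer
        (((Subgroup.center P).map P.subtype : Subgroup G) : Set G) :=
      H1.le_normalizer_map_subtype_of_characteristic
        (Subgroup.zpowers_le.mpr (pow_mem hgP i)) _
    obtain ⟨z, hz, hzx⟩ := H1.exists_mul_mem_centralizer hN (by
        rw [Nat.card_zpowers, Subgroup.card_map_of_injective P.subtype_injective, hZ]
        exact hcop.coprime_dvd_left (orderOf_pow_dvd i))
      (Or.inl (H1.isSolvable_of_isMulCommutative inferInstance)) (g := x) (fun a ha => by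
        rw [← commutatorElement_def, ← commutatorElement_inv]
        refine inv_mem (H1.commutatorElement_mem_of_mem_zpowers (hN (Subgroup.mem_zpowers _)) ?_ ha)
        rw [← commutatorElement_inv]
        refine inv_mem ⟨_, hx, ?_⟩
        rw [Subgroup.coe_subtype, Subgroup.coe_mul, H1.coe_conjAutOf_pow, commutatorElement_def]
        rfl)
    have h5 : z * x ∈ P ⊓ Subgroup.centralizer {g ^ i} := Subgroup.mem_inf.mpr
      ⟨mul_mem (Subgroup.map_subtype_le _ hz) x.2,
        Subgroup.centralizer_le (by simp) hzx⟩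
    rw [hfix _ (Subgroup.npow_mem_zpowers g i) (pow_ne_one_of_lt_orderOf hi0.ne' hi),
      Subgroup.mul_mem_cancel_left _ hz] at h5
    obtain ⟨y, hy, he⟩ := h5
    rwa [← Subtype.ext he]
  have hcov' : ∀ x, (ρ g).restrict hY * H1.restrictRep σ U hσ x =
      H1.restrictRep σ U hσ (H1.conjAutOf hgP x) * (ρ g).restrict hY :=
    fun x => by ext1 u; exact Subtype.ext (LinearMap.congr_fun (hcov x) u)
  have hY' : (ρ g).restrict hY ^ orderOf g = 1 := by
    ext1 u
    refine Subtype.ext ?_
    rw [H1.coe_restrict_pow, ← map_pow, pow_orderOf_eq_one, map_one]; rfl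
  have h1g : 1 < orderOf g := by
    have := orderOf_pos g
    have : orderOf g ≠ 1 := fun h => hg1 (orderOf_eq_one_iff.mp h)
    omega
  have hirr' := H1.irrBy_range_of_fpf (by exact_mod_cast Nat.card_pos.ne') hcov' (orderOf_pos g)
    hY' hirr (hcomm ▸ hle) (fun x hx => by
      rw [hZZ, Subgroup.mem_center_iff]
      intro y
      by_contra hne
      have a1 : ⁅y, x⁆ ≠ 1 := fun h => hne (commutatorElement_eq_one_iff_mul_comm.mp h)
      have a2 : ⁅y, x⁆ ∈ Subgroup.center P :=
        hcomm ▸ Subgroup.commutator_mem_commutator (Subgroup.mem_top _) (Subgroup.mem_top _)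
      have a3 : Subgroup.zpowers (⟨⁅y, x⁆, a2⟩ : Subgroup.center P) = ⊤ :=
        zpowers_eq_top_of_prime_card hZ fun h => a1 (congrArg Subtype.val h)
      have a4 : ⁅y, x⁆ ∈ (H1.restrictRep σ U hσ).ker := by
        rw [MonoidHom.mem_ker, commutatorElement_def, map_mul, map_mul, map_mul, ← hx, mul_assoc,
          mul_assoc, ← mul_assoc (H1.restrictRep σ U hσ y), H1.rep_mul_inv, one_mul,
          H1.rep_mul_inv]
      obtain ⟨u, hu⟩ := exists_ne (0 : U)
      refine hu (Subtype.ext (h3 u (hUW u.2) fun z hz => ?_))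
      obtain ⟨m, hm⟩ := (a3 ▸ Subgroup.mem_top (⟨z, hz⟩ : Subgroup.center P) :
        _ ∈ Subgroup.zpowers _)
      have a5 : z ∈ (H1.restrictRep σ U hσ).ker := by
        rw [← show ⁅y, x⁆ ^ m = z from congrArg Subtype.val hm]
        exact zpow_mem a4 m
      exact congrArg Subtype.val (LinearMap.congr_fun a5 u))
    (by simpa using hfree 1 one_pos h1g)
  have hd := H1.finrank_sq_eq_index hirr' (hcomm ▸ hle)
  have hd' : Module.finrank ℂ U = p ^ n := by
    have := (Subgroup.center P).card_mul_index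
    rw [hZ, hn, ← hZZ, ← hd, pow_succ' p, mul_comm 2, pow_mul] at this
    exact Nat.pow_left_injective two_ne_zero (Nat.eq_of_mul_eq_mul_left hp.pos this)
  have := (H1.crit_coprime hirr' (hcomm ▸ hle) hcov' (by exact_mod_cast (orderOf_pos g).ne') hY'
    (H1.conjAutOf_pow_eq_one hgP (by rw [pow_orderOf_eq_one]; exact one_mem _)) hfree).2.1
  rw [hd'] at this
  exact this.symm

end Cfsg.Agent.S3767
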