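import Cfsg.Statements.S3752
import Cfsg.Agent.H2.Primitive

set_option autoImplicit false
open Cfsg

namespace Cfsg.Agent.S3752

open Subgroup H2
open scoped Pointwise commutatorElement

variable {G : Type*} [Group G] [Finite G] {M₁ M₂ : Subgroup G}

omit [Finite G] in
theorem snIn_inf {A : Subgroup G} (h : SnIn M₁ A) (h2 : A ≤ M₂) : SnIn (M₁ ⊓ M₂) A :=
  h.mono (le_inf h.le h2) inf_le_left

theorem layer_le (h₁ : fstarOf M₁ ≤ M₂) (h₂ : fstarOf M₂ ≤ M₁) : layerOf M₁ ≤ layerOf M₂ := by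
  rw [layerOf_eq_sSup M₁]
  refine sSup_le fun K hK => ?_
  have hK2 : K ≤ M₂ := (CompIn.le_fstarOf hK).trans h₁
  have hKD : CompIn (M₁ ⊓ M₂) K := ⟨snIn_inf hK.1 hK2, hK.2⟩
  have hF : SnIn (M₁ ⊓ M₂) (fstarOf M₂) := inf_comm M₁ M₂ ▸ snIn_inf (snIn_fstarOf M₂) h₂
  obtain e | e := hKD.le_or_le_centralizer hF
  · exact ((hKD.mono e hF.le).trans (snIn_fstarOf M₂)).le_layerOf
  · exact absurd (H1.isSolvable_of_le ((le_inf hK2 e).trans
      (inf_centralizer_fstarOf_le_fittingOf M₂)) inferInstance) (QS.not_isSolvable hK.2)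

theorem lemmaA (h₁ : fittingOf M₁ ≤ M₂) (h₂ : fittingOf M₂ ≤ M₁) (hE : layerOf M₂ = ⊥)
    {p : ℕ} (hp : p.Prime) (h : pCoreOf p M₂ = ⊥) : pCoreOf p M₁ = ⊥ := by
  have k1 : pCoreOf p M₁ ≤ M₂ := (pCoreOf_le_fittingOf hp M₁).trans h₁
  have k2 : pCoreOf p M₁ ≤ pCoreOf p (M₁ ⊓ M₂) :=
    (snIn_inf (snIn_pCoreOf p M₁) k1).le_pCoreOf (isPGroup_pCoreOf p M₁)
  have k3 : fittingOf M₂ ≤ pPrimeCoreOf p (M₁ ⊓ M₂) := by
    refine (inf_comm M₁ M₂ ▸ snIn_inf (snIn_fittingOf M₂) h₂).le_pPrimeCoreOf ?_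
    have := fittingOf_le_sup hp M₂
    rw [h, bot_sup_eq] at this
    exact (coprime_card_pPrimeCoreOf p M₂).coprime_dvd_left (card_dvd_of_le this)
  have k4 : pCoreOf p M₁ ≤ centralizer (fittingOf M₂ : Set G) :=
    le_centralizer_iff.1 (k3.trans ((pPrimeCoreOf_le_centralizer_pCoreOf hp _).trans
      (centralizer_anti k2)))
  exact eq_bot_iff.2 (h ▸ le_pCoreOf_of_le_fittingOf (isPGroup_pCoreOf p M₁)
    ((le_inf k1 k4).trans (inf_centralizer_fittingOf_le_of_layerOf_eq_bot hE)))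

theorem lemmaB (h₁ : fittingOf M₁ ≤ M₂) (h₂ : fittingOf M₂ ≤ M₁) (hE : layerOf M₂ = ⊥)
    {p q : ℕ} (hp : p.Prime) (hq : q.Prime) (hpq : p ≠ q)
    (hN : M₂ ⊓ normalizer (pCoreOf q M₁ : Set G) = M₁ ⊓ M₂) : pCoreOf p M₁ ≤ pCoreOf p M₂ := by
  have k1 : ∀ r : ℕ, r.Prime → pCoreOf r M₁ ≤ M₂ := fun r hr => (pCoreOf_le_fittingOf hr M₁).trans h₁
  have k2 : ∀ r : ℕ, r.Prime → pCoreOf r M₁ ≤ pCoreOf r (M₁ ⊓ M₂) := fun r hr =>
    (snIn_inf (snIn_pCoreOf r M₁) (k1 r hr)).le_pCoreOf (isPGroup_pCoreOf r M₁)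
  have kF : fittingOf M₂ ≤ fittingOf (M₁ ⊓ M₂) :=
    (inf_comm M₁ M₂ ▸ snIn_inf (snIn_fittingOf M₂) h₂).le_fittingOf inferInstance
  set Q := fittingOf M₂ ⊓ pPrimeCoreOf p M₂ with hQ
  have hQn : M₂ ≤ normalizer (Q : Set G) :=
    H1.le_normalizer_inf (le_normalizer_fittingOf M₂) (le_normalizer_pPrimeCoreOf p M₂)
  have k3 : Q ≤ pPrimeCoreOf p (M₁ ⊓ M₂) :=
    (snIn_of_le_fittingOf (inf_le_left.trans kF)).le_pPrimeCoreOf
      ((coprime_card_pPrimeCoreOf p M₂).coprime_dvd_left (card_dvd_of_le inf_le_right))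
  have k4 : pCoreOf p M₁ ≤ M₂ ⊓ centralizer (Q : Set G) := le_inf (k1 p hp)
    (le_centralizer_iff.1 (k3.trans ((pPrimeCoreOf_le_centralizer_pCoreOf hp _).trans
      (centralizer_anti (k2 p hp)))))
  have k5 : pCoreOf q M₁ ≤ M₂ ⊓ centralizer (pCoreOf p M₂ : Set G) := le_inf (k1 q hq)
    (((k2 q hq).trans (pCoreOf_le_pPrimeCoreOf hq hp hpq.symm _)).trans
      ((pPrimeCoreOf_le_centralizer_pCoreOf hp _).trans (centralizer_anti
        (le_pCoreOf_of_le_fittingOf (isPGroup_pCoreOf p M₂)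
          ((pCoreOf_le_fittingOf hp M₂).trans kF)))))
  have n1 : M₂ ≤ normalizer ((M₂ ⊓ centralizer (Q : Set G) : Subgroup G) : Set G) :=
    H1.le_normalizer_inf le_normalizer (H1.le_normalizer_centralizer hQn)
  have n2 : M₂ ≤ normalizer ((M₂ ⊓ centralizer (pCoreOf p M₂ : Set G) : Subgroup G) : Set G) :=
    H1.le_normalizer_inf le_normalizer (H1.le_normalizer_centralizer (le_normalizer_pCoreOf p M₂))
  have k6 : ⁅M₂ ⊓ centralizer (pCoreOf p M₂ : Set G), M₂ ⊓ centralizer (Q : Set G)⁆ ≤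
      fittingOf M₂ := by
    refine le_trans ?_ (inf_centralizer_fittingOf_le_of_layerOf_eq_bot hE)
    have a1 := le_normalizer_iff_commutator_le_left.1 (inf_le_left.trans n2 :
      M₂ ⊓ centralizer (Q : Set G) ≤ _)
    have a2 := le_normalizer_iff_commutator_le_right.1 (inf_le_left.trans n1 :
      M₂ ⊓ centralizer (pCoreOf p M₂ : Set G) ≤ _)
    refine le_inf (a1.trans inf_le_left) ?_
    rw [le_centralizer_iff, fittingOf_eq_pCoreOf_sup hp M₂]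
    exact sup_le (le_centralizer_iff.1 (a1.trans inf_le_right))
      (le_centralizer_iff.1 (a2.trans inf_le_right))
  have k7 : nclIn M₂ (pCoreOf p M₁) ≤ M₁ ⊓ M₂ := by
    rw [← hN, nclIn_le_iff]
    intro g hg
    have hX : MulAut.conj g • pCoreOf p M₁ ≤ M₂ ⊓ centralizer (Q : Set G) :=
      (conj_smul_mono g k4).trans (mem_normalizer_iff_conj_smul.1 (n1 hg)).le
    refine le_inf (hX.trans inf_le_left) (H1.le_normalizer_of_le_centralizer ?_)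
    intro x hx r hr
    have hx' := hX hx
    obtain ⟨a, ha⟩ := exists_pow_eq_one_of_mem ((isPGroup_pCoreOf p M₁).map _) hx
    obtain ⟨b, hb⟩ := exists_pow_eq_one_of_mem (isPGroup_pCoreOf q M₁) hr
    have z1 : ⁅r⁻¹, x⁆ ∈ fittingOf M₂ := k6 (commutator_mem_commutator (k5 (inv_mem hr)) hx')
    have r1 : r ∈ pCoreOf q (M₁ ⊓ M₂) := k2 q hq hr
    have z2 : x * r * x⁻¹ ∈ pCoreOf q (M₁ ⊓ M₂) := by
      refine mem_pCoreOf_of_mem_fittingOf (k := b) (by rw [conj_pow, hb]; simp) ?_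
      have := mul_mem (pCoreOf_le_fittingOf hq _ r1) (kF z1)
      simpa [commutatorElement_def, mul_assoc] using this
    have z3 : ⁅r⁻¹, x⁆ ∈ pCoreOf q (M₁ ⊓ M₂) := by
      have := mul_mem (inv_mem r1) z2
      simpa [commutatorElement_def, mul_assoc] using this
    obtain ⟨c, hc⟩ := exists_pow_eq_one_of_mem (isPGroup_pCoreOf q _) z3
    have z4 : ⁅r⁻¹, x⁆ ∈ Q := ⟨z1, pCoreOf_le_pPrimeCoreOf hq hp hpq.symm _
      (mem_pCoreOf_of_mem_fittingOf hc z1)⟩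
    have z5 : Commute ⁅r⁻¹, x⁆ x := hx'.2 _ z4
    have z6 : ∀ n : ℕ, ⁅r⁻¹, x⁆ ^ n = ⁅r⁻¹, x ^ n⁆ := by
      intro n
      induction n with
      | zero => simp
      | succ n ih =>
        rw [pow_succ x, commutatorElement_mul_right_eq_mul_conj, ← ih, pow_succ, mul_assoc,
          mul_assoc, ← mul_assoc (x ^ n), (z5.symm.pow_left n).eq, mul_inv_cancel_right]
    have z7 : ⁅r⁻¹, x⁆ ^ p ^ a = 1 := by rw [z6, ha, commutatorElement_one_right]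
    have z8 : ⁅r⁻¹, x⁆ = 1 := by
      have := pow_gcd_eq_one.2 ⟨z7, hc⟩
      rwa [Nat.Coprime.gcd_eq_one (Nat.coprime_pow_primes a c hp hq hpq), pow_one] at this
    exact (Commute.inv_left_iff.1 (commutatorElement_eq_one_iff_commute.1 z8)).eq
  refine SnIn.le_pCoreOf ?_ (isPGroup_pCoreOf p M₁)
  exact (SnIn.of_normal (le_nclIn _ _) ((k7.trans inf_le_left).trans
    (le_normalizer_pCoreOf p M₁))).trans
    (SnIn.of_normal (k7.trans inf_le_right) (le_normalizer_nclIn _ _))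

/-- Bender's Theorem on primitive pairs. Two distinct subgroups M₁, M₂ of G form a primitive pair when, for {i, j} = {1, 2}, every non-trivial normal subgroup A of M_i contained in M₁ ∩ M₂ satisfies N_{M_j}(A) = M₁ ∩ M₂; the pair has characteristic p when moreover C_{M_i}(O_p(M_i)) ≤ O_p(M_i) for both i and O_p(M₁)O_p(M₂) ≤ M₁ ∩ M₂. If (M₁, M₂) is a primitive pair of the finite group G with F*(M₁) ≤ M₂ and F*(M₂) ≤ M₁, then for some prime p the pair has characteristic p. -/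
theorem result {G : Type*} [Group G] [Finite G] (M₁ M₂ : Subgroup G) (hne : M₁ ≠ M₂) (hP : ∀ A : Subgroup G, A ≠ ⊥ → A ≤ M₁ ⊓ M₂ → (M₁ ≤ Subgroup.normalizer (A : Set G) → M₂ ⊓ Subgroup.normalizer (A : Set G) = M₁ ⊓ M₂) ∧ (M₂ ≤ Subgroup.normalizer (A : Set G) → M₁ ⊓ Subgroup.normalizer (A : Set G) = M₁ ⊓ M₂)) (h₁ : (Cfsg.generalizedFittingSubgroup ↥M₁).map M₁.subtype ≤ M₂) (h₂ : (Cfsg.generalizedFittingSubgroup ↥M₂).map M₂.subtype ≤ M₁) : ∃ p : ℕ, p.Prime ∧ Subgroup.centralizer (Cfsg.pCore p ↥M₁ : Set ↥M₁) ≤ Cfsg.pCore p ↥M₁ ∧ Subgroup.centralizer (Cfsg.pCore p ↥M₂ : Set ↥M₂) ≤ Cfsg.pCore p ↥M₂ ∧ (Cfsg.pCore p ↥M₁).map M₁.subtype ⊔ (Cfsg.pCore p ↥M₂).map M₂.subtype ≤ M₁ ⊓ M₂ := by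
  change fstarOf M₁ ≤ M₂ at h₁
  change fstarOf M₂ ≤ M₁ at h₂
  have hno : ∀ A : Subgroup G, A ≤ M₁ → A ≤ M₂ → M₁ ≤ normalizer (A : Set G) →
      M₂ ≤ normalizer (A : Set G) → A = ⊥ := by
    intro A a1 a2 a3 a4
    by_contra h0
    obtain ⟨b1, b2⟩ := hP A h0 (le_inf a1 a2)
    have b3 := b1 a3
    have b4 := b2 a4
    rw [inf_eq_left.2 a4] at b3
    rw [inf_eq_left.2 a3] at b4
    exact hne (b4.trans b3.symm)
  have hE := le_antisymm (layer_le h₁ h₂) (layer_le h₂ h₁)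
  have hE1 : layerOf M₁ = ⊥ := hno _ (layerOf_le _) (hE ▸ layerOf_le _) (le_normalizer_layerOf _)
    (hE ▸ le_normalizer_layerOf _)
  have hE2 : layerOf M₂ = ⊥ := hE ▸ hE1
  have f₁ := (fittingOf_le_fstarOf M₁).trans h₁
  have f₂ := (fittingOf_le_fstarOf M₂).trans h₂
  obtain ⟨p, hp, hp1⟩ : ∃ p : ℕ, p.Prime ∧ pCoreOf p M₁ ≠ ⊥ := by
    by_contra! hall
    have a1 : fittingOf M₁ = ⊥ := by
      rw [fittingOf_eq_iSup_pCoreOf, iSup_eq_bot]
      exact fun p => hall p p.2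
    have a2 : M₁ = ⊥ := by
      by_contra h0
      exact fstarOf_ne_bot h0 (by rw [fstarOf_eq, a1, hE1, bot_sup_eq])
    have a3 : M₂ = ⊥ := by
      by_contra h0
      exact fstarOf_ne_bot h0 (eq_bot_iff.2 (a2 ▸ h₂))
    exact hne (a2.trans a3.symm)
  have hq1 : ∀ q : ℕ, q.Prime → q ≠ p → pCoreOf q M₁ = ⊥ := by
    intro q hq hqp
    by_contra h0
    have h0' : pCoreOf q M₂ ≠ ⊥ := fun e => h0 (lemmaA f₁ f₂ hE2 hq e)
    have a1 := lemmaB f₁ f₂ hE2 hp hq hqp.symm ((hP _ h0 (le_inf (pCoreOf_le q M₁)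
      ((pCoreOf_le_fittingOf hq M₁).trans f₁))).1 (le_normalizer_pCoreOf q M₁))
    have a2 := lemmaB f₂ f₁ hE1 hp hq hqp.symm (((hP _ h0' (le_inf
      ((pCoreOf_le_fittingOf hq M₂).trans f₂) (pCoreOf_le q M₂))).2
        (le_normalizer_pCoreOf q M₂)).trans (inf_comm _ _))
    have e := le_antisymm a1 a2
    exact hp1 (hno _ (pCoreOf_le p M₁) (e ▸ pCoreOf_le p M₂) (le_normalizer_pCoreOf p M₁)
      (e ▸ le_normalizer_pCoreOf p M₂))
  have hF : ∀ M : Subgroup G, (∀ q : ℕ, q.Prime → q ≠ p → pCoreOf q M = ⊥) →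
      fittingOf M = pCoreOf p M := by
    intro M h
    refine le_antisymm ?_ (pCoreOf_le_fittingOf hp M)
    rw [fittingOf_eq_iSup_pCoreOf]
    refine iSup_le fun q => ?_
    by_cases e : (q : ℕ) = p
    · rw [e]
    · rw [h q q.2 e]; exact bot_le
  have e1 := hF M₁ hq1
  have e2 := hF M₂ fun q hq hqp => lemmaA f₂ f₁ hE1 hq (hq1 q hq hqp)
  refine ⟨p, hp, centralizer_map_subtype_le_iff.2 ?_, centralizer_map_subtype_le_iff.2 ?_, ?_⟩
  · have := inf_centralizer_fittingOf_le_of_layerOf_eq_bot hE1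
    rwa [e1] at this
  · have := inf_centralizer_fittingOf_le_of_layerOf_eq_bot hE2
    rwa [e2] at this
  · exact sup_le (le_inf (pCoreOf_le p M₁) (e1 ▸ f₁ : pCoreOf p M₁ ≤ M₂))
      (le_inf (e2 ▸ f₂ : pCoreOf p M₂ ≤ M₁) (pCoreOf_le p M₂))

end Cfsg.Agent.S3752
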