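import Cfsg.Statements.S3753
import Cfsg.Agent.H2.PStable

set_option autoImplicit false
open Cfsg

namespace Cfsg.Agent.S3753

open Subgroup
open scoped Pointwise

variable {G : Type*} [Group G]

theorem le_of_path {ι : Type*} (Adj : ι → ι → Prop) (hsymm : ∀ u v, Adj u v → Adj v u)
    (M Q W : ι → Subgroup G) (hWQ : ∀ v, W v ≤ Q v)
    (hWc : ∀ v, W v ≤ centralizer (W v : Set G)) (hMW : ∀ v, M v ≤ normalizer (W v : Set G))
    (hQM : ∀ u v, Adj u v → Q u ≤ M v)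
    (key : ∀ u v X, Adj u v → X ≤ Q u → ⁅⁅W v, X⁆, X⁆ = ⊥ → X ≤ Q v) {u v : ι}
    (h : Relation.ReflTransGen Adj u v) : W u ≤ Q v := by
  have h1 : ∀ (n : ℕ) (path : ℕ → ι), (∀ k < n, Adj (path k) (path (k + 1))) →
      W (path 0) ≤ Q (path n) := by
    intro n
    induction n with
    | zero => exact fun path _ => hWQ _
    | succ n ih =>
      intro path hp
      have a1 := ih path fun k hk => hp k (by omega)
      have a2 := ih (fun k => path (n + 1 - k)) fun k hk => by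
        have := hp (n - k) (by omega)
        rw [show n - k + 1 = n + 1 - k by omega, show n - k = n + 1 - (k + 1) by omega] at this
        exact hsymm _ _ this
      simp only [Nat.sub_zero, Nat.add_sub_cancel_left] at a2
      have a3 := (a2.trans (hQM _ _ (hsymm _ _ (hp 0 (by omega))))).trans (hMW _)
      exact key _ _ _ (hp n (by omega)) a1 (commutator_eq_bot_iff_le_centralizer.2
        ((le_normalizer_iff_commutator_le_right.1 a3).trans (hWc _)))
  obtain ⟨n, path, e1, e2, hp⟩ : ∃ (n : ℕ) (path : ℕ → ι), path 0 = u ∧ path n = v ∧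
      ∀ k < n, Adj (path k) (path (k + 1)) := by
    induction h with
    | refl => exact ⟨0, fun _ => u, rfl, rfl, fun k hk => absurd hk (Nat.not_lt_zero k)⟩
    | tail _ hbc ih =>
      obtain ⟨n, path, e1, e2, hp⟩ := ih
      rename_i b c _
      refine ⟨n + 1, fun k => if k ≤ n then path k else c, by simp [e1], by simp, fun k hk => ?_⟩
      rcases (Nat.lt_succ_iff.1 hk).lt_or_eq with h | rfl
      · simpa [h.le, Nat.succ_le_of_lt h] using hp k h
      · simpa [e2] using hbc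
  rw [← e1, ← e2]
  exact h1 n path hp

theorem snIn_sup [Finite G] {p : ℕ} [hp : Fact p.Prime] (hp2 : p ≠ 2)
    {M Y X : Subgroup G} (hY : IsPGroup p Y) (hMY : M ≤ normalizer (Y : Set G))
    (hab : ∀ T ≤ M, IsPGroup 2 T → IsMulCommutative T) (hXM : X ≤ M) (hq : ⁅⁅Y, X⁆, X⁆ = ⊥) :
    H2.SnIn M (X ⊔ M ⊓ centralizer (Y : Set G)) := by
  have hN := H1.normal_subgroupOf_of_le (H1.le_normalizer_inf le_normalizer
    (H1.le_normalizer_centralizer hMY))
  have h1 := H2.snIn_sup_centralizer_of_quadratic hp2 hY hMY hab hXM hq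
    (H1.qmk M (M ⊓ centralizer (Y : Set G))) H1.qmk_surjective
    (fun m => H1.qmk_eq_one_iff.trans ⟨fun h => h.2, fun h => ⟨m.2, h⟩⟩)
  have h2 := H2.isSubnormal_of_le_fittingSubgroup (h1.trans (L.pCore_le_fittingSubgroup hp.out))
  rw [← H1.unbar_bar inf_le_left hXM]
  exact H2.snIn_map_subtype (h2.comap _)

theorem exists_data [Finite G] {p : ℕ} [hp : Fact p.Prime] (hp2 : p ≠ 2) {M₁ M₂ : Subgroup G}
    (hne : M₁ ≠ M₂)
    (hP₂ : ∀ A : Subgroup G, A ≠ ⊥ → A ≤ M₁ ⊓ M₂ → M₂ ≤ normalizer (A : Set G) →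
      M₁ ⊓ normalizer (A : Set G) ≤ M₂)
    (hc₁ : M₁ ⊓ centralizer (pCoreOf p M₁ : Set G) ≤ pCoreOf p M₁)
    (hc₂ : M₂ ⊓ centralizer (pCoreOf p M₂ : Set G) ≤ pCoreOf p M₂)
    (hO₁ : pCoreOf p M₁ ≤ M₂) (hO₂ : pCoreOf p M₂ ≤ M₁)
    (hab₁ : ∀ T ≤ M₁, IsPGroup 2 T → IsMulCommutative T)
    (hab₂ : ∀ T ≤ M₂, IsPGroup 2 T → IsMulCommutative T) :
    ∃ W : Subgroup G, W ≠ ⊥ ∧ W ≤ pCoreOf p M₁ ∧ W ≤ centralizer (W : Set G) ∧
      M₁ ≤ normalizer (W : Set G) ∧
      ∀ X ≤ pCoreOf p M₂, ⁅⁅W, X⁆, X⁆ = ⊥ → X ≤ pCoreOf p M₁ := by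
  obtain ⟨V, h1, h2, h3, h4, -, h6⟩ := H2.exists_reduced (H2.isPGroup_pCoreOf p M₂)
    (H2.pCoreOf_ne_bot_of_pair hne.symm hc₂ hc₁ hO₁) (H2.le_normalizer_pCoreOf p M₂)
    (H2.pCoreOf_le p M₂)
  have hVc := H2.le_centralizer_of_comm h4.1
  have hVp := H2.isPGroup_of_elemAb h4
  have hVQ : V ≤ pCoreOf p M₁ := by
    refine le_sup_left.trans ((snIn_sup hp2 (H2.isPGroup_pCoreOf p M₁)
      (H2.le_normalizer_pCoreOf p M₁) hab₁ (h1.trans hO₂) (commutator_eq_bot_iff_le_centralizer.2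
        ((le_normalizer_iff_commutator_le_right.1 (hO₁.trans h3)).trans hVc))).le_pCoreOf ?_)
    exact (IsPGroup.to_sup_of_normal_right' hVp (H2.isPGroup_pCoreOf p M₁)
      ((h1.trans hO₂).trans (H2.le_normalizer_pCoreOf p M₁))).to_le (sup_le_sup_left hc₁ _)
  have hconj : ∀ g ∈ M₁, MulAut.conj g • pCoreOf p M₁ = pCoreOf p M₁ := fun g hg =>
    H2.mem_normalizer_iff_conj_smul.1 (H2.le_normalizer_pCoreOf p M₁ hg)
  have hWQ : H2.nclIn M₁ V ≤ pCoreOf p M₁ :=
    H2.nclIn_le_of_normal hVQ (H2.le_normalizer_pCoreOf p M₁)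
  have hWV : H2.nclIn M₁ V ≤ centralizer (V : Set G) := H2.nclIn_le_iff.2 fun g hg => by
    have hN := H1.normal_subgroupOf_of_le (H1.le_normalizer_centralizer h3)
    have a0 : MulAut.conj g • V ≤ M₂ := ((H2.conj_le_nclIn V hg).trans hWQ).trans hO₁
    have a1 : V ≤ normalizer ((MulAut.conj g • V : Subgroup G) : Set G) := by
      rw [H2.normalizer_conj_smul]
      exact (hVQ.trans (hconj g hg).ge).trans (H2.conj_smul_mono g (hO₁.trans h3))
    have a2 := H2.snIn_sup_centralizer_of_quadratic hp2 hVp h3 hab₂ a0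
      (commutator_eq_bot_iff_le_centralizer.2 ((le_normalizer_iff_commutator_le_right.1 a1).trans
        (H2.le_centralizer_of_comm (H2.elemAb_conj_smul h4 g).1)))
      (H1.qmk M₂ (centralizer (V : Set G))) H1.qmk_surjective fun m => H1.qmk_eq_one_iff
    rw [H2.pCore_eq_bot_of_irreducible hVp h2 h3 h6 _ H1.qmk_surjective
      fun m => H1.qmk_eq_one_iff, le_bot_iff] at a2
    exact (H1.bar_eq_bot_iff a0).1 a2
  have hMW := H2.le_normalizer_nclIn M₁ V
  refine ⟨H2.nclIn M₁ V, fun e => h2 (eq_bot_iff.2 (e ▸ H2.le_nclIn M₁ V)), hWQ, ?_, hMW,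
    fun X hX hq => ?_⟩
  · refine H2.nclIn_le_iff.2 fun g hg => ?_
    rw [le_centralizer_iff, H2.centralizer_conj_smul,
      ← H2.mem_normalizer_iff_conj_smul.1 (hMW hg)]
    exact H2.conj_smul_mono g hWV
  · have a1 := snIn_sup hp2 ((H2.isPGroup_pCoreOf p M₁).to_le hWQ) hMW hab₁ (hX.trans hO₂) hq
    set K := M₁ ⊓ centralizer ((H2.nclIn M₁ V : Subgroup G) : Set G) with hK
    have a2 : K ≤ M₂ := le_trans (inf_le_inf_left _ (H1.le_normalizer_of_le_centralizer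
      (centralizer_le (SetLike.coe_subset_coe.2 (H2.le_nclIn M₁ V)))))
      (hP₂ V h2 (h1.trans (le_inf hO₂ (H2.pCoreOf_le p M₂))) h3)
    have a3 : K ≤ normalizer (pCoreOf p M₂ : Set G) := a2.trans (H2.le_normalizer_pCoreOf p M₂)
    have a4 : M₁ ≤ normalizer (K : Set G) :=
      H1.le_normalizer_inf le_normalizer (H1.le_normalizer_centralizer hMW)
    have a5 : X ⊔ K ≤ normalizer ((X ⊔ K ⊓ pCoreOf p M₂ : Subgroup G) : Set G) :=
      sup_le (le_sup_left.trans le_normalizer) (H2.le_normalizer_sup_of_commutator_le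
        (H1.le_normalizer_inf le_normalizer a3) (le_trans (le_inf
          (le_normalizer_iff_commutator_le_right.1 ((hX.trans hO₂).trans a4))
          ((commutator_mono hX le_rfl).trans (le_normalizer_iff_commutator_le_left.1 a3)))
          le_sup_right))
    exact le_sup_left.trans (((H2.SnIn.of_normal (sup_le_sup_left inf_le_left _) a5).trans
      a1).le_pCoreOf ((H2.isPGroup_pCoreOf p M₂).to_le (sup_le hX inf_le_right)))

theorem main [Finite G] {p : ℕ} {M W : Bool → Subgroup G}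
    (hO : ∀ b, pCoreOf p (M b) ≤ M (!b)) (h1 : ∀ b, W b ≤ pCoreOf p (M b))
    (h2 : ∀ b, W b ≤ centralizer (W b : Set G)) (h3 : ∀ b, M b ≤ normalizer (W b : Set G))
    (h4 : ∀ b, ∀ X ≤ pCoreOf p (M b), ⁅⁅W (!b), X⁆, X⁆ = ⊥ → X ≤ pCoreOf p (M (!b))) :
    H2.nclIn (M true ⊔ M false) (W true) ≤ M true ⊓ M false := by
  let Adj : G × Bool → G × Bool → Prop := fun u v =>
    v.2 = !u.2 ∧ ∃ k, u.1⁻¹ * k ∈ M u.2 ∧ v.1⁻¹ * k ∈ M v.2
  have hsymm : ∀ u v, Adj u v → Adj v u := fun u v ⟨e, k, a, b⟩ => ⟨by simp [e], k, b, a⟩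
  have hc : ∀ (X : Subgroup G) (g k : G), g⁻¹ * k ∈ normalizer (X : Set G) →
      MulAut.conj g • X = MulAut.conj k • X := fun X g k h => by
    rw [← H2.mem_normalizer_iff_conj_smul.1 h, ← H2.conj_smul_mul, mul_inv_cancel_left,
      H2.mem_normalizer_iff_conj_smul.1 h]
  have key := @le_of_path G _ _ Adj hsymm (fun u => MulAut.conj u.1 • M u.2)
    (fun u => MulAut.conj u.1 • pCoreOf p (M u.2)) (fun u => MulAut.conj u.1 • W u.2)
    (fun v => H2.conj_smul_mono _ (h1 _))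
    (fun v => by rw [H2.centralizer_conj_smul]; exact H2.conj_smul_mono _ (h2 _))
    (fun v => by rw [H2.normalizer_conj_smul]; exact H2.conj_smul_mono _ (h3 _))
    (by
      rintro ⟨g, b⟩ ⟨h, c⟩ ⟨rfl, k, a1, a2⟩
      rw [hc _ g k (H2.le_normalizer_pCoreOf p _ a1), hc _ h k (le_normalizer a2)]
      exact H2.conj_smul_mono _ (hO _))
    (by
      rintro ⟨g, b⟩ ⟨h, c⟩ X ⟨rfl, k, a1, a2⟩ a3 a4
      obtain ⟨X, rfl⟩ : ∃ X', X = MulAut.conj k • X' := ⟨_, (H2.conj_smul_cancel_inv X k).symm⟩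
      rw [hc _ g k (H2.le_normalizer_pCoreOf p _ a1)] at a3
      rw [hc _ h k (h3 _ a2), ← H2.conj_smul_commutator, ← H2.conj_smul_commutator] at a4
      rw [hc _ h k (H2.le_normalizer_pCoreOf p _ a2)]
      refine H2.conj_smul_mono _ (h4 _ X (pointwise_smul_le_pointwise_smul_iff.1 a3) ?_)
      rw [← H2.conj_smul_inj (g := k), a4, smul_bot])
  have reach : ∀ g ∈ M true ⊔ M false, Relation.ReflTransGen Adj (g, true) (1, true) := by
    intro g hg
    rw [sup_eq_closure] at hg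
    induction hg using closure_induction_right with
    | one => exact .refl
    | mul_right x _ y hy ih =>
      rcases hy with hy | hy
      · exact .head (b := (x * y, false)) ⟨rfl, x * y, by simp, by simp⟩
          (.head ⟨rfl, x * y, by simp, by simpa using hy⟩ ih)
      · exact .head (b := (x, false)) ⟨rfl, x * y, by simp, by simpa using hy⟩
          (.head ⟨rfl, x, by simp, by simp⟩ ih)
    | mul_inv_cancel x _ y hy ih =>
      rcases hy with hy | hy
      · exact .head (b := (x * y⁻¹, false)) ⟨rfl, x * y⁻¹, by simp, by simp⟩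
          (.head ⟨rfl, x * y⁻¹, by simp, by simpa using hy⟩ ih)
      · exact .head (b := (x, false)) ⟨rfl, x * y⁻¹, by simp, by simpa using hy⟩
          (.head ⟨rfl, x, by simp, by simp⟩ ih)
  refine H2.nclIn_le_iff.2 fun g hg => ?_
  have a1 := key (reach g hg)
  simp only [H2.conj_smul_one] at a1
  exact a1.trans (le_inf (H2.pCoreOf_le p _) (hO true))

/-- Two distinct subgroups M₁, M₂ of G form a primitive pair when, for {i, j} = {1, 2}, every non-trivial normal subgroup A of M_i contained in M₁ ∩ M₂ satisfies N_{M_j}(A) = M₁ ∩ M₂; the pair has characteristic p when moreover C_{M_i}(O_p(M_i)) ≤ O_p(M_i) for both i and O_p(M₁)O_p(M₂) ≤ M₁ ∩ M₂. If the finite group G has a primitive pair (M₁, M₂) of characteristic p for some prime p, then M₁ or M₂ has non-abelian Sylow 2-subgroups. In particular no group of odd order has a primitive pair of characteristic p. -/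
theorem result {G : Type*} [Group G] [Finite G] {p : ℕ} [Fact p.Prime] (M₁ M₂ : Subgroup G) (hne : M₁ ≠ M₂) (hP : ∀ A : Subgroup G, A ≠ ⊥ → A ≤ M₁ ⊓ M₂ → (M₁ ≤ Subgroup.normalizer (A : Set G) → M₂ ⊓ Subgroup.normalizer (A : Set G) = M₁ ⊓ M₂) ∧ (M₂ ≤ Subgroup.normalizer (A : Set G) → M₁ ⊓ Subgroup.normalizer (A : Set G) = M₁ ⊓ M₂)) (hc₁ : Subgroup.centralizer (Cfsg.pCore p ↥M₁ : Set ↥M₁) ≤ Cfsg.pCore p ↥M₁) (hc₂ : Subgroup.centralizer (Cfsg.pCore p ↥M₂ : Set ↥M₂) ≤ Cfsg.pCore p ↥M₂) (hO : (Cfsg.pCore p ↥M₁).map M₁.subtype ⊔ (Cfsg.pCore p ↥M₂).map M₂.subtype ≤ M₁ ⊓ M₂) : (∃ S : Sylow 2 ↥M₁, ¬ IsMulCommutative (S : Subgroup ↥M₁)) ∨ (∃ S : Sylow 2 ↥M₂, ¬ IsMulCommutative (S : Subgroup ↥M₂)) := by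
  by_contra hcon
  rw [not_or, not_exists, not_exists] at hcon
  have hab : ∀ M : Subgroup G, (∀ S : Sylow 2 M, ¬¬ IsMulCommutative (S : Subgroup M)) →
      ∀ T ≤ M, IsPGroup 2 T → IsMulCommutative T := fun M h T hT hTp => by
    obtain ⟨S, hS⟩ := (hTp.comap_subtype (K := M)).exists_le_sylow
    have h1 := H2.le_centralizer_of_comm (not_not.1 (h S))
    exact ⟨⟨fun a b => Subtype.ext (congrArg M.subtype
      (h1 (hS (show (⟨b, hT b.2⟩ : M) ∈ T.comap M.subtype from b.2)) ⟨a, hT a.2⟩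
        (hS (show (⟨a, hT a.2⟩ : M) ∈ T.comap M.subtype from a.2))))⟩⟩
  have hab₁ := hab M₁ hcon.1
  have hab₂ := hab M₂ hcon.2
  have hc₁' := H2.centralizer_map_subtype_le_iff.1 hc₁
  have hc₂' := H2.centralizer_map_subtype_le_iff.1 hc₂
  have hO₁ : pCoreOf p M₁ ≤ M₂ := le_sup_left.trans (hO.trans inf_le_right)
  have hO₂ : pCoreOf p M₂ ≤ M₁ := le_sup_right.trans (hO.trans inf_le_left)
  have fin : ∀ A : Subgroup G, A ≠ ⊥ → A ≤ M₁ ⊓ M₂ → M₁ ≤ normalizer (A : Set G) →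
      M₂ ≤ normalizer (A : Set G) → False := fun A a1 a2 a3 a4 =>
    hne (le_antisymm ((le_inf le_rfl a3).trans (((hP A a1 a2).2 a4).le.trans inf_le_right))
      ((le_inf le_rfl a4).trans (((hP A a1 a2).1 a3).le.trans inf_le_left)))
  by_cases hp2 : p = 2
  · subst hp2
    have key : ∀ M N : Subgroup G, (∀ T ≤ M, IsPGroup 2 T → IsMulCommutative T) →
        M ⊓ centralizer (pCoreOf 2 M : Set G) ≤ pCoreOf 2 M → pCoreOf 2 N ≤ M →
        pCoreOf 2 N ≤ pCoreOf 2 M := fun M N h1 h2 h3 =>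
      le_trans (le_inf h3 (le_sup_left.trans ((H2.le_centralizer_of_comm (h1 _
        (sup_le h3 (H2.pCoreOf_le 2 M)) (IsPGroup.to_sup_of_normal_right'
          (H2.isPGroup_pCoreOf 2 N) (H2.isPGroup_pCoreOf 2 M)
          (h3.trans (H2.le_normalizer_pCoreOf 2 M))))).trans
        (centralizer_le (SetLike.coe_subset_coe.2 le_sup_right))))) h2
    have e := le_antisymm (key _ _ hab₂ hc₂' hO₁) (key _ _ hab₁ hc₁' hO₂)
    exact fin _ (H2.pCoreOf_ne_bot_of_pair hne hc₁' hc₂' hO₂) (le_inf (H2.pCoreOf_le 2 M₁) hO₁)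
      (H2.le_normalizer_pCoreOf 2 M₁) (e ▸ H2.le_normalizer_pCoreOf 2 M₂)
  obtain ⟨W₁, a1, a2, a3, a4, a5⟩ := exists_data hp2 hne
    (fun A k1 k2 k3 => ((hP A k1 k2).2 k3).le.trans inf_le_right) hc₁' hc₂' hO₁ hO₂ hab₁ hab₂
  obtain ⟨W₂, b1, b2, b3, b4, b5⟩ := exists_data hp2 hne.symm
    (fun A k1 k2 k3 => ((hP A k1 (inf_comm M₂ M₁ ▸ k2)).1 k3).le.trans inf_le_left) hc₂' hc₁'
    hO₂ hO₁ hab₂ hab₁
  have := main (p := p) (M := fun b => cond b M₁ M₂) (W := fun b => cond b W₁ W₂)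
    (by rintro (_ | _) <;> assumption) (by rintro (_ | _) <;> assumption)
    (by rintro (_ | _) <;> assumption) (by rintro (_ | _) <;> assumption)
    (by rintro (_ | _) <;> assumption)
  exact fin _ (fun e => a1 (eq_bot_iff.2 (e ▸ H2.le_nclIn _ _))) this
    (le_sup_left.trans (H2.le_normalizer_nclIn _ _))
    (le_sup_right.trans (H2.le_normalizer_nclIn _ _))

end Cfsg.Agent.S3753
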