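import Cfsg.Statements.S4025
import Cfsg.Agent.H4.SemiLin2
import Cfsg.Agent.H1.EAMod
import Cfsg.Agent.L.Cores

set_option autoImplicit false
open Cfsg

namespace Cfsg.Agent.S4025

open Subgroup Module Cfsg.Agent.H4.SemiLin Cfsg.Agent.H1
open scoped IsMulCommutative

theorem fusion {G : Type*} [Group G] [Finite G] {p : ℕ} [Fact p.Prime] (P : Sylow p G)
    [IsMulCommutative (P : Subgroup G)] {A B : Subgroup G} (hA : A ≤ P) (hB : B ≤ P) {g : G}
    (hg : B = A.map (MulAut.conj g).toMonoidHom) :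
    ∃ n ∈ normalizer ((P : Subgroup G) : Set G), B = A.map (MulAut.conj n).toMonoidHom := by
  have h1 : (P : Subgroup G) ≤ centralizer (B : Set G) := fun x hx b hb =>
    setLike_mul_comm (s := (P : Subgroup G)) (hB hb) hx
  have h2 : ((g • P : Sylow p G) : Subgroup G) ≤ centralizer (B : Set G) := by
    rintro - ⟨z, hz, rfl⟩ b hb
    rw [hg] at hb
    obtain ⟨a, ha, rfl⟩ := hb
    have := setLike_mul_comm (s := (P : Subgroup G)) (hA ha) hz
    simp only [MulEquiv.coe_toMonoidHom, MulAut.conj_apply, MulDistribMulAction.toMonoidEnd_apply,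
      MulDistribMulAction.toMonoidHom_apply, MulAut.smul_def]
    calc g * a * g⁻¹ * (g * z * g⁻¹) = g * (a * z) * g⁻¹ := by group
      _ = g * (z * a) * g⁻¹ := by rw [this]
      _ = _ := by group
  obtain ⟨h, hh⟩ :=
    MulAction.exists_smul_eq (centralizer (B : Set G)) ((g • P).subtype h2) (P.subtype h1)
  simp_rw [Sylow.smul_subtype, Subgroup.smul_def, smul_smul] at hh
  refine ⟨h * g, Sylow.smul_eq_iff_mem_normalizer.mp (Sylow.subtype_injective hh), ?_⟩
  ext b
  constructor
  · intro hb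
    have hb' := hb
    rw [hg] at hb'
    obtain ⟨a, ha, rfl⟩ := hb'
    refine ⟨a, ha, ?_⟩
    have := h.2 _ hb
    simp only [MulEquiv.coe_toMonoidHom, MulAut.conj_apply] at this ⊢
    calc (h : G) * g * a * ((h : G) * g)⁻¹ = (h * (g * a * g⁻¹)) * (h : G)⁻¹ := by group
      _ = _ := by rw [← this]; group
  · rintro ⟨a, ha, rfl⟩
    have hb : g * a * g⁻¹ ∈ B := hg ▸ ⟨a, ha, rfl⟩
    have := h.2 _ hb
    simp only [MulEquiv.coe_toMonoidHom, MulAut.conj_apply]
    have e : (h : G) * g * a * ((h : G) * g)⁻¹ = (h * (g * a * g⁻¹)) * (h : G)⁻¹ := by group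
    rw [e, ← this, mul_inv_cancel_right]
    exact hb

theorem exists_affine {M : Type*} [Group M] [Finite M] {p : ℕ} [Fact p.Prime] (P : Subgroup M)
    [P.Normal] {n : ℕ} (hcard : Nat.card P = p ^ n) (hidx : ¬ p ∣ P.index)
    (hcomm : IsMulCommutative P) {K : Type*} [AddCommGroup K] (E : P ≃ K)
    (hE : ∀ x y, E (x * y) = E x + E y) :
    ∃ f : M →* Equiv.Perm K, f.ker = pPrimeCore p M ∧
      (∀ m : M, ∃ b : K, ∀ x : P, f m (E x) = E (MulAut.conjNormal m x) + b) ∧
      (∀ (m : M) (b : K), ∃ m' : M, ∀ x : P, f m' (E x) = E (MulAut.conjNormal m x) + b) := by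
  have hp : p.Prime := Fact.out
  have hcop : (Nat.card P).Coprime P.index := by
    rw [hcard]; exact Nat.Coprime.pow_left _ ((Nat.Prime.coprime_iff_not_dvd hp).mpr hidx)
  obtain ⟨C, hC⟩ := exists_right_complement'_of_coprime hcop
  have hdec : ∀ m : M, ∃ (u : P) (c : C), (u : M) * c = m := fun m => by
    obtain ⟨⟨u, c⟩, h⟩ := hC.2 m
    exact ⟨u, c, h⟩
  have hbij : Function.Bijective (fun x : P => ((x : M) : M ⧸ C)) := by
    constructor
    · intro x y hxy
      have h1 : (x : M)⁻¹ * y ∈ C := QuotientGroup.eq.mp hxy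
      have h2 : (x : M)⁻¹ * y ∈ P ⊓ C := ⟨(x⁻¹ * y).2, h1⟩
      rw [hC.disjoint.eq_bot, mem_bot] at h2
      exact Subtype.ext (inv_mul_eq_one.mp h2)
    · intro z
      obtain ⟨m, rfl⟩ := QuotientGroup.mk_surjective z
      obtain ⟨u, c, rfl⟩ := hdec m
      exact ⟨u, QuotientGroup.eq.mpr (by simp)⟩
  let ε : (M ⧸ C) ≃ K := (Equiv.ofBijective _ hbij).symm.trans E
  have hε : ∀ x : P, ε ((x : M) : M ⧸ C) = E x := fun x => by
    simp only [ε, Equiv.trans_apply]
    congr 1
    exact (Equiv.ofBijective _ hbij).symm_apply_apply x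
  let f : M →* Equiv.Perm K := ε.permCongrHom.toMonoidHom.comp (MulAction.toPermHom M (M ⧸ C))
  have hf : ∀ (u : P) (c : C) (x : P),
      f (u * c) (E x) = E (MulAut.conjNormal ((u : M) * c) x) + E u := by
    intro u c x
    rw [← hE, ← hε, ← hε]
    simp only [f, MonoidHom.comp_apply, MulEquiv.coe_toMonoidHom, Equiv.permCongrHom_coe,
      Equiv.permCongr_apply, Equiv.symm_apply_apply, MulAction.toPermHom_apply,
      MulAction.toPerm_apply, MulAction.Quotient.smul_mk, smul_eq_mul]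
    congr 1
    refine QuotientGroup.eq.mpr ?_
    simp [mul_assoc]
  have hE1 : E 1 = 0 := by simpa using hE 1 1
  have hconjP : ∀ (u : P) (m : M) (x : P), MulAut.conjNormal ((u : M) * m) x =
      MulAut.conjNormal m x := by
    intro u m x
    rw [map_mul, MulAut.mul_apply]
    refine Subtype.ext ?_
    rw [MulAut.conjNormal_apply, setLike_mul_comm (s := P) u.2 (MulAut.conjNormal m x).2,
      mul_inv_cancel_right]
  have hCc : (Nat.card C).Coprime p := by
    rw [← hC.symm.index_eq_card]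
    exact ((Nat.Prime.coprime_iff_not_dvd hp).mpr hidx).symm
  refine ⟨f, le_antisymm ?_ ?_, fun m => ?_, fun m b => ?_⟩
  · refine L.le_pPrimeCore inferInstance (hCc.coprime_dvd_left (card_dvd_of_le fun m hm => ?_))
    obtain ⟨u, c, rfl⟩ := hdec m
    have h1 := hf u c 1
    rw [MonoidHom.mem_ker.mp hm, map_one (MulAut.conjNormal _), hE1, zero_add,
      Equiv.Perm.one_apply, ← hE1] at h1
    rw [← E.injective h1]
    simp
  · intro m hm
    have hmC : m ∈ C := by
      refine L.le_of_isPiSubgroup_of_index (π := {p}ᶜ)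
        ((L.isPiSubgroup_compl_singleton_iff hp).mpr (L.coprime_card_pPrimeCore p)) ?_ hm
      intro q hq hqp hd
      rw [hC.index_eq_card, hcard] at hd
      exact hqp ((Nat.prime_dvd_prime_iff_eq hq hp).mp (hq.dvd_of_dvd_pow hd))
    rw [MonoidHom.mem_ker]
    ext y
    obtain ⟨x, rfl⟩ := E.surjective y
    have h1 := hf 1 ⟨m, hmC⟩ x
    rw [OneMemClass.coe_one, one_mul, hE1, add_zero] at h1
    rw [h1, Equiv.Perm.one_apply]
    congr 1
    refine Subtype.ext ?_
    have hPle : P ≤ pCore p M := L.le_pCore inferInstance (IsPGroup.of_card hcard)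
    rw [MulAut.conjNormal_apply, ← L.pPrimeCore_le_centralizer_pCore hp hm _ (hPle x.2),
      mul_inv_cancel_right]
  · obtain ⟨u, c, rfl⟩ := hdec m
    exact ⟨E u, hf u c⟩
  · obtain ⟨u, c, rfl⟩ := hdec m
    refine ⟨E.symm b * c, fun x => ?_⟩
    rw [hf, hconjP, hconjP, Equiv.apply_symm_apply]

theorem main {M : Type*} [Group M] [Finite M] {p : ℕ} [Fact p.Prime] (P : Subgroup M)
    [P.Normal] {n : ℕ} (hn : 3 ≤ n) (hcard : Nat.card P = p ^ n) (hidx : ¬ p ∣ P.index)
    (hel : IsElementaryAbelian p P)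
    (hC : ∀ A B : Subgroup M, A ≤ P → B ≤ P → Nat.card A = Nat.card B →
      ∃ g : M, B = A.map (MulAut.conj g).toMonoidHom)
    (hsolv : Group.IsSolvable (M ⧸ pPrimeCore p M)) :
    (n = 3 ∧ (∃ f : M ⧸ pPrimeCore p M →* ↥(semiaffineGroup (GaloisField p 3)),
        Function.Injective f) ∧
      (p = 2 → Nonempty (M ⧸ pPrimeCore p M ≃* semiaffineGroup (GaloisField 2 3)) ∨
               Nonempty (M ⧸ pPrimeCore p M ≃* affineGroup (GaloisField 2 3)))) ∨
    (n = 5 ∧ p = 2 ∧ Nonempty (M ⧸ pPrimeCore p M ≃* semiaffineGroup (GaloisField 2 5))) := by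
  have hp : p.Prime := Fact.out
  have hcomm := hel.1
  have hM := pow_eq_one_of_isElementaryAbelian hel
  let ρ : M →* End (ZMod p) (EA P hM) := autRep hM (MulAut.conjNormal (H := P))
  have hT : Trans ρ := by
    intro U W hUW
    obtain ⟨g, hg⟩ := hC ((eaSubgroup hM U).map P.subtype) ((eaSubgroup hM W).map P.subtype)
      (map_subtype_le _) (map_subtype_le _) (by
        rw [card_map_of_injective P.subtype_injective, card_map_of_injective P.subtype_injective,
          card_eaSubgroup, card_eaSubgroup, Module.natCard_eq_pow_finrank (K := ZMod p) (V := U),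
          Module.natCard_eq_pow_finrank (K := ZMod p) (V := W), hUW])
    refine ⟨g, ?_⟩
    ext w
    obtain ⟨w, rfl⟩ := (eaOf hM).surjective w
    constructor
    · intro hw
      have : (w : M) ∈ (eaSubgroup hM W).map P.subtype := ⟨w, hw, rfl⟩
      rw [hg] at this
      obtain ⟨_, ⟨u, hu, rfl⟩, h⟩ := this
      refine ⟨eaOf hM u, hu, ?_⟩
      rw [autRep_apply]
      congr 1
      exact Subtype.ext h
    · rintro ⟨u, hu, h⟩
      obtain ⟨u, rfl⟩ := (eaOf hM).surjective u
      rw [autRep_apply] at h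
      have h1 := (eaOf hM).injective h
      have : (w : M) ∈ (eaSubgroup hM W).map P.subtype := by
        rw [hg]
        exact ⟨u, ⟨u, hu, rfl⟩, congrArg Subtype.val h1⟩
      obtain ⟨w', hw', h2⟩ := this
      rw [← Subtype.ext h2]
      exact hw'
  have hfin : finrank (ZMod p) (EA P hM) = n := by
    have h1 := Module.natCard_eq_pow_finrank (K := ZMod p) (V := EA P hM)
    rw [card_EA, hcard, Nat.card_zmod] at h1
    exact (Nat.pow_right_injective hp.two_le h1).symm
  have hker : pPrimeCore p M ≤ ρ.ker := by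
    intro m hm
    rw [MonoidHom.mem_ker, autRep_eq_one_iff]
    ext x
    have hPle : P ≤ pCore p M := L.le_pCore inferInstance (IsPGroup.of_card hcard)
    rw [MulAut.conjNormal_apply, ← L.pPrimeCore_le_centralizer_pCore hp hm _ (hPle x.2),
      mul_inv_cancel_right, MulAut.one_apply]
  have hT' : Trans (QuotientGroup.lift _ ρ hker) := fun U W h => by
    obtain ⟨g, hg⟩ := hT U W h
    exact ⟨g, hg⟩
  obtain ⟨B, hB, b, hb, hns⟩ := exists_commNorm hT' (by omega)
  have : Nontrivial (EA P hM) := Module.nontrivial_of_finrank_pos (R := ZMod p) (by omega)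
  have hB' : CommNorm ρ B := ⟨hB.comm, fun h => hB.norm (h : M ⧸ pPrimeCore p M)⟩
  obtain ⟨e, he⟩ := hB'.exists_semilinear hT hb hns (GaloisField p n) (by
    rw [card_EA, hcard, GaloisField.card p n (by omega)])
  let el : EA P hM ≃ₗ[ZMod p] GaloisField p n := { e with map_smul' := ZMod.map_smul e }
  have hel' : ∀ v, el v = e v := fun _ => rfl
  let σ : M →* End (ZMod p) (GaloisField p n) :=
    (el.conjAlgEquiv (ZMod p) : End (ZMod p) (EA P hM) →* End (ZMod p) (GaloisField p n)).comp ρ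
  have hσ : ∀ m v, σ m (e v) = e (ρ m v) := fun m v => by
    simp [σ, ← hel', LinearEquiv.conjAlgEquiv_apply]
  have hTσ : Trans σ := by
    intro U W hUW
    obtain ⟨g, hg⟩ := hT (U.map (el.symm : _ →ₗ[ZMod p] _)) (W.map (el.symm : _ →ₗ[ZMod p] _)) (by
      rw [LinearEquiv.finrank_map_eq, LinearEquiv.finrank_map_eq, hUW])
    refine ⟨g, ?_⟩
    ext w
    obtain ⟨w, rfl⟩ := el.surjective w
    constructor
    · intro hw
      have : w ∈ W.map (el.symm : _ →ₗ[ZMod p] _) := ⟨_, hw, by simp⟩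
      rw [hg] at this
      obtain ⟨_, ⟨u, hu, rfl⟩, h⟩ := this
      refine ⟨u, hu, ?_⟩
      rw [← h, hel', ← hσ, ← hel']
      simp
    · rintro ⟨u, hu, h⟩
      obtain ⟨u, rfl⟩ := el.surjective u
      rw [hel', hσ, hel'] at h
      have : w ∈ W.map (el.symm : _ →ₗ[ZMod p] _) := by
        rw [hg]
        exact ⟨u, ⟨_, hu, by simp⟩, e.injective h⟩
      obtain ⟨w', hw', h2⟩ := this
      rw [← h2]
      simpa using hw'
  have hS : ∀ h : M, ∃ (a : (GaloisField p n)ˣ) (φ : GaloisField p n ≃ₐ[ZMod p] GaloisField p n),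
      ∀ x, σ h x = a * φ x := fun h => by
    obtain ⟨a, φ, ha⟩ := he h
    refine ⟨a, toAlg p φ, fun x => ?_⟩
    obtain ⟨x, rfl⟩ := e.surjective x
    rw [hσ, ha]; rfl
  have hrk : finrank (ZMod p) (GaloisField p n) = n := GaloisField.finrank p (by omega)
  obtain ⟨f, hf1, hf2, hf3⟩ := exists_affine P hcard hidx hcomm ((eaOf hM).trans e.toEquiv)
    (fun x y => by simp)
  have hE : ∀ (m : M) (x : P), ((eaOf hM).trans e.toEquiv) (MulAut.conjNormal m x) =
      σ m (((eaOf hM).trans e.toEquiv) x) := fun m x => (hσ m (eaOf hM x)).symm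
  have hf2' : ∀ m : M, ∃ b, ∀ y, f m y = σ m y + b := fun m => by
    obtain ⟨b, hb⟩ := hf2 m
    refine ⟨b, fun y => ?_⟩
    obtain ⟨x, rfl⟩ := ((eaOf hM).trans e.toEquiv).surjective y
    rw [hb, hE]
  have hf3' : ∀ (m : M) b, ∃ m', ∀ y, f m' y = σ m y + b := fun m b => by
    obtain ⟨m', hb⟩ := hf3 m b
    refine ⟨m', fun y => ?_⟩
    obtain ⟨x, rfl⟩ := ((eaOf hM).trans e.toEquiv).surjective y
    rw [hb, hE]
  have hiso : Nonempty (M ⧸ pPrimeCore p M ≃* f.range) :=
    ⟨(QuotientGroup.quotientMulEquivOfEq hf1.symm).trans (QuotientGroup.quotientKerEquivRange f)⟩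
  have hle : f.range ≤ semiaffineGroup (GaloisField p n) := by
    rintro _ ⟨m, rfl⟩
    obtain ⟨b, hb⟩ := hf2' m
    obtain ⟨a, φ, ha⟩ := hS m
    exact ⟨a, b, φ.toRingEquiv, fun x => by rw [hb, ha]; rfl⟩
  have hsemi : mulSub σ = ⊤ → autSub σ = ⊤ → f.range = semiaffineGroup (GaloisField p n) := by
    intro h1 h2
    refine le_antisymm hle ?_
    rintro τ ⟨a, b, φ, hτ⟩
    obtain ⟨h, a', ha'⟩ : toAlg p φ ∈ autSub σ := h2 ▸ mem_top _
    obtain ⟨h', ha''⟩ : a * a'⁻¹ ∈ mulSub σ := h1 ▸ mem_top _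
    obtain ⟨m, hm⟩ := hf3' (h' * h) b
    refine ⟨m, Equiv.ext fun x => ?_⟩
    rw [hm, hτ, map_mul, End.mul_apply, ha', ha'']
    simp only [Units.val_mul, mul_assoc, Units.inv_mul_cancel_left]
    rfl
  have haff : mulSub σ = ⊤ → autSub σ = ⊥ → f.range = affineGroup (GaloisField p n) := by
    intro h1 h2
    refine le_antisymm ?_ ?_
    · rintro _ ⟨m, rfl⟩
      obtain ⟨b, hb⟩ := hf2' m
      obtain ⟨a, φ, ha⟩ := hS m
      have : φ ∈ autSub σ := ⟨m, a, ha⟩
      rw [h2, mem_bot] at this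
      exact ⟨a, b, fun x => by rw [hb, ha, this]; rfl⟩
    · rintro τ ⟨a, b, hτ⟩
      obtain ⟨h, ha⟩ : a ∈ mulSub σ := h1 ▸ mem_top _
      obtain ⟨m, hm⟩ := hf3' h b
      exact ⟨m, Equiv.ext fun x => by rw [hm, hτ, ha]⟩
  obtain ⟨ι⟩ := hiso
  rcases finrank_cases hTσ hS (by omega) with h | ⟨h, hp2, htop⟩
  · rw [hrk] at h
    subst h
    refine Or.inl ⟨rfl, ⟨(inclusion hle).comp ι.toMonoidHom,
      (inclusion_injective hle).comp ι.injective⟩, fun hp2 => ?_⟩
    have h1 := mulSub_eq_top hp2 hTσ hS (by rw [hrk]; norm_num) (by rw [hrk]; norm_num)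
    have : Fact (Nat.card (GaloisField p 3 ≃ₐ[ZMod p] GaloisField p 3)).Prime :=
      ⟨by rw [card_aut, hrk]; norm_num⟩
    subst hp2
    rcases (autSub σ).eq_bot_or_eq_top_of_prime_card with h | h
    · exact Or.inr ⟨ι.trans (MulEquiv.subgroupCongr (haff h1 h))⟩
    · exact Or.inl ⟨ι.trans (MulEquiv.subgroupCongr (hsemi h1 h))⟩
  · rw [hrk] at h
    subst h
    have h1 := mulSub_eq_top hp2 hTσ hS (by rw [hrk]; norm_num) (by rw [hrk]; norm_num)
    subst hp2
    exact Or.inr ⟨rfl, rfl, ⟨ι.trans (MulEquiv.subgroupCongr (hsemi h1 htop))⟩⟩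


/-- Let p be a prime and G a finite group in which any two p-subgroups of the same order are conjugate, and suppose a Sylow p-subgroup P of G is elementary abelian of order pⁿ with n ≥ 3. Let N be the normalizer of P and K the largest normal subgroup of N of order prime to p, and assume N/K is solvable. Then either n = 3 and N/K embeds in the one-dimensional semi-affine group over the field with p³ elements (and for p = 2 it is isomorphic to the affine or the semi-affine group over the field with 8 elements), or n = 5, p = 2 and N/K is isomorphic to the one-dimensional semi-affine group over the field with 32 elements. -/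
theorem result {G : Type*} [Group G] [Finite G]
    {p : ℕ} [Fact p.Prime] (hC : ∀ H K : Subgroup G, IsPGroup p H → IsPGroup p K → Nat.card H = Nat.card K →
      ∃ g : G, K = H.map (MulAut.conj g).toMonoidHom) (P : Sylow p G) (n : ℕ) (hn : 3 ≤ n)
    (hel : Cfsg.IsElementaryAbelian p (P : Subgroup G)) (hcard : Nat.card P = p ^ n)
    (N : Subgroup G) (hN : N = Subgroup.normalizer ((P : Subgroup G) : Set G))
    (hsolv : Group.IsSolvable (↥N ⧸ Cfsg.pPrimeCore p ↥N)) :
    (n = 3 ∧ (∃ f : ↥N ⧸ Cfsg.pPrimeCore p ↥N →* ↥(Cfsg.semiaffineGroup (GaloisField p 3)), Function.Injective f) ∧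
      (p = 2 → Nonempty (↥N ⧸ Cfsg.pPrimeCore p ↥N ≃* Cfsg.semiaffineGroup (GaloisField 2 3)) ∨
               Nonempty (↥N ⧸ Cfsg.pPrimeCore p ↥N ≃* Cfsg.affineGroup (GaloisField 2 3)))) ∨
    (n = 5 ∧ p = 2 ∧ Nonempty (↥N ⧸ Cfsg.pPrimeCore p ↥N ≃* Cfsg.semiaffineGroup (GaloisField 2 5))) := by
  subst hN
  have hcomm := hel.1
  have hle : (P : Subgroup G) ≤ normalizer ((P : Subgroup G) : Set G) := le_normalizer
  refine main ((P : Subgroup G).subgroupOf (normalizer ((P : Subgroup G) : Set G))) hn ?_ ?_ ?_ ?_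
    hsolv
  · rw [← hcard]; exact Nat.card_congr (subgroupOfEquivOfLe hle).toEquiv
  · exact fun h => P.not_dvd_index (h.trans (relIndex_dvd_index_of_le hle))
  · exact ⟨inferInstance, fun a ha => Subtype.ext (hel.2 a ha)⟩
  · intro A B hA hB hAB
    have hA' : A.map (Subgroup.subtype _) ≤ P := map_le_iff_le_comap.mpr hA
    have hB' : B.map (Subgroup.subtype _) ≤ P := map_le_iff_le_comap.mpr hB
    obtain ⟨g, hg⟩ := hC _ _ (P.isPGroup'.to_le hA') (P.isPGroup'.to_le hB') (by
      rw [card_map_of_injective (subtype_injective _), card_map_of_injective (subtype_injective _),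
        hAB])
    obtain ⟨m, hm, hm'⟩ := fusion P hA' hB' hg
    refine ⟨⟨m, hm⟩, map_injective (subtype_injective _) ?_⟩
    rw [hm', map_map, map_map]
    rfl

end Cfsg.Agent.S4025
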