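import Cfsg.Statements.S3769
import Cfsg.Agent.H1.EAMod

set_option autoImplicit false
open Cfsg

namespace Cfsg.Agent.S3769

/-- Let G and V be subgroups of a finite group with G solvable of odd order normalizing V, V an elementary abelian ℓ-group for a prime ℓ not dividing the order of G, and suppose G has a normal Hall subgroup K with a complement R of prime order. If C_V(R) = 1, then [R, K] centralizes V. -/
theorem result {X : Type*} [Group X] [Finite X] (G : Subgroup X) (hsolv : Group.IsSolvable G) (hodd : Odd (Nat.card G)) (V : Subgroup X) {ℓ : ℕ} (hℓ : ℓ.Prime) (hV : Cfsg.IsElementaryAbelian ℓ V) (hℓG : ¬ ℓ ∣ Nat.card G) (hGV : G ≤ Subgroup.normalizer (V : Set X)) (K R : Subgroup X) (hKG : K ≤ G) (hKn : G ≤ Subgroup.normalizer (K : Set X)) (hHall : (Nat.card K).Coprime (K.relIndex G)) (hRG : R ≤ G) (hR : (Nat.card R).Prime) (hKR : K ⊓ R = ⊥) (hKRG : K ⊔ R = G) (hCV : V ⊓ Subgroup.centralizer (R : Set X) = ⊥) : ⁅R, K⁆ ≤ Subgroup.centralizer (V : Set X) := by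
  by_contra hnt
  have := Fact.mk hR
  have hcyc : IsCyclic R := isCyclic_of_prime_card rfl
  obtain ⟨g, rfl⟩ := (Subgroup.isCyclic_iff_exists_zpowers_eq_top R).mp hcyc
  set r := Nat.card (Subgroup.zpowers g) with hr
  have hg1 : g ^ r ^ (0 + 1) = 1 := by simp [hr]
  have hRK : Subgroup.zpowers g ≤ Subgroup.normalizer (K : Set X) := hRG.trans hKn
  have hidx : K.relIndex G = r := by
    rw [← hKRG, sup_comm, H1.relIndex_sup_of_le_normalizer hRK]
    have h := H1.card_inf_mul_relIndex K (Subgroup.zpowers g)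
    rwa [hKR, Subgroup.card_bot, one_mul] at h
  have hrG : r ∣ Nat.card G := Subgroup.card_dvd_of_le hRG
  have hKG' : Nat.card K ∣ Nat.card G := Subgroup.card_dvd_of_le hKG
  obtain ⟨q, hq, -, ⟨S, hSK, hS, hnc⟩, n, e, h1, h2, h3, h4⟩ :=
    H1.hall_higman_coprime_ambient hR hℓ (fun h => hℓG (h ▸ hrG)) hV (hKG.trans hGV)
      (hidx ▸ hHall) ((Nat.coprime_comm.mp ((Nat.Prime.coprime_iff_not_dvd hℓ).mpr
        fun h => hℓG (h.trans hKG'))))
      (hGV (hRG (Subgroup.mem_zpowers g))) (hRK (Subgroup.mem_zpowers g)) (m := 0)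
      (hg1 ▸ one_mem _) (by
        rw [pow_zero, pow_one, Subgroup.commutator_comm]
        exact hnt) (by
        rw [← hCV, ← Subgroup.centralizer_closure, ← Subgroup.zpowers_eq_closure])
  have hn : n = 1 := by omega
  rw [hn, pow_one] at h4
  have := Fact.mk hq
  have hqG : q ∣ Nat.card G := by
    obtain ⟨k, hk⟩ := hS.exists_card_eq
    have hk0 : k ≠ 0 := by
      rintro rfl
      rw [pow_zero, Subgroup.card_eq_one] at hk
      exact hnc (by rw [hk]; infer_instance)
    exact (dvd_pow_self q hk0).trans (hk ▸ Subgroup.card_dvd_of_le (hSK.trans hKG))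
  have h5 : Odd r := hodd.of_dvd_nat hrG
  have h6 : Odd q := hodd.of_dvd_nat hqG
  rw [h4] at h5
  exact Nat.not_odd_iff_even.mpr (h6.pow.add_one) h5

end Cfsg.Agent.S3769
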