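import Cfsg.Statements.S4198
import Mathlib


set_option autoImplicit false
open Cfsg

namespace Cfsg.Agent.S4198

open Equiv Subgroup

theorem card_partition_le (n : ℕ) (hn : 5 ≤ n) : Nat.card (Nat.Partition n) ≤ 2 ^ (n - 2) := by
  classical
  let g : Composition (n - 1) → Multiset ℕ := fun c =>
    if c.blocks = [1, n - 2] then Multiset.replicate n 1
    else (c.blocks.headD 0 + 1) ::ₘ (c.blocks.tail : Multiset ℕ)
  have key : ∀ l : Nat.Partition n, ∃ c, g c = l.parts := by
    intro l
    have hne : l.parts ≠ 0 := by
      intro h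
      have := l.parts_sum
      rw [h] at this
      simp at this
      omega
    obtain ⟨a, ha, hmax⟩ := Multiset.exists_max_image (fun x : ℕ => x) hne
    by_cases h1 : a = 1
    · refine ⟨⟨[1, n - 2], ?_, by simp; omega⟩, ?_⟩
      · intro i hi
        simp at hi
        omega
      · simp only [g, if_true]
        have h2 : l.parts = Multiset.replicate l.parts.card 1 :=
          Multiset.eq_replicate_card.2 fun b hb => by
            have := hmax b hb
            have := l.parts_pos hb
            omega
        have h3 := l.parts_sum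
        rw [h2, Multiset.sum_replicate, smul_eq_mul, mul_one] at h3
        rw [h2, h3]
    · have h0 := l.parts_pos ha
      have hs : a + (l.parts.erase a).sum = n := by
        rw [← Multiset.sum_cons, Multiset.cons_erase ha, l.parts_sum]
      refine ⟨⟨(a - 1) :: (l.parts.erase a).toList, ?_, ?_⟩, ?_⟩
      · intro i hi
        rcases List.mem_cons.1 hi with rfl | hi
        · omega
        · exact l.parts_pos (Multiset.mem_of_mem_erase (Multiset.mem_toList.1 hi))
      · rw [List.sum_cons, Multiset.sum_toList]; omega
      · simp only [g]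
        rw [if_neg]
        · simp only [List.headD_cons, List.tail_cons, Multiset.coe_toList]
          rw [show a - 1 + 1 = a by omega, Multiset.cons_erase ha]
        · intro h
          simp only [List.cons.injEq] at h
          have h2 : n - 2 ∈ l.parts := Multiset.mem_of_mem_erase
            (Multiset.mem_toList.1 (by rw [h.2]; simp))
          have := hmax _ h2
          omega
  choose f hf using key
  have := Nat.card_le_card_of_injective f fun l l' h =>
    Nat.Partition.ext (by rw [← hf, ← hf, h])
  rwa [Nat.card_eq_fintype_card (α := Composition _), composition_card, Nat.sub_sub] at this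

theorem lt_card {α : Type*} [Fintype α] [DecidableEq α] (hn : 5 ≤ Fintype.card α) :
    Nat.card (ConjClasses (alternatingGroup α)) < Nat.card (ConjClasses (Perm α)) := by
  classical
  let T : ConjClasses (Perm α) → Multiset ℕ := Quotient.lift Perm.cycleType
    fun _ _ h => Perm.isConj_iff_cycleType_eq.1 h
  have hT : Function.Injective T := by
    intro c d
    obtain ⟨x, rfl⟩ := ConjClasses.exists_rep c
    obtain ⟨y, rfl⟩ := ConjClasses.exists_rep d
    exact fun h => ConjClasses.mk_eq_mk_iff_isConj.2 (Perm.isConj_iff_cycleType_eq.2 h)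
  have mT : ∀ m : Multiset ℕ, m.sum ≤ Fintype.card α → (∀ a ∈ m, 2 ≤ a) → m ∈ Set.range T := by
    intro m h1 h2
    obtain ⟨g, hg⟩ := (Perm.exists_with_cycleType_iff α).2 ⟨h1, h2⟩
    exact ⟨ConjClasses.mk g, hg⟩
  choose r hr using fun c : ConjClasses (alternatingGroup α) => ConjClasses.exists_rep c
  let ct : ConjClasses (alternatingGroup α) → Multiset ℕ := fun c => (r c : Perm α).cycleType
  have hev : ∀ c, Even ((ct c).sum + (ct c).card) := fun c => by
    have h := Perm.mem_alternatingGroup.1 (r c).2
    rw [Perm.sign_of_cycleType] at h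
    exact (neg_one_pow_eq_one_iff_even (by decide)).1 h
  let s := Function.invFun ct
  have hs : ∀ c, ct (s (ct c)) = ct c := fun c => Function.invFun_eq ⟨c, rfl⟩
  have hodd : ∀ c d, c ≠ d → ∀ g : Perm α, g * r c * g⁻¹ = r d → g ∉ alternatingGroup α := by
    intro c d hne g hg hA
    apply hne
    rw [← hr c, ← hr d, ConjClasses.mk_eq_mk_iff_isConj, isConj_iff]
    exact ⟨⟨g, hA⟩, Subtype.ext hg⟩
  haveI : Nontrivial α := Fintype.one_lt_card_iff_nontrivial.1 (by omega)
  have h2 := fun a b => mul_mem_iff_of_index_two (alternatingGroup.index_eq_two (α := α))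
    (a := a) (b := b)
  have hcent : ∀ c d, c ≠ d → ct c = ct d →
      centralizer {(r c : Perm α)} ≤ alternatingGroup α := by
    intro c d hne h z hz
    obtain ⟨g, hg⟩ := isConj_iff.1 (Perm.isConj_iff_cycleType_eq.2 h)
    have k1 := hodd c d hne g hg
    have k2 := hodd c d hne (g * z) (by
      rw [← hg, mul_assoc g z, mem_centralizer_singleton_iff.1 hz]; group)
    rw [h2] at k2
    tauto
  have hthree : ∀ c d e, c ≠ e → d ≠ e → ct c = ct e → ct d = ct e → c = d := by
    intro c d e h1 h3 h4 h5
    by_contra hne
    obtain ⟨g, hg⟩ := isConj_iff.1 (Perm.isConj_iff_cycleType_eq.2 h4)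
    obtain ⟨k, hk⟩ := isConj_iff.1 (Perm.isConj_iff_cycleType_eq.2 h5)
    have k1 := hodd c e h1 g hg
    have k2 := hodd d e h3 k hk
    have k3 := hodd c d hne (k⁻¹ * g) (by
      calc k⁻¹ * g * r c * (k⁻¹ * g)⁻¹ = k⁻¹ * (g * r c * g⁻¹) * k := by group
        _ = r d := by rw [hg, ← hk]; group)
    rw [h2, inv_mem_iff] at k3
    tauto
  have hsplit : ∀ c, c ≠ s (ct c) → ∃ a, a ∈ ct c ∧ (∀ b ∈ ct c, Odd b) ∧
      Fintype.card α ≤ (ct c).sum + 1 := by
    intro c hc
    obtain ⟨k1, k2, -⟩ := Perm.centralizer_le_alternating_iff.1 (hcent c _ hc (hs c).symm)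
    have hne : ct c ≠ 0 := by
      intro h
      change Fintype.card α ≤ (ct c).sum + 1 at k2
      rw [h] at k2
      simp at k2
      omega
    obtain ⟨a, ha⟩ := Multiset.exists_mem_of_ne_zero hne
    exact ⟨a, ha, k1, k2⟩
  choose! a ha1 ha2 ha3 using hsplit
  have ha4 : ∀ c, c ≠ s (ct c) → 3 ≤ a c := fun c hc => by
    have := Perm.two_le_of_mem_cycleType (ha1 c hc)
    obtain ⟨k, hk⟩ := ha2 c hc _ (ha1 c hc)
    omega
  have ha5 : ∀ c, c ≠ s (ct c) → a c + ((ct c).erase (a c)).sum = (ct c).sum := fun c hc => by
    rw [← Multiset.sum_cons, Multiset.cons_erase (ha1 c hc)]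
  have ha6 : ∀ c, c ≠ s (ct c) → ((ct c).erase (a c)).card + 1 = (ct c).card := fun c hc => by
    rw [← Multiset.card_cons (a c), Multiset.cons_erase (ha1 c hc)]
  let Ψ : ConjClasses (alternatingGroup α) → Multiset ℕ := fun c =>
    if c = s (ct c) then ct c else (a c - 1) ::ₘ (ct c).erase (a c)
  have hpar : ∀ c d, c ≠ s (ct c) → (a c - 1) ::ₘ (ct c).erase (a c) ≠ ct d := by
    intro c d hc h
    have k1 := hev c
    have k2 := hev d
    rw [← h, Multiset.sum_cons, Multiset.card_cons] at k2
    have := ha4 c hc
    have := ha5 c hc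
    have := ha6 c hc
    obtain ⟨u, hu⟩ := k1
    obtain ⟨v, hv⟩ := k2
    omega
  have hΨ : Function.Injective Ψ := by
    intro c d h
    simp only [Ψ] at h
    split_ifs at h with h1 h3 h3
    · rw [h1, h3, h]
    · exact absurd h.symm (hpar d c h3)
    · exact absurd h (hpar c d h1)
    · have k1 : a c - 1 ∈ (a d - 1) ::ₘ (ct d).erase (a d) := h ▸ Multiset.mem_cons_self _ _
      have k2 : a c = a d := by
        have := ha4 c h1
        have := ha4 d h3
        rcases Multiset.mem_cons.1 k1 with k | k
        · omega
        · obtain ⟨u, hu⟩ := ha2 d h3 _ (Multiset.mem_of_mem_erase k)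
          obtain ⟨v, hv⟩ := ha2 c h1 _ (ha1 c h1)
          omega
      have k3 : ct c = ct d := by
        rw [← k2, Multiset.cons_inj_right] at h
        rw [← Multiset.cons_erase (ha1 c h1), h, k2, Multiset.cons_erase (ha1 d h3)]
      exact hthree c d (s (ct c)) h1 (k3 ▸ h3) (hs c).symm (by rw [hs, k3])
  rw [← Set.ncard_range_of_injective hΨ, ← Set.ncard_range_of_injective hT]
  refine Set.ncard_lt_ncard ⟨?_, fun h => ?_⟩ (Set.finite_range T)
  · rintro _ ⟨c, rfl⟩
    simp only [Ψ]
    have k1 : (ct c).sum ≤ Fintype.card α := by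
      rw [Perm.sum_cycleType]; exact Finset.card_le_univ _
    split_ifs with hc
    · exact ⟨ConjClasses.mk (r c), rfl⟩
    · have := ha4 c hc
      have := ha5 c hc
      refine mT _ (by rw [Multiset.sum_cons]; omega) fun b hb => ?_
      rcases Multiset.mem_cons.1 hb with rfl | hb
      · omega
      · exact Perm.two_le_of_mem_cycleType (Multiset.mem_of_mem_erase hb)
  · obtain ⟨c, hc⟩ := h (mT {2} (by simp; omega) (by simp))
    simp only [Ψ] at hc
    split_ifs at hc with h1
    · have := hev c
      rw [hc] at this
      exact absurd this (by decide)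
    · have k1 := congrArg Multiset.sum hc
      rw [Multiset.sum_cons, Multiset.sum_singleton] at k1
      have := ha3 c h1
      have := ha4 c h1
      have := ha5 c h1
      omega

/-- For n ≥ 5 the alternating group of degree n has strictly fewer conjugacy classes than the symmetric group of degree n, and the symmetric group of degree n (whose classes correspond to the partitions of n) has at most 2^(n−2) conjugacy classes. -/
theorem result (n : ℕ) (hn : 5 ≤ n) : Nat.card (ConjClasses (alternatingGroup (Fin n))) < Nat.card (ConjClasses (Equiv.Perm (Fin n))) ∧ Nat.card (ConjClasses (Equiv.Perm (Fin n))) ≤ 2 ^ (n - 2) := by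
  refine ⟨lt_card (by simpa using hn), le_trans ?_ (card_partition_le n hn)⟩
  let T : ConjClasses (Perm (Fin n)) → Nat.Partition (Fintype.card (Fin n)) :=
    Quotient.lift Perm.partition fun _ _ h => Perm.partition_eq_of_isConj.1 h
  have hT : Function.Injective T := by
    intro c d
    obtain ⟨x, rfl⟩ := ConjClasses.exists_rep c
    obtain ⟨y, rfl⟩ := ConjClasses.exists_rep d
    exact fun h => ConjClasses.mk_eq_mk_iff_isConj.2 (Perm.partition_eq_of_isConj.2 h)
  have := Nat.card_le_card_of_injective T hT
  rwa [Fintype.card_fin] at this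

end Cfsg.Agent.S4198
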