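import Cfsg.Statements.S4112
import Cfsg.Agent.H6.PiElem
import Cfsg.Agent.H6.Supplement
import Cfsg.Agent.H2.Primitive
-- import your own Cfsg.Agent.* helpers here

set_option autoImplicit false
open Cfsg

namespace Cfsg.Agent.S4112

/-- Let G be a finite group and M ≤ N non-trivial proper normal subgroups such that for every g outside N the conjugacy class of g is a union of cosets of M (equivalently gm is conjugate to g for every m ∈ M). Then (1) and (2) below are equivalent, and they imply (3): (1) every g outside N acts fixed-point-freely on M, that is C_G(x) ≤ N for every x ∈ M, x ≠ 1; (2) the index of N in G is coprime to the order of M; (3) there is a subgroup H of G with HN = G and H ∩ M = 1. -/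
theorem result {G : Type*} [Group G] [Finite G] (N M : Subgroup G) [N.Normal] [M.Normal] (hMN : M ≤ N) (hM1 : M ≠ ⊥) (hN2 : N ≠ ⊤)
    (hcam : ∀ g : G, g ∉ N → ∀ m ∈ M, ∃ x : G, x * g * x⁻¹ = g * m) :
    ((∀ x ∈ M, x ≠ 1 → Subgroup.centralizer ({x} : Set G) ≤ N) ↔ N.index.Coprime (Nat.card M)) ∧
    ((∀ x ∈ M, x ≠ 1 → Subgroup.centralizer ({x} : Set G) ≤ N) → ∃ H : Subgroup G, H ⊔ N = ⊤ ∧ H ⊓ M = ⊥) := by
  have h12 : (∀ x ∈ M, x ≠ 1 → Subgroup.centralizer ({x} : Set G) ≤ N) →
      N.index.Coprime (Nat.card M) := by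
    intro h
    apply Nat.Coprime.symm
    apply Nat.coprime_of_dvd
    intro p hp h1 h2
    haveI := Fact.mk hp
    obtain ⟨P⟩ : Nonempty (Sylow p G) := inferInstance
    obtain ⟨Q, hQ1, hQ2, -⟩ := H2.inf_centralizer_ne_bot_of_isPGroup P.isPGroup'
      (N := M) Subgroup.le_normalizer_of_normal h1
    obtain ⟨⟨x, hx⟩, hx1⟩ := Subgroup.ne_bot_iff_exists_ne_one.1 hQ2
    have hx1' : x ≠ 1 := fun h => hx1 (Subtype.ext h)
    have h3 : (P : Subgroup G) ≤ N := fun y hy => h x (hQ1 hx).1 hx1' (by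
      rw [Subgroup.mem_centralizer_singleton_iff]
      exact (hQ1 hx).2 y hy)
    exact P.not_dvd_index (h2.trans (Subgroup.index_dvd_of_le h3))
  refine ⟨⟨h12, fun h x hx hx1 g hg => ?_⟩, fun h => ?_⟩
  · by_contra hgN
    obtain ⟨a, b, -, hb, hab, -, ha', hb'⟩ := H6.exists_piPart {q | q ∣ Nat.card M} g
    have haN : a ∈ N := by
      refine H8.mem_of_coprime_index (Nat.coprime_of_dvd fun q hq h1 h2 => ?_)
      exact hq.one_lt.ne' (Nat.eq_one_of_dvd_coprimes h h2 (ha' q hq h1))
    have hbN : b ∉ N := fun hbN => hgN (hab ▸ N.mul_mem haN hbN)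
    obtain ⟨y, hy⟩ := hcam b hbN x hx
    have hc : Commute b x := by
      obtain ⟨i, rfl⟩ := hb
      exact (show Commute g x from Subgroup.mem_centralizer_singleton_iff.1 hg).zpow_left i
    have h1 : orderOf (b * x) = orderOf b := by
      rw [← hy]; exact (MulAut.conj y).orderOf_eq b
    rw [hc.orderOf_mul_eq_mul_orderOf_of_coprime (Nat.coprime_of_dvd fun q hq h1 h2 =>
      hb' q hq h1 (h2.trans (M.orderOf_dvd_natCard hx)))] at h1
    apply hx1
    rw [← orderOf_eq_one_iff]
    exact Nat.eq_of_mul_eq_mul_left (orderOf_pos b) (by rw [h1, mul_one])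
  · obtain ⟨H, hH1, hH2⟩ := H6.exists_supplement N
    refine ⟨H, hH1, H1.inf_eq_bot_of_coprime' (Nat.coprime_of_dvd fun q hq h1 h2 => ?_)⟩
    exact hq.one_lt.ne' (Nat.eq_one_of_dvd_coprimes (h12 h) (hH2 q hq h1) h2)

end Cfsg.Agent.S4112
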