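import Cfsg.Statements.S3815
import Cfsg.Agent.L.Cores

set_option autoImplicit false
open Cfsg

namespace Cfsg.Agent.S3815

open Subgroup

/-- Let G be a finite group, p a prime and d ∈ G an element of order prime to p. If dg has order prime to p for every element g ∈ G of order prime to p, then d ∈ O_{p'}(G). -/
theorem result {G : Type*} [Group G] [Finite G] {p : ℕ} [Fact p.Prime]
    (d : G) (hd : (orderOf d).Coprime p)
    (h : ∀ g : G, (orderOf g).Coprime p → (orderOf (d * g)).Coprime p) :
    d ∈ Cfsg.pPrimeCore p G := by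
  let D : Subgroup G :=
    { carrier := {d | (orderOf d).Coprime p ∧ ∀ g : G, (orderOf g).Coprime p → (orderOf (d * g)).Coprime p}
      one_mem' := ⟨by simp, fun g hg => by simpa using hg⟩
      mul_mem' := by
        rintro a b ⟨ha, ha'⟩ ⟨hb, hb'⟩
        refine ⟨ha' b hb, fun g hg => ?_⟩
        rw [mul_assoc]
        exact ha' _ (hb' g hg)
      inv_mem' := by
        rintro a ⟨ha, ha'⟩
        refine ⟨by simpa using ha, fun g hg => ?_⟩
        have key : ∀ n : ℕ, (orderOf (a ^ n * g)).Coprime p := by
          intro n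
          induction n with
          | zero => simpa using hg
          | succ n ih =>
            rw [pow_succ', mul_assoc]
            exact ha' _ ih
        have hpos : 0 < orderOf a := orderOf_pos a
        have : a⁻¹ = a ^ (orderOf a - 1) := by
          rw [inv_eq_iff_mul_eq_one, ← pow_succ', Nat.sub_add_cancel hpos, pow_orderOf_eq_one]
        rw [this]
        exact key _ }
  have hconj : ∀ a g : G, orderOf (g * a * g⁻¹) = orderOf a := fun a g => by
    simpa using (MulAut.conj g).orderOf_eq a
  have hDn : D.Normal := ⟨by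
    rintro a ⟨ha, ha'⟩ g
    refine ⟨by rw [hconj]; exact ha, fun y hy => ?_⟩
    have : g * a * g⁻¹ * y = g * (a * (g⁻¹ * y * g⁻¹⁻¹)) * g⁻¹ := by group
    rw [this, hconj]
    exact ha' _ (by rw [hconj]; exact hy)⟩
  have hD : D ≤ Cfsg.pPrimeCore p G := by
    refine L.le_pPrimeCore hDn ?_
    rw [Nat.coprime_comm, (Fact.out : p.Prime).coprime_iff_not_dvd]
    intro hdvd
    obtain ⟨y, hy⟩ := exists_prime_orderOf_dvd_card' p hdvd
    have := y.2.1
    rw [← Subgroup.orderOf_coe] at hy
    rw [hy] at this
    exact (Fact.out : p.Prime).one_lt.ne' (Nat.coprime_self p |>.1 this)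
  exact hD ⟨hd, h⟩

end Cfsg.Agent.S3815
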