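import Cfsg.Statements.S3742
import Mathlib

set_option autoImplicit false
open Cfsg

namespace Cfsg.Agent.S3742

open QuaternionGroup

abbrev Q := QuaternionGroup 2

def F (u v : Q) : Q → Q
  | a i => u ^ i.val
  | xa i => v * u ^ i.val

def valid (u v : Q) : Prop := u * u ≠ 1 ∧ v * v ≠ 1 ∧ u ≠ v ∧ u * v ≠ 1

instance decValid (u v : Q) : Decidable (valid u v) := by unfold valid; infer_instance

def diag (x y : Q) : Fin 4 :=
  let e1 : Bool := x = a 1 ∨ y = a 1 ∨ x * y = a 1
  let e2 : Bool := x = xa 0 ∨ y = xa 0 ∨ x * y = xa 0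
  let e3 : Bool := x = xa 3 ∨ y = xa 3 ∨ x * y = xa 3
  (if e1 = e2 then 0 else 1) + (if e1 = e3 then 0 else 2)

def rx : Fin 4 → Q := ![a 1, a 1, xa 0, a 1]
def ry : Fin 4 → Q := ![xa 0, xa 3, a 1, xa 2]

def sig (f : Q → Q) (k : Fin 4) : Fin 4 := diag (f (rx k)) (f (ry k))

theorem eq_F (φ : MulAut Q) : ⇑φ = F (φ (a 1)) (φ (xa 0)) := by
  funext g
  cases g with
  | a i => simp only [F, ← map_pow, a_one_pow, ZMod.natCast_val, ZMod.cast_id', id]
  | xa i =>
    simp only [F, ← map_pow, ← map_mul, a_one_pow, ZMod.natCast_val, ZMod.cast_id', id, xa_mul_a,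
      zero_add]

theorem valid_map (φ : MulAut Q) {u v : Q} (h : valid u v) : valid (φ u) (φ v) := by
  simpa only [valid, ← map_mul, ne_eq, EmbeddingLike.map_eq_one_iff,
    EmbeddingLike.apply_eq_iff_eq] using h

theorem valid_gen : valid (a 1) (xa 0) := by decide +kernel

theorem valid_r : ∀ k, valid (rx k) (ry k) := by decide +kernel

theorem key : ∀ u v, valid u v → ∀ x y, valid x y →
    diag (F u v x) (F u v y) = sig (F u v) (diag x y) := by decide +kernel

theorem F_mul : ∀ u v, valid u v → ∀ x y, F u v (x * y) = F u v x * F u v y := by decide +kernel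

theorem F_inj : ∀ u v, valid u v → ∀ x y, F u v x = F u v y → x = y := by decide +kernel

theorem sig_id : ∀ k, sig id k = k := by decide +kernel

theorem ker_triv : ∀ u v, valid u v → (∀ k, sig (F u v) k = k) → ∀ x, F u v x = x := by
  decide +kernel

theorem surj : ∀ σ : Equiv.Perm (Fin 4), ∃ u v, valid u v ∧ ∀ k, sig (F u v) k = σ k := by
  decide +kernel

def psi0 : MulAut Q →* Function.End (Fin 4) where
  toFun φ := sig φ
  map_one' := funext sig_id
  map_mul' φ ψ := by
    funext k
    show diag (φ (ψ (rx k))) (φ (ψ (ry k))) = sig φ (diag (ψ (rx k)) (ψ (ry k)))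
    rw [eq_F φ]
    exact key _ _ (valid_map φ valid_gen) _ _ (valid_map ψ (valid_r k))

/-- The automorphism group of the quaternion group of order 8 is isomorphic to the symmetric group of degree 4. -/
theorem result : Nonempty (MulAut (QuaternionGroup 2) ≃* Equiv.Perm (Fin 4)) := by
  refine ⟨MulEquiv.ofBijective psi0.toHomPerm ⟨?_, ?_⟩⟩
  · rw [injective_iff_map_eq_one]
    intro φ hφ
    ext x
    have h : ∀ k, sig φ k = k := fun k => congrArg (fun σ : Equiv.Perm (Fin 4) => σ k) hφ
    rw [eq_F φ] at h ⊢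
    exact ker_triv _ _ (valid_map φ valid_gen) h x
  · intro σ
    obtain ⟨u, v, huv, h⟩ := surj σ
    refine ⟨MulEquiv.ofBijective (MonoidHom.mk' (F u v) (F_mul u v huv))
      (Finite.injective_iff_bijective.1 (F_inj u v huv)), ?_⟩
    ext k
    exact congrArg Fin.val (h k)

end Cfsg.Agent.S3742
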