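import Cfsg.Statements.S4189
import Cfsg.Agent.H3.Taussky
import Cfsg.Agent.H3.DQ

set_option autoImplicit false
open Cfsg

namespace Cfsg.Agent.S4189

open Subgroup in
theorem isPGroup_aut {P : Type*} [Group P] [Finite P] {x y : P} {n : ℕ} (hn : 1 ≤ n)
    (hx : orderOf x = 2 ^ n) (hidx : (zpowers x).index = 2) (hy : y ∉ zpowers x)
    (h : ∀ g : P, g ∉ zpowers x → orderOf g ≠ 2 ^ n) : IsPGroup 2 (MulAut P) := by
  intro α
  have h1 : ∀ β : MulAut P, β x ∈ zpowers x := fun β => by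
    by_contra hc
    exact h _ hc (by rw [MulEquiv.orderOf_eq, hx])
  obtain ⟨e, he⟩ := (Submonoid.mem_powers_iff _ _).1 (mem_powers_iff_mem_zpowers.2 (h1 α))
  have hco : Nat.Coprime e (2 ^ n) := by
    have h2 : orderOf (x ^ e) = orderOf x := by rw [he, MulEquiv.orderOf_eq]
    rw [orderOf_pow, Nat.div_eq_self] at h2
    rw [← hx, Nat.coprime_comm]
    exact h2.resolve_left (orderOf_pos x).ne'
  have h2 : ∀ k : ℕ, (α ^ k) x = x ^ e ^ k := fun k => by
    induction k with
    | zero => simp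
    | succ k ih => rw [pow_succ', MulAut.mul_apply, ih, map_pow, ← he, ← pow_mul, ← pow_succ']
  have h3 : (α ^ 2 ^ (n - 1)) x = x := by
    have := Nat.ModEq.pow_totient hco
    rw [Nat.totient_prime_pow Nat.prime_two hn, show 2 - 1 = 1 from rfl, mul_one, ← hx,
      ← pow_eq_pow_iff_modEq, pow_one] at this
    rw [h2, this]
  set β := α ^ 2 ^ (n - 1) with hβ
  have h4 : β y ∉ zpowers x := fun hc => by
    obtain ⟨k, hk⟩ := mem_zpowers_iff.1 hc
    rw [← h3, ← map_zpow] at hk
    exact hy (β.injective hk ▸ zpow_mem_zpowers x k)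
  obtain ⟨j, hj⟩ := H3.exists_eq_zpow_mul_of_index_two hidx hy h4
  have h5 : ∀ k : ℕ, (β ^ k) x = x ∧ (β ^ k) y = x ^ (j * k) * y := fun k => by
    induction k with
    | zero => simp
    | succ k ih =>
      refine ⟨by rw [pow_succ', MulAut.mul_apply, ih.1, h3], ?_⟩
      rw [pow_succ', MulAut.mul_apply, ih.2, map_mul, map_zpow, h3, hj]
      push_cast
      group
  refine ⟨n - 1 + n, ?_⟩
  rw [pow_add, pow_mul, ← hβ]
  obtain ⟨h6, h7⟩ := h5 (2 ^ n)
  rw [← hx, mul_comm j, zpow_mul, zpow_natCast, pow_orderOf_eq_one, one_zpow, one_mul, hx] at h7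
  ext g
  by_cases hg : g ∈ zpowers x
  · obtain ⟨k, rfl⟩ := mem_zpowers_iff.1 hg
    rw [map_zpow, h6, MulAut.one_apply]
  · obtain ⟨k, rfl⟩ := H3.exists_eq_zpow_mul_of_index_two hidx hy hg
    rw [map_mul, map_zpow, h6, h7, MulAut.one_apply]


/-- Let P be a finite non-abelian 2-group whose commutator subgroup has index 4 and whose automorphism group is not a 2-group (some automorphism has order that is not a power of 2). Then P is isomorphic to the quaternion group of order 8. -/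
theorem result {P : Type*} [Group P] [Finite P] (hP : IsPGroup 2 P) (hna : ¬ IsMulCommutative P) (h4 : (commutator P).index = 4) (haut : ¬ IsPGroup 2 (MulAut P)) : Nonempty (P ≃* QuaternionGroup 2) := by
  obtain ⟨n, x, y, hn, hx, hidx, hy, h⟩ := H3.taussky hP hna h4
  have key : ∀ (e : ℤ) (i : ℤ), y * x * y⁻¹ = x ^ e → (x ^ i * y) ^ 2 = x ^ (i * (1 + e)) * y ^ 2 :=
    fun e i he => by simpa [Finset.sum_range_succ] using H3.zpow_mul_pow_of_conj he i 2
  have hhalf : (x ^ 2 ^ (n - 1)) ^ 2 = 1 := by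
    rw [← pow_mul, ← pow_succ, Nat.sub_add_cancel (by omega), ← hx, pow_orderOf_eq_one]
  have fin : ∀ m : ℕ, m < n → (∀ i : ℤ, (x ^ i * y) ^ 2 ^ m = 1) → False := fun m hm h => by
    refine haut (isPGroup_aut (by omega) hx hidx hy fun g hg hc => ?_)
    obtain ⟨i, rfl⟩ := H3.exists_eq_zpow_mul_of_index_two hidx hy hg
    have := orderOf_dvd_of_pow_eq_one (h i)
    rw [hc, Nat.pow_dvd_pow_iff_le_right one_lt_two] at this
    omega
  rcases h with ⟨h1, h2⟩ | ⟨h1, h2⟩ | ⟨h3, h1, h2⟩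
  · exact (fin 1 (by omega) fun i => by
      rw [pow_one, key (-1) i (by rw [h2, zpow_neg_one]), h1]; simp).elim
  · by_cases h3 : n = 2
    · subst h3
      exact H3.nonempty_mulEquiv_quaternion (by rw [hx]; rfl) hidx hy h1 h2
    · exact (fin 2 (by omega) fun i => by
        rw [show 2 ^ 2 = 2 * 2 from rfl, pow_mul, key (-1) i (by rw [h2, zpow_neg_one]), h1]
        simpa using hhalf).elim
  · refine (fin 2 (by omega) fun i => ?_).elim
    rw [show 2 ^ 2 = 2 * 2 from rfl, pow_mul, key ((2 ^ (n - 1) - 1 : ℕ) : ℤ) i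
      (by rw [h2, zpow_natCast]), h1, mul_one, Nat.cast_sub Nat.one_le_two_pow, Nat.cast_one,
      add_sub_cancel, mul_comm, zpow_mul, zpow_natCast, ← zpow_natCast, ← zpow_mul, mul_comm,
      zpow_mul, zpow_natCast, hhalf, one_zpow]

end Cfsg.Agent.S4189
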