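import Cfsg.Statements.S4195


set_option autoImplicit false
open Cfsg

namespace Cfsg.Agent.S4195

theorem sq_eq_one_of_real {G : Type*} [Group G] [Finite G] (x : G)
    (hodd : ¬ 2 ∣ (Subgroup.centralizer ({x} : Set G)).index) (hreal : IsConj x x⁻¹) :
    x ^ 2 = 1 := by
  classical
  obtain ⟨g, hg⟩ := isConj_iff.1 hreal
  set C := Subgroup.centralizer ({x} : Set G) with hC
  let E : Subgroup G :=
    { carrier := {h | h * x * h⁻¹ = x ∨ h * x * h⁻¹ = x⁻¹}
      one_mem' := Or.inl (by simp)
      mul_mem' := fun {a b} ha hb => by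
        have e : a * b * x * (a * b)⁻¹ = a * (b * x * b⁻¹) * a⁻¹ := by group
        have e2 : a * x⁻¹ * a⁻¹ = (a * x * a⁻¹)⁻¹ := by group
        change _ ∨ _
        rw [e]
        rcases ha with ha | ha <;> rcases hb with hb | hb <;> rw [hb] <;> simp [e2, ha]
      inv_mem' := fun {a} ha => by
        change _ ∨ _
        rcases ha with ha | ha
        · left
          calc a⁻¹ * x * a⁻¹⁻¹ = a⁻¹ * (a * x * a⁻¹) * a := by rw [ha]; simp
            _ = x := by group
        · right
          have : a * x⁻¹ * a⁻¹ = x := by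
            calc a * x⁻¹ * a⁻¹ = (a * x * a⁻¹)⁻¹ := by group
              _ = x := by rw [ha, inv_inv]
          calc a⁻¹ * x * a⁻¹⁻¹ = a⁻¹ * (a * x⁻¹ * a⁻¹) * a := by rw [this]; simp
            _ = x⁻¹ := by group }
  have hmem : ∀ h : G, h ∈ C ↔ h * x * h⁻¹ = x := by
    intro h
    rw [hC, Subgroup.mem_centralizer_singleton_iff, mul_inv_eq_iff_eq_mul]
  have hCE : C ≤ E := fun h hh => Or.inl ((hmem h).1 hh)
  by_contra hne
  have hne' : x⁻¹ ≠ x := fun h => hne (by rw [pow_two]; nth_rewrite 1 [← h]; simp)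
  apply hodd
  rw [← Subgroup.relIndex_mul_index hCE]
  apply Dvd.dvd.mul_right
  have : C.relIndex E = 2 := by
    rw [Subgroup.relIndex, Subgroup.index_eq_two_iff]
    refine ⟨⟨g, Or.inr hg⟩, fun b => ?_⟩
    simp only [Subgroup.mem_subgroupOf, Subgroup.coe_mul, hmem]
    have e : (b : G) * g * x * ((b : G) * g)⁻¹ = ((b : G) * x * (b : G)⁻¹)⁻¹ := by
      calc (b : G) * g * x * ((b : G) * g)⁻¹ = b * (g * x * g⁻¹) * (b : G)⁻¹ := by group
        _ = _ := by rw [hg]; group
    rw [e]
    rcases b.2 with hb | hb <;> rw [hb]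
    · exact Or.inr ⟨rfl, hne'⟩
    · exact Or.inl ⟨inv_inv x, hne'⟩
  rw [this]

/-- Let x be a non-identity element of a finite group G whose centralizer contains a Sylow 2-subgroup of G. If x is conjugate to its inverse, then x has order 2. -/
theorem result {G : Type*} [Group G] [Finite G] (x : G) (hx : x ≠ 1) (P : Sylow 2 G) (hP : (P : Subgroup G) ≤ Subgroup.centralizer ({x} : Set G)) (hreal : IsConj x x⁻¹) : orderOf x = 2 := by
  refine orderOf_eq_prime (sq_eq_one_of_real x ?_ hreal) hx
  exact fun h => P.not_dvd_index (h.trans (Subgroup.index_dvd_of_le hP))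

end Cfsg.Agent.S4195
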