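import Cfsg.Statements.S3863
import Cfsg.Agent.H8.PComplement
import Cfsg.Agent.S4195

set_option autoImplicit false
open Cfsg

namespace Cfsg.Agent.S3863

open Subgroup

theorem exists_two {G : Type*} [Group G] [Finite G] (x : G) (hx : IsConj x x⁻¹) :
    ∃ t : G, (∃ j : ℕ, orderOf t = 2 ^ j) ∧ t * x * t⁻¹ = x⁻¹ := by
  obtain ⟨g, hg⟩ := isConj_iff.1 hx
  obtain ⟨a, b, -, hb, hab, -, ha, hbo⟩ := H8.exists_pPart_pPrimePart Nat.prime_two g
  refine ⟨a, ha, ?_⟩
  have hg2 : g ^ 2 ∈ centralizer ({x} : Set G) := by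
    rw [mem_centralizer_singleton_iff]
    have h1 : g * x⁻¹ * g⁻¹ = x := by
      have := congrArg (·⁻¹) hg
      simpa [mul_assoc] using this
    calc g ^ 2 * x = g * (g * x * g⁻¹) * g := by rw [pow_two]; group
      _ = (g * x⁻¹ * g⁻¹) * g ^ 2 := by rw [hg, pow_two]; group
      _ = x * g ^ 2 := by rw [h1]
  have hbC : b ∈ centralizer ({x} : Set G) := by
    refine H8.mem_of_pow_mem_of_coprime hbo ?_
    obtain ⟨k, rfl⟩ := mem_zpowers_iff.1 hb
    have : (g ^ k) ^ 2 = (g ^ 2) ^ k := by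
      rw [← zpow_natCast, ← zpow_mul, ← zpow_natCast, ← zpow_mul, mul_comm]
    rw [this]
    exact zpow_mem hg2 k
  rw [mem_centralizer_singleton_iff] at hbC
  rw [← hg, hab]
  calc a * x * a⁻¹ = a * (x * b) * b⁻¹ * a⁻¹ := by group
    _ = a * b * x * (a * b)⁻¹ := by rw [← hbC]; group

/-- Let x be an element of the finite group G that is conjugate to its inverse. Then some 2-element conjugates x to its inverse; if the conjugacy class of x has odd size then x ^ 2 = 1; and x lies in, and is conjugate to its inverse inside, every normal subgroup of odd index. -/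
theorem result {G : Type*} [Group G] [Finite G] (x : G) (hx : IsConj x x⁻¹) : (∃ t : G, (∃ j : ℕ, orderOf t = 2 ^ j) ∧ t * x * t⁻¹ = x⁻¹) ∧ (Odd (Subgroup.centralizer ({x} : Set G)).index → x ^ 2 = 1) ∧ ∀ (N : Subgroup G) [N.Normal], Odd N.index → ∃ hxN : x ∈ N, IsConj (⟨x, hxN⟩ : N) (⟨x, hxN⟩ : N)⁻¹ := by
  refine ⟨exists_two x hx, fun h => S4195.sq_eq_one_of_real x ?_ hx, ?_⟩
  · rw [← even_iff_two_dvd, Nat.not_even_iff_odd]; exact h
  · intro N _ hN
    obtain ⟨t, ⟨j, hj⟩, ht⟩ := exists_two x hx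
    have hc : Nat.Coprime 2 N.index := Nat.coprime_two_left.2 hN
    have htN : t ∈ N := H8.mem_of_coprime_index (by rw [hj]; exact hc.pow_left j)
    have h2 : x ^ 2 ∈ N := by
      have h1 : x * t⁻¹ * x⁻¹ ∈ N := (inferInstance : N.Normal).conj_mem _ (inv_mem htN) x
      have h3 : (t * (x * t⁻¹ * x⁻¹))⁻¹ ∈ N := inv_mem (mul_mem htN h1)
      have : x ^ 2 = (t * (x * t⁻¹ * x⁻¹))⁻¹ := by
        calc x ^ 2 = ((x⁻¹) * x⁻¹)⁻¹ := by rw [pow_two, mul_inv_rev, inv_inv]
          _ = ((t * x * t⁻¹) * x⁻¹)⁻¹ := by rw [ht]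
          _ = _ := by group
      rwa [this]
    have hxN : x ∈ N := by
      obtain ⟨m, hm⟩ := hN
      have h1 : x ^ N.index ∈ N := pow_index_mem N x
      rw [hm, pow_succ, pow_mul] at h1
      exact (mul_mem_cancel_left (pow_mem h2 m)).1 h1
    refine ⟨hxN, isConj_iff.2 ⟨⟨t, htN⟩, Subtype.ext ?_⟩⟩
    simpa using ht

end Cfsg.Agent.S3863
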