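import Cfsg.Statements.S3861
import Cfsg.Agent.H5.Real
import Cfsg.Agent.S3863

set_option autoImplicit false
open Cfsg

namespace Cfsg.Agent.S3861

open Subgroup

/-- A finite group G has no non-identity element of odd order that is conjugate to its inverse if and only if the Sylow 2-subgroups of G are normal. -/
theorem result {G : Type*} [Group G] [Finite G] (P : Sylow 2 G) : (∀ x : G, x ≠ 1 → Odd (orderOf x) → ¬ IsConj x x⁻¹) ↔ (P : Subgroup G).Normal := by
  constructor
  · intro h
    refine H5.sylow_two_normal_of_not_real (fun x g hx hg => ?_) P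
    by_contra hne
    exact h x hne hx (isConj_iff.2 ⟨g, hg⟩)
  · intro hP x hx1 hx hc
    obtain ⟨t, ⟨j, hj⟩, ht⟩ := S3863.exists_two x hc
    have hPi : Nat.Coprime 2 (P : Subgroup G).index :=
      (Nat.Prime.coprime_iff_not_dvd Nat.prime_two).2 P.not_dvd_index
    have htP : t ∈ (P : Subgroup G) := H8.mem_of_coprime_index (by rw [hj]; exact hPi.pow_left j)
    have h2 : x ^ 2 ∈ (P : Subgroup G) := by
      have h1 : x * t⁻¹ * x⁻¹ ∈ (P : Subgroup G) := hP.conj_mem _ (inv_mem htP) x
      have h3 := inv_mem (mul_mem htP h1)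
      have : x ^ 2 = (t * (x * t⁻¹ * x⁻¹))⁻¹ := by
        calc x ^ 2 = ((x⁻¹) * x⁻¹)⁻¹ := by rw [pow_two, mul_inv_rev, inv_inv]
          _ = ((t * x * t⁻¹) * x⁻¹)⁻¹ := by rw [ht]
          _ = _ := by group
      rwa [this]
    have hxP : x ∈ (P : Subgroup G) :=
      H8.mem_of_pow_mem_of_coprime (Nat.coprime_two_right.2 hx) h2
    obtain ⟨k, hk⟩ := IsPGroup.iff_orderOf.1 P.isPGroup' ⟨x, hxP⟩
    rw [← Subgroup.orderOf_coe] at hk
    change orderOf x = _ at hk
    rcases k with _ | k
    · exact hx1 (orderOf_eq_one_iff.1 hk)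
    · rw [hk, pow_succ] at hx
      exact absurd hx (by simp)

end Cfsg.Agent.S3861
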