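import Cfsg.Statements.S3806
import Cfsg.Agent.H2.MaxClass3

set_option autoImplicit false
open Cfsg

namespace Cfsg.Agent.S3806

open Subgroup Cfsg.Agent.H2

theorem prank_quotient {G : Type*} [Group G] {p k : ℕ} (h : Cfsg.SectionalPRankLE p k G)
    (N : Subgroup G) [N.Normal] : Cfsg.PRankLE p k (G ⧸ N) := by
  let f : (⊤ : Subgroup G) →* G ⧸ N := (QuotientGroup.mk' N).comp (⊤ : Subgroup G).subtype
  have hf : Function.Surjective f := fun y => by
    obtain ⟨x, rfl⟩ := QuotientGroup.mk'_surjective N y
    exact ⟨⟨x, trivial⟩, rfl⟩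
  let e := QuotientGroup.quotientKerEquivOfSurjective f hf
  intro A hA hp
  have := h ⊤ f.ker (A.map e.symm.toMonoidHom) inferInstance (by
    rintro _ ⟨a, ha, rfl⟩
    rw [← map_pow, hp a ha, map_one])
  rwa [card_map_of_injective e.symm.injective] at this

/-- Let p be a prime and S a finite p-group of order pⁿ (n ≥ 2) of maximal nilpotency class n − 1 whose sectional p-rank is exactly k (every section has p-rank at most k, and some section has p-rank k). If p ≥ k + 2 then the order of S is at most p^(2k). -/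
theorem result {S : Type*} [Group S] [Finite S] (p : ℕ) [Fact p.Prime] (hS : IsPGroup p S) [Group.IsNilpotent S]
    (n : ℕ) (hn : 2 ≤ n) (hcard : Nat.card S = p ^ n) (hmax : Group.nilpotencyClass S = n - 1)
    (k : ℕ) (hk : 1 ≤ k) (hsr : Cfsg.SectionalPRankLE p k S ∧ ¬ Cfsg.SectionalPRankLE p (k - 1) S)
    (hpk : k + 2 ≤ p) : Nat.card S ≤ p ^ (2 * k) := by
  have hp : p.Prime := Fact.out
  rw [hcard]
  refine Nat.pow_le_pow_right hp.pos ?_
  by_contra hlt
  have hm : MaxClass p n S := maxClass_of_nilpotencyClass (by omega) hcard hmax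
  have hlt' : ¬ p ^ (k + 1) ≤ p ^ k := by
    rw [Nat.pow_le_pow_iff_right hp.one_lt]; omega
  apply hlt'
  rcases hk.eq_or_lt with rfl | hk2
  · have hc : IsMulCommutative (S ⧸ lcs S 1) :=
      isMulCommutative_iff_lcs_one.2 (by
        rw [← map_lcs_of_surjective (QuotientGroup.mk'_surjective _), ← H7.le_iff_map_mk'_eq_bot])
    have := prank_quotient hsr.1 (lcs S 1) ⊤ inferInstance (by
      intro a _
      obtain ⟨x, rfl⟩ := QuotientGroup.mk'_surjective _ a
      rw [← map_pow]
      exact (QuotientGroup.eq_one_iff _).2 (hm.pow_mem_lcs_one x))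
    rwa [card_top, ← index_eq_card, hm.index_lcs_one] at this
  · have hq : MaxClass p (2 * k + 1) (S ⧸ lcs S (2 * k)) :=
      hm.quotient (m := 2 * k + 1) (by omega) (by omega)
    have hab := hq.isMulCommutative_lcs (j := k - 1) (by omega) (by omega)
    obtain ⟨s, hs⟩ := hq.exists_unif
    have := prank_quotient hsr.1 (lcs S (2 * k)) (lcs _ (k - 1)) hab (by
      intro a ha
      have := hq.pow_mem_lcs hs (j := k - 1) (by omega) le_rfl ha
      rwa [hq.lcs_eq_bot (by omega), mem_bot] at this)
    rwa [hq.card_lcs (by omega), show 2 * k + 1 - 1 - (k - 1) = k + 1 by omega] at this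

end Cfsg.Agent.S3806
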