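import Cfsg.Statements.S3866
import Cfsg.Agent.H1.Basic

set_option autoImplicit false
open Cfsg

namespace Cfsg.Agent.S3866

open Subgroup

/-- the map `a ↦ x a x⁻¹ a⁻¹` on an abelian normal subgroup -/
def commHom {G : Type*} [Group G] (A : Subgroup G) [hn : A.Normal] (hA : IsMulCommutative A)
    (x : G) : A →* G :=
  MonoidHom.mk' (fun a => x * a * x⁻¹ * (a : G)⁻¹) (by
    intro a b
    have hb : x * b * x⁻¹ * (b : G)⁻¹ ∈ A := mul_mem (hn.conj_mem _ b.2 x) (inv_mem b.2)
    have := congrArg Subtype.val (hA.is_comm.comm ⟨_, hb⟩ a⁻¹)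
    simp only [coe_mul, coe_inv] at this ⊢
    calc x * (a * b) * x⁻¹ * ((a : G) * b)⁻¹
        = x * a * x⁻¹ * (x * b * x⁻¹ * (b : G)⁻¹ * (a : G)⁻¹) := by group
      _ = _ := by rw [this]; group)

theorem commHom_apply {G : Type*} [Group G] (A : Subgroup G) [hn : A.Normal]
    (hA : IsMulCommutative A) (x : G) (a : A) :
    commHom A hA x a = x * a * x⁻¹ * (a : G)⁻¹ := rfl

theorem range_commHom {G : Type*} [Group G] (A : Subgroup G) [hn : A.Normal]
    (hA : IsMulCommutative A) (x : G) (hgen : A ⊔ zpowers x = ⊤) :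
    (commHom A hA x).range = commutator G := by
  have hcomm : ∀ a ∈ A, ∀ b ∈ A, a * b = b * a := fun a ha b hb =>
    congrArg Subtype.val (hA.is_comm.comm ⟨a, ha⟩ ⟨b, hb⟩)
  apply le_antisymm
  · rintro _ ⟨a, rfl⟩
    exact commutator_mem_commutator (mem_top x) (mem_top (a : G))
  · have hKA : (commHom A hA x).range ≤ A := by
      rintro _ ⟨a, rfl⟩
      exact mul_mem (hn.conj_mem _ a.2 x) (inv_mem a.2)
    have hKn : (commHom A hA x).range.Normal := by
      rw [← normalizer_eq_top_iff, eq_top_iff, ← hgen]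
      refine sup_le (H1.le_normalizer_of_le_centralizer fun a ha y hy => hcomm y (hKA hy) a ha) ?_
      rw [zpowers_le, mem_normalizer_iff]
      intro y
      constructor
      · rintro ⟨a, rfl⟩
        exact ⟨⟨x * a * x⁻¹, hn.conj_mem _ a.2 x⟩, by simp [commHom_apply, mul_assoc]⟩
      · rintro ⟨a, ha⟩
        refine ⟨⟨x⁻¹ * a * x⁻¹⁻¹, hn.conj_mem _ a.2 x⁻¹⟩, ?_⟩
        rw [commHom_apply] at ha ⊢
        calc _ = x⁻¹ * (x * a * x⁻¹ * (a : G)⁻¹) * x := by simp [mul_assoc]
          _ = y := by rw [ha]; group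
    set K := (commHom A hA x).range
    let f := QuotientGroup.mk' K
    have hxa : ∀ a ∈ A, f x * f a = f a * f x := by
      intro a ha
      have : f (x * a * x⁻¹ * a⁻¹) = 1 := (QuotientGroup.eq_one_iff _).2 ⟨⟨a, ha⟩, rfl⟩
      simp only [map_mul, map_inv] at this
      calc f x * f a = (f x * f a * (f x)⁻¹ * (f a)⁻¹) * (f a * f x) := by group
        _ = _ := by rw [this, one_mul]
    have hc : ∀ g : G, (∀ a ∈ A, f a * f g = f g * f a) → f x * f g = f g * f x →
        ∀ h, f h * f g = f g * f h := by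
      intro g h1 h2 h
      have : A ⊔ zpowers x ≤ (centralizer {f g}).comap f := by
        refine sup_le (fun a ha => ?_) ?_
        · exact mem_centralizer_singleton_iff.2 (h1 a ha)
        · rw [zpowers_le]; exact mem_centralizer_singleton_iff.2 h2
      exact mem_centralizer_singleton_iff.1 (this (hgen ▸ mem_top h))
    have hall : ∀ g h : G, f h * f g = f g * f h := by
      intro g h
      refine (hc h (fun a ha => ?_) ?_ g).symm
      · exact (hc a (fun b hb => by rw [← map_mul, ← map_mul, hcomm b hb a ha]) (hxa a ha) h).symm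
      · exact (hc x (fun a ha => (hxa a ha).symm) rfl h).symm
    rw [_root_.commutator_def, commutator_le]
    intro g _ h _
    rw [← QuotientGroup.eq_one_iff]
    change f _ = 1
    rw [map_commutatorElement, commutatorElement_eq_one_iff_mul_comm]
    exact hall h g

theorem ker_commHom {G : Type*} [Group G] (A : Subgroup G) [hn : A.Normal]
    (hA : IsMulCommutative A) (x : G) :
    (commHom A hA x).ker = (centralizer ({x} : Set G)).subgroupOf A := by
  ext a
  rw [MonoidHom.mem_ker, commHom_apply, mem_subgroupOf, mem_centralizer_singleton_iff,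
    mul_inv_eq_one, mul_inv_eq_iff_eq_mul, eq_comm]

theorem card_commutator_mul {G : Type*} [Group G] (A : Subgroup G) [hn : A.Normal]
    (hA : IsMulCommutative A) (x : G) (hgen : A ⊔ zpowers x = ⊤) :
    Nat.card (commutator G) * Nat.card ↥(A ⊓ centralizer ({x} : Set G)) = Nat.card A := by
  rw [← range_commHom A hA x hgen, ← index_ker, ker_commHom, mul_comm, inf_comm]
  exact H1.card_inf_mul_relIndex _ _

/-- Let A be a commutative normal subgroup of the finite group G with G generated by A and an element x. Then a ↦ x a x⁻¹ a⁻¹ is a surjective homomorphism from A onto the commutator subgroup of G whose kernel is the centralizer of x in A; in particular the commutator subgroup has order equal to the index in A of that centralizer. -/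
theorem result {G : Type*} [Group G] [Finite G] (A : Subgroup G) [A.Normal] (hA : IsMulCommutative A) (x : G) (hgen : A ⊔ Subgroup.zpowers x = ⊤) : (∀ a ∈ A, x * a * x⁻¹ * a⁻¹ ∈ commutator G) ∧ (∀ c ∈ commutator G, ∃ a ∈ A, x * a * x⁻¹ * a⁻¹ = c) ∧ (∀ a ∈ A, ∀ b ∈ A, x * (a * b) * x⁻¹ * (a * b)⁻¹ = (x * a * x⁻¹ * a⁻¹) * (x * b * x⁻¹ * b⁻¹)) ∧ Nat.card (commutator G) * Nat.card ↥(A ⊓ Subgroup.centralizer ({x} : Set G)) = Nat.card A := by
  refine ⟨fun a _ => commutator_mem_commutator (mem_top x) (mem_top a), fun c hc => ?_,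
    fun a ha b hb => (commHom A hA x).map_mul ⟨a, ha⟩ ⟨b, hb⟩, card_commutator_mul A hA x hgen⟩
  rw [← range_commHom A hA x hgen] at hc
  obtain ⟨a, rfl⟩ := hc
  exact ⟨a, a.2, rfl⟩

end Cfsg.Agent.S3866
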