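import Cfsg.Statements.S3807
import Cfsg.Agent.S3866
import Cfsg.Agent.H3.PBasic

set_option autoImplicit false
open Cfsg

namespace Cfsg.Agent.S3807

open Subgroup
open scoped commutatorElement

theorem card_partition {G : Type*} [Group G] [Finite G] (Z : Subgroup G) (T : Subgroup G → Prop)
    (m : ℕ) (hle : ∀ B, T B → Z ≤ B) (hcard : ∀ B, T B → Nat.card B = m)
    (hex : ∀ y, y ∉ Z → ∃ B, T B ∧ y ∈ B)
    (huniq : ∀ y, y ∉ Z → ∀ B C, T B → T C → y ∈ B → y ∈ C → B = C) :
    Nat.card G - Nat.card Z = Nat.card {B // T B} * (m - Nat.card Z) := by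
  classical
  have := Fintype.ofFinite G
  have : Fintype (Subgroup G) := Fintype.ofFinite _
  have hc : ∀ B : Subgroup G, Nat.card B = (Finset.univ.filter (· ∈ B)).card := fun B => by
    rw [Nat.card_eq_fintype_card, Fintype.card_subtype]
  have h1 : Finset.univ \ Finset.univ.filter (· ∈ Z) =
      (Finset.univ.filter T).biUnion
        (fun B => Finset.univ.filter (· ∈ B) \ Finset.univ.filter (· ∈ Z)) := by
    ext y
    simp only [Finset.mem_sdiff, Finset.mem_univ, Finset.mem_filter, true_and, Finset.mem_biUnion]
    constructor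
    · intro hy
      obtain ⟨B, hB, hyB⟩ := hex y hy
      exact ⟨B, hB, hyB, hy⟩
    · rintro ⟨B, -, -, h⟩
      exact h
  have h2 := congrArg Finset.card h1
  rw [Finset.card_biUnion, Finset.card_sdiff_of_subset (Finset.subset_univ _), Finset.card_univ,
    Finset.sum_const_nat (m := m - Nat.card Z)] at h2
  · rw [← hc Z] at h2
    rw [Nat.card_eq_fintype_card (α := G), h2, Nat.card_eq_fintype_card (α := {B // T B}),
      Fintype.card_subtype]
  · intro B hB
    rw [Finset.mem_filter] at hB
    rw [Finset.card_sdiff_of_subset, ← hc, ← hc, hcard B hB.2]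
    intro y hy
    rw [Finset.mem_filter] at hy ⊢
    exact ⟨hy.1, hle B hB.2 hy.2⟩
  · intro B hB C hC hne
    simp only [Finset.coe_filter, Finset.mem_univ, true_and, Set.mem_setOf_eq] at hB hC
    rw [Function.onFun, Finset.disjoint_left]
    intro y hy hy'
    simp only [Finset.mem_sdiff, Finset.mem_univ, Finset.mem_filter, true_and] at hy hy'
    exact hne (huniq y hy.2 B C hB hC hy.1 hy'.1)

theorem center_le_of_coatom {S : Type*} [Group S] (hna : ¬ IsMulCommutative S) {B : Subgroup S}
    (hB : IsMulCommutative B) (hBc : IsCoatom B) : center S ≤ B := by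
  intro z hz
  by_contra h
  have h1 : B ⊔ zpowers z = ⊤ := hBc.2 _ (lt_of_le_of_ne le_sup_left fun e =>
    h (e ▸ mem_sup_right (mem_zpowers z)))
  have h2 := H3.isMulCommutative_sup_zpowers hB (center_le_centralizer _ hz)
  rw [h1] at h2
  exact hna ⟨⟨fun a b => congrArg Subtype.val (h2.is_comm.comm ⟨a, trivial⟩ ⟨b, trivial⟩)⟩⟩

theorem inf_le_center {S : Type*} [Group S] {A B : Subgroup S} (hA : IsMulCommutative A)
    (hB : IsMulCommutative B) (h : A ⊔ B = ⊤) : A ⊓ B ≤ center S := by
  intro z hz
  have : A ⊔ B ≤ centralizer {z} := sup_le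
    (fun a ha => mem_centralizer_singleton_iff.2
      (congrArg Subtype.val (hA.is_comm.comm ⟨a, ha⟩ ⟨z, hz.1⟩)))
    (fun a ha => mem_centralizer_singleton_iff.2
      (congrArg Subtype.val (hB.is_comm.comm ⟨a, ha⟩ ⟨z, hz.2⟩)))
  rw [mem_center_iff]
  intro g
  exact mem_centralizer_singleton_iff.1 (this (h ▸ mem_top g))

theorem index_center {S : Type*} [Group S] [Finite S] (p : ℕ) [Fact p.Prime] (hS : IsPGroup p S)
    (hna : ¬ IsMulCommutative S) (A : Subgroup S) (hA : IsMulCommutative A) (hAi : A.index = p) :
    (center S).index = p * Nat.card (commutator S) := by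
  have hp : p.Prime := Fact.out
  have hAc : IsCoatom A := H3.isCoatom_of_index_prime (hAi ▸ hp)
  have hAn : A.Normal := H3.normal_of_index_eq_prime hS hAi
  obtain ⟨x, hx⟩ : ∃ x, x ∉ A := by
    by_contra! h
    exact hAc.1 (eq_top_iff.2 fun x _ => h x)
  have hgen : A ⊔ zpowers x = ⊤ := hAc.2 _ (lt_of_le_of_ne le_sup_left fun e =>
    hx (e ▸ mem_sup_right (mem_zpowers x)))
  have hZ : A ⊓ centralizer ({x} : Set S) = center S := by
    apply le_antisymm
    · intro z hz
      have : A ⊔ zpowers x ≤ centralizer {z} := sup_le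
        (fun a ha => mem_centralizer_singleton_iff.2
          (congrArg Subtype.val (hA.is_comm.comm ⟨a, ha⟩ ⟨z, hz.1⟩)))
        (by rw [zpowers_le, mem_centralizer_singleton_iff]
            exact (mem_centralizer_singleton_iff.1 hz.2).symm)
      rw [mem_center_iff]
      intro g
      exact mem_centralizer_singleton_iff.1 (this (hgen ▸ mem_top g))
    · exact le_inf (center_le_of_coatom hna hA hAc) (center_le_centralizer _)
  have h1 := S3866.card_commutator_mul A hA x hgen
  rw [hZ] at h1
  have h2 := (center S).index_mul_card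
  have h3 := A.index_mul_card
  apply Nat.eq_of_mul_eq_mul_right (Nat.card_pos (α := center S))
  rw [h2, ← h3, ← h1, hAi, mul_assoc]

/-- Let S be a non-abelian finite p-group with an abelian subgroup A of index p. Then [S : Z(S)] = p·#[S,S], and either [S,S] has order p, S/Z(S) is elementary abelian of order p², and S has exactly p + 1 abelian subgroups of index p; or [S,S] has order at least p² and A is the only abelian subgroup of index p in S. -/
theorem result {S : Type*} [Group S] [Finite S] (p : ℕ) [Fact p.Prime] (hS : IsPGroup p S) (hna : ¬ IsMulCommutative S)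
    (A : Subgroup S) (hA : IsMulCommutative ↥A) (hAi : A.index = p) :
    (Subgroup.center S).index = p * Nat.card (commutator S) ∧
      ((Nat.card (commutator S) = p ∧ Cfsg.IsElementaryAbelian p (⊤ : Subgroup (S ⧸ Subgroup.center S)) ∧
          Nat.card (S ⧸ Subgroup.center S) = p ^ 2 ∧
          Nat.card {B : Subgroup S // IsMulCommutative ↥B ∧ B.index = p} = p + 1) ∨
        (p ^ 2 ≤ Nat.card (commutator S) ∧ ∀ B : Subgroup S, IsMulCommutative ↥B → B.index = p → B = A)) := by
  have hp : p.Prime := Fact.out
  have hidx := index_center p hS hna A hA hAi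
  refine ⟨hidx, ?_⟩
  have hne : commutator S ≠ ⊥ := by
    intro h
    apply hna
    refine ⟨⟨fun a b => ?_⟩⟩
    have : ⁅a, b⁆ ∈ commutator S := commutator_mem_commutator (mem_top a) (mem_top b)
    rw [h, mem_bot, commutatorElement_eq_one_iff_mul_comm] at this
    exact this
  obtain ⟨k, hk⟩ := IsPGroup.iff_card.1 (hS.to_subgroup (commutator S))
  have hk0 : k ≠ 0 := by
    rintro rfl
    exact hne (card_eq_one.1 (by simpa using hk))
  have hZ : ∀ B : Subgroup S, IsMulCommutative B → B.index = p → center S ≤ B := fun B hB hBi =>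
    center_le_of_coatom hna hB (H3.isCoatom_of_index_prime (hBi ▸ hp))
  by_cases hk1 : k = 1
  · left
    subst hk1
    rw [pow_one] at hk
    have hq : Nat.card (S ⧸ center S) = p ^ 2 := by
      rw [← index_eq_card, hidx, hk, pow_two]
    have hnc : ¬ IsCyclic (S ⧸ center S) := fun h =>
      hna (MonoidHom.isMulCommutative_of_isCyclic_of_ker_le_center (QuotientGroup.mk' (center S))
        (by rw [QuotientGroup.ker_mk']))
    have hord : ∀ y : S ⧸ center S, y ^ p = 1 := by
      intro y
      have h1 : orderOf y ∣ p ^ 2 := hq ▸ orderOf_dvd_natCard y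
      obtain ⟨j, hj, hje⟩ := (Nat.dvd_prime_pow hp).1 h1
      rcases Nat.lt_or_ge j 2 with h | h
      · rw [← orderOf_dvd_iff_pow_eq_one, hje]
        exact (pow_dvd_pow p (Nat.lt_succ_iff.1 h)).trans (by rw [pow_one])
      · exact absurd (isCyclic_of_orderOf_eq_card y (by rw [hje, hq, le_antisymm hj h])) hnc
    refine ⟨hk, ⟨?_, fun y _ => hord y⟩, hq, ?_⟩
    · have := IsPGroup.isMulCommutative_of_card_eq_prime_sq hq
      infer_instance
    · have hG : Nat.card S = p ^ 2 * Nat.card (center S) := by
        rw [← (center S).index_mul_card, index_eq_card, hq]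
      have hcardB : ∀ B : Subgroup S, B.index = p ↔ Nat.card B = p * Nat.card (center S) := by
        intro B
        have h1 := B.index_mul_card
        rw [hG] at h1
        constructor
        · intro h
          rw [h, pow_two, mul_assoc] at h1
          exact Nat.eq_of_mul_eq_mul_left hp.pos h1
        · intro h
          rw [h, pow_two, mul_assoc] at h1
          exact Nat.eq_of_mul_eq_mul_right (Nat.mul_pos hp.pos Nat.card_pos) h1
      have hsup : ∀ y, y ∉ center S → IsMulCommutative ↥(center S ⊔ zpowers y) ∧
          (center S ⊔ zpowers y).index = p := by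
        intro y hy
        refine ⟨H3.isMulCommutative_sup_zpowers inferInstance
          (fun z hz => (mem_center_iff.1 hz y).symm), (hcardB _).2 ?_⟩
        rw [← H3.card_map_mk'_mul (center S) le_sup_left, Subgroup.map_sup,
          (Subgroup.map_eq_bot_iff _).2 (by rw [QuotientGroup.ker_mk']), bot_sup_eq,
          MonoidHom.map_zpowers, Nat.card_zpowers, orderOf_eq_prime (hord _)]
        intro h
        exact hy ((QuotientGroup.eq_one_iff _).1 h)
      have h := card_partition (center S) (fun B => IsMulCommutative B ∧ B.index = p)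
        (p * Nat.card (center S)) (fun B hB => hZ B hB.1 hB.2) (fun B hB => (hcardB B).1 hB.2)
        (fun y hy => ⟨_, hsup y hy, mem_sup_right (mem_zpowers y)⟩)
        (fun y hy B C hB hC hyB hyC => by
          have e : ∀ D : Subgroup S, IsMulCommutative D ∧ D.index = p → y ∈ D →
              center S ⊔ zpowers y = D := fun D hD hyD =>
            eq_of_le_of_card_ge (sup_le (hZ D hD.1 hD.2) (zpowers_le.2 hyD))
              (by rw [(hcardB D).1 hD.2, (hcardB _).1 (hsup y hy).2])
          rw [← e B hB hyB, e C hC hyC])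
      rw [hG] at h
      have hz : 0 < Nat.card (center S) := Nat.card_pos
      generalize Nat.card (center S) = z at h hz
      generalize Nat.card {B : Subgroup S // IsMulCommutative B ∧ B.index = p} = t at h ⊢
      obtain ⟨q, rfl⟩ : ∃ q, p = q + 1 := ⟨p - 1, (Nat.sub_add_cancel hp.pos).symm⟩
      have hq0 : 0 < q := by have := hp.two_le; omega
      have e1 : (q + 1) ^ 2 * z - z = (q + 1 + 1) * (q * z) := by
        rw [Nat.sub_eq_iff_eq_add (Nat.le_mul_of_pos_left _ (by positivity))]; ring
      have e2 : (q + 1) * z - z = q * z := by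
        rw [Nat.sub_eq_iff_eq_add (Nat.le_mul_of_pos_left _ (by positivity))]; ring
      rw [e1, e2] at h
      exact (Nat.eq_of_mul_eq_mul_right (Nat.mul_pos hq0 hz) h).symm
  · right
    have h2 : p ^ 2 ≤ Nat.card (commutator S) := by
      rw [hk]; exact Nat.pow_le_pow_right hp.pos (by omega)
    refine ⟨h2, fun B hB hBi => by_contra fun hne => ?_⟩
    have hAc : IsCoatom A := H3.isCoatom_of_index_prime (hAi ▸ hp)
    have hBc : IsCoatom B := H3.isCoatom_of_index_prime (hBi ▸ hp)
    have h3 := inf_le_center hB hA (hBc.sup_eq_top_of_ne hAc hne)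
    have h4 : (center S).index ≤ (B ⊓ A).index := index_antitone h3
    have h5 : (B ⊓ A).index ≤ B.index * A.index := index_inf_le
    rw [hBi, hAi] at h5
    rw [hidx] at h4
    have h6 := Nat.le_of_mul_le_mul_left (h4.trans h5) hp.pos
    have h7 : p < p ^ 2 := by
      calc p = p ^ 1 := (pow_one p).symm
        _ < p ^ 2 := Nat.pow_lt_pow_right hp.one_lt (by norm_num)
    omega

end Cfsg.Agent.S3807
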