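import Cfsg.Statements.S3808
import Cfsg.Agent.H2.Extraspecial
import Cfsg.Agent.H2.Components

set_option autoImplicit false
open Cfsg

namespace Cfsg.Agent.S3808

open Subgroup Cfsg.Agent.H2

theorem le_center {S : Type*} [Group S] [Finite S] {p : ℕ} [Fact p.Prime] (hS : IsPGroup p S)
    (N : Subgroup S) [N.Normal] (hN : Nat.card N = p) : N ≤ center S := by
  have hp : p.Prime := Fact.out
  have := hS.isNilpotent
  have h1 := H3.normal_inf_center_ne_bot N (by
    rintro rfl
    rw [card_bot] at hN
    exact hp.one_lt.ne hN)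
  have h2 : Nat.card ↥(N ⊓ center S) ∣ p := hN ▸ card_dvd_of_le inf_le_left
  rcases (Nat.dvd_prime hp).1 h2 with h | h
  · exact absurd (card_eq_one.1 h) h1
  · exact inf_eq_left.1 (eq_of_le_of_card_ge inf_le_left (by rw [h, hN]))

/-- Let S be a finite p-group with an extraspecial subgroup Q of index p. Then either Z(S) = Z(Q), or S = Q·Z(S) and Z(S) has order p². -/
theorem result {S : Type*} [Group S] [Finite S] (p : ℕ) [Fact p.Prime] (hS : IsPGroup p S) (Q : Subgroup S) (hQ : Cfsg.IsExtraspecial p ↥Q) (hQi : Q.index = p) :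
    Subgroup.center S = (Subgroup.center ↥Q).map Q.subtype ∨
      (Q ⊔ Subgroup.center S = ⊤ ∧ Nat.card (Subgroup.center S) = p ^ 2) := by
  have hp : p.Prime := Fact.out
  have hQn : Q.Normal := H3.normal_of_index_eq_prime hS hQi
  have hQc : IsCoatom Q := H3.isCoatom_of_index_prime (hQi ▸ hp)
  have hcard : Nat.card ((center Q).map Q.subtype) = p := by
    rw [card_map_of_injective (subtype_injective Q), Extraspecial.card_center hQ]
  have h1 : (center Q).map Q.subtype ≤ center S := le_center hS _ hcard
  have h2 : center S ⊓ Q = (center Q).map Q.subtype := by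
    apply le_antisymm
    · rw [map_subtype_center]
      exact le_inf inf_le_right (inf_le_left.trans (center_le_centralizer _))
    · exact le_inf h1 (map_subtype_le _)
  by_cases h : center S ≤ Q
  · left
    rw [← h2, inf_eq_left.2 h]
  · right
    have h3 : Q ⊔ center S = ⊤ := hQc.2 _ (lt_of_le_of_ne le_sup_left fun e => h (e ▸ le_sup_right))
    refine ⟨h3, ?_⟩
    have h4 := H3.card_inf_mul_relIndex Q (center S)
    rw [inf_comm, h2, hcard, ← relIndex_sup_left, h3, relIndex_top_right, hQi] at h4
    rw [← h4, pow_two]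

end Cfsg.Agent.S3808
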