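import Cfsg.Statements.S3809
import Cfsg.Agent.H2.Extraspecial
import Cfsg.Agent.H2.Components

set_option autoImplicit false
open Cfsg

namespace Cfsg.Agent.S3809

open Subgroup Cfsg.Agent.H2

/-- Let S be a finite p-group with an extraspecial subgroup of index p. Then S has order p^(2+2n) for some n ≥ 1, derived length at most 3, and exponent dividing p³. -/
theorem result {S : Type*} [Group S] [Finite S] (p : ℕ) [Fact p.Prime] (hS : IsPGroup p S) (Q : Subgroup S) (hQ : Cfsg.IsExtraspecial p ↥Q) (hQi : Q.index = p) :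
    (∃ n : ℕ, 1 ≤ n ∧ Nat.card S = p ^ (2 + 2 * n)) ∧ derivedSeries S 3 = ⊥ ∧ ∀ x : S, x ^ (p ^ 3) = 1 := by
  have hp : p.Prime := Fact.out
  have hQn : Q.Normal := H3.normal_of_index_eq_prime hS hQi
  refine ⟨?_, ?_, fun x => ?_⟩
  · obtain ⟨n, hn, hc⟩ := Extraspecial.exists_card_eq hQ
    refine ⟨n, hn, ?_⟩
    rw [← Q.index_mul_card, hc, hQi]; ring
  · have h1 : derivedSeries S 1 ≤ Q := H3.commutator_le_of_index_prime (hQi ▸ hp)
    have h2 : derivedSeries S 2 ≤ (center Q).map Q.subtype := by
      rw [← Extraspecial.commutator_eq hQ, map_subtype_commutator]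
      exact commutator_mono h1 h1
    rw [eq_bot_iff]
    refine (commutator_mono h2 h2).trans ?_
    rw [le_bot_iff, commutator_eq_bot_iff_le_centralizer, map_subtype_center]
    exact inf_le_right.trans (centralizer_le inf_le_left)
  · have h1 : x ^ p ∈ Q := H3.pow_mem_of_index_eq hQi x
    have := congrArg Subtype.val (Extraspecial.pow_sq_eq_one hQ ⟨_, h1⟩)
    rw [pow_succ', pow_mul]
    exact this

end Cfsg.Agent.S3809
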