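import Cfsg.Statements.S3810
import Cfsg.Agent.H2.Extraspecial
import Cfsg.Agent.H2.Components
import Cfsg.Agent.S3807
import Cfsg.Agent.S3808

set_option autoImplicit false
open Cfsg

namespace Cfsg.Agent.S3810

open Subgroup Cfsg.Agent.H2
open scoped commutatorElement

theorem exists_comm_index_le {S : Type*} [Group S] [Finite S] {p : ℕ} [hp : Fact p.Prime]
    (hS : IsPGroup p S) (hc : Nat.card S = p ^ 4) :
    ∃ B : Subgroup S, IsMulCommutative B ∧ B.index ≤ p := by
  have hp1 := hp.out.one_lt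
  have hlt : ∀ a b : ℕ, a < b → p ^ a < p ^ b := fun a b h => Nat.pow_lt_pow_right hp1 h
  obtain ⟨N₀, hN₀n, -, hN₀⟩ := H3.exists_normal_le_card_eq_pow hS ⊤ (k := 1)
    (by rw [card_top, hc]; exact (hlt 1 4 (by norm_num)).le)
  rw [pow_one] at hN₀
  have hN₀t : N₀ < ⊤ := lt_top_iff_ne_top.2 (by
    rintro rfl
    rw [card_top, hc] at hN₀
    have := hlt 1 4 (by norm_num)
    rw [pow_one] at this
    omega)
  obtain ⟨N, hNn, hN₀N, -, hN, hcomm⟩ := H3.exists_normal_card_eq_mul hS hN₀t
  have hZ := S3808.le_center hS N₀ hN₀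
  have hlt' : N₀ < N := lt_of_le_of_ne hN₀N (by
    rintro rfl
    rw [hN₀] at hN
    nlinarith)
  obtain ⟨n, hnN, hn0⟩ := SetLike.exists_of_lt hlt'
  have hC : (centralizer ({n} : Set S)).index ≤ p := by
    rw [← relIndex_top_right, ← hN₀]
    refine relIndex_centralizer_le_card fun g _ => ?_
    rw [← commutatorElement_inv]
    exact inv_mem (hcomm n hnN g)
  have hB₀ : IsMulCommutative ↥(N₀ ⊔ zpowers n) :=
    H3.isMulCommutative_sup_zpowers ⟨⟨fun a b => Subtype.ext (mem_center_iff.1 (hZ b.2) a)⟩⟩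
      (fun z hz => (mem_center_iff.1 (hZ hz) n).symm)
  have hB₀N : N₀ ⊔ zpowers n ≤ N := sup_le hN₀N (zpowers_le.2 hnN)
  have hB₀c : p * p ≤ Nat.card ↥(N₀ ⊔ zpowers n) := by
    have h1 : N₀ < N₀ ⊔ zpowers n :=
      lt_of_le_of_ne le_sup_left fun e => hn0 (e ▸ mem_sup_right (mem_zpowers n))
    rw [← H3.card_mul_relIndex h1.le, hN₀]
    exact Nat.mul_le_mul_left _ (prime_le_relIndex_of_lt (hS.to_subgroup _) h1)
  obtain ⟨x, hxC, hxN⟩ : ∃ x ∈ centralizer ({n} : Set S), x ∉ N := by
    by_contra! h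
    have h1 := card_le_of_le (h : centralizer ({n} : Set S) ≤ N)
    have h2 := (centralizer ({n} : Set S)).index_mul_card
    have h3 := Nat.mul_le_mul hC h1
    rw [h2, hc, hN, hN₀] at h3
    have := hlt 3 4 (by norm_num)
    have e : p * (p * p) = p ^ 3 := by ring
    omega
  refine ⟨N₀ ⊔ zpowers n ⊔ zpowers x, H3.isMulCommutative_sup_zpowers hB₀ ?_, ?_⟩
  · have : N₀ ⊔ zpowers n ≤ centralizer {x} := by
      refine sup_le (hZ.trans (center_le_centralizer _)) ?_
      rw [zpowers_le, mem_centralizer_singleton_iff]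
      exact (mem_centralizer_singleton_iff.1 hxC).symm
    intro y hy
    exact mem_centralizer_singleton_iff.1 (this hy)
  · have h1 : N₀ ⊔ zpowers n < N₀ ⊔ zpowers n ⊔ zpowers x :=
      lt_of_le_of_ne le_sup_left fun e => hxN (hB₀N (e ▸ mem_sup_right (mem_zpowers x)))
    have h2 := H3.card_mul_relIndex h1.le
    have h3 := Nat.mul_le_mul hB₀c (prime_le_relIndex_of_lt (hS.to_subgroup _) h1)
    rw [h2] at h3
    have h4 := (N₀ ⊔ zpowers n ⊔ zpowers x).index_mul_card
    have h5 := Nat.mul_le_mul_left (N₀ ⊔ zpowers n ⊔ zpowers x).index h3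
    rw [h4, hc] at h5
    have e : p ^ 4 = p * (p * p * p) := by ring
    rw [e] at h5
    exact Nat.le_of_mul_le_mul_right h5 (by positivity)

/-- Let S be a finite p-group with an extraspecial subgroup of index p. Then S has an abelian subgroup of index p if and only if S has order p⁴. -/
theorem result {S : Type*} [Group S] [Finite S] (p : ℕ) [Fact p.Prime] (hS : IsPGroup p S) (Q : Subgroup S) (hQ : Cfsg.IsExtraspecial p ↥Q) (hQi : Q.index = p) :
    (∃ A : Subgroup S, IsMulCommutative ↥A ∧ A.index = p) ↔ Nat.card S = p ^ 4 := by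
  have hp : p.Prime := Fact.out
  have hna := Extraspecial.not_isMulCommutative hQ
  have hnle : ∀ A : Subgroup S, IsMulCommutative A → ¬ Q ≤ A := fun A hA h =>
    hna ⟨⟨fun a b => Subtype.ext (congrArg Subtype.val (hA.is_comm.comm ⟨a, h a.2⟩ ⟨b, h b.2⟩) :)⟩⟩
  constructor
  · rintro ⟨A, hA, hAi⟩
    have hAn : A.Normal := H3.normal_of_index_eq_prime hS hAi
    have h1 : (A.subgroupOf Q).index = p := by
      have : A.relIndex Q ∣ p := hAi ▸ relIndex_dvd_index_of_normal A Q
      rcases (Nat.dvd_prime hp).1 this with h | h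
      · exact absurd (relIndex_eq_one.1 h) (hnle A hA)
      · exact h
    have h2 := S3807.index_center p (Extraspecial.isPGroup hQ) hna (A.subgroupOf Q)
      inferInstance h1
    rw [← Q.index_mul_card, ← (center Q).index_mul_card, h2, Extraspecial.card_commutator hQ,
      Extraspecial.card_center hQ, hQi]
    ring
  · intro hc
    obtain ⟨B, hB, hBi⟩ := exists_comm_index_le hS hc
    refine ⟨B, hB, le_antisymm hBi ?_⟩
    rw [← relIndex_top_right]
    exact prime_le_relIndex_of_lt (hS.to_subgroup _)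
      (lt_top_iff_ne_top.2 fun e => hnle B hB (e ▸ le_top))

end Cfsg.Agent.S3810
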