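import Cfsg.Statements.S3811
import Cfsg.Agent.H6.CharOrth
import Cfsg.Agent.L.MinNormal
import Cfsg.Agent.L.BaerSuzuki

set_option autoImplicit false
open Cfsg

namespace Cfsg.Agent.S3811

open Subgroup

structure Soft {P : Type*} [Group P] (p : ℕ) (E : Subgroup P) : Prop where
  ab : IsMulCommutative E
  cent : centralizer (E : Set P) ≤ E
  idx : E.relIndex (normalizer (E : Set P)) = p

theorem eq_of_prime {P : Type*} [Group P] {p : ℕ} (hp : p.Prime) {A B C : Subgroup P}
    (h : A.relIndex C = p) (hAB : A < B) (hBC : B ≤ C) : B = C := by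
  have h1 := relIndex_mul_relIndex A B C hAB.le hBC
  rw [h] at h1
  rcases (Nat.dvd_prime hp).1 (Dvd.intro _ h1) with h2 | h2
  · exact absurd (relIndex_eq_one.1 h2) hAB.not_ge
  · rw [h2] at h1
    have : B.relIndex C = 1 := Nat.eq_of_mul_eq_mul_left hp.pos (by rw [h1, mul_one])
    exact le_antisymm hBC (relIndex_eq_one.1 this)

theorem class_congr {G H : Type*} [Group G] [Group H] [Group.IsNilpotent G] (e : G ≃* H) :
    Group.nilpotencyClass G = Group.nilpotencyClass H := by
  have : Group.IsNilpotent H := Group.nilpotent_of_surjective e.toMonoidHom e.surjective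
  exact le_antisymm (Group.nilpotencyClass_le_of_surjective e.symm.toMonoidHom e.symm.surjective)
    (Group.nilpotencyClass_le_of_surjective e.toMonoidHom e.surjective)

section
variable {P : Type*} [Group P] [Finite P] {p : ℕ} [hp : Fact p.Prime]

theorem norm_le (hP : IsPGroup p P) {E K : Subgroup P}
    (h : E.relIndex (normalizer (E : Set P)) = p) (hK : E < K) : normalizer (E : Set P) ≤ K := by
  have : Group.IsNilpotent K := (hP.to_subgroup K).isNilpotent
  have := eq_of_prime hp.out h (L.lt_inf_normalizer_of_isNilpotent hK) inf_le_right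
  exact this.ge.trans inf_le_left

theorem Soft.subgroupOf (hP : IsPGroup p P) {E N : Subgroup P} (h : Soft p E) (hN : E < N) :
    Soft p (E.subgroupOf N) := by
  have := h.ab
  refine ⟨inferInstance, fun x hx => ?_, ?_⟩
  · rw [mem_subgroupOf]
    refine h.cent (mem_centralizer_iff.2 fun y hy => ?_)
    exact congrArg Subtype.val (mem_centralizer_iff.1 hx ⟨y, hN.le hy⟩ hy)
  · rw [← subgroupOf_normalizer_eq hN.le, relIndex_subgroupOf (norm_le hP h.idx hN), h.idx]

theorem exists_pow_relIndex (hP : IsPGroup p P) (A B : Subgroup P) :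
    ∃ n, A.relIndex B = p ^ n := (hP.to_subgroup B).index _

theorem base (hP : IsPGroup p P) {E : Subgroup P} (h : Soft p E)
    [hn : (normalizer (E : Set P)).Normal] (hne : normalizer (E : Set P) ≠ ⊤) :
    (normalizer (E : Set P)).index = p := by
  classical
  have hab := h.ab
  obtain ⟨K, hK⟩ : ∃ K, K = normalizer (E : Set P) := ⟨_, rfl⟩
  have hidx := h.idx
  rw [← hK] at hne hn hidx ⊢
  have hEK : E ≤ K := hK ▸ le_normalizer
  obtain ⟨Z, hZ⟩ : ∃ Z, Z = K ⊓ centralizer (K : Set P) := ⟨_, rfl⟩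
  have hZn : Z.Normal := hZ ▸ inferInstance
  have hZE : Z ≤ E := hZ ▸ inf_le_right.trans ((centralizer_le hEK).trans h.cent)
  obtain ⟨g, hg⟩ : ∃ g, g ∉ K := by
    by_contra hc; push Not at hc; exact hne (eq_top_iff.2 fun x _ => hc x)
  obtain ⟨E', hE'⟩ : ∃ E', E' = E.map (MulAut.conj g).toMonoidHom := ⟨_, rfl⟩
  have hE'K : E' ≤ K := by
    rw [hE']; rintro _ ⟨x, hx, rfl⟩; exact hn.conj_mem x (hEK hx) g
  have hnle : ¬ E' ≤ E := by
    intro hle
    apply hg
    rw [hK]
    exact mem_normalizer_fintype fun x hx => hle (hE' ▸ ⟨x, hx, rfl⟩)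
  have hsup : E ⊔ E' = K := eq_of_prime hp.out hidx (left_lt_sup.2 hnle) (sup_le hEK hE'K)
  have hinf : E' ⊓ E ≤ Z := by
    intro x hx
    rw [hZ]
    refine mem_inf.2 ⟨hEK hx.2, ?_⟩
    have : K ≤ centralizer {x} := by
      rw [← hsup]
      refine sup_le (fun y hy => ?_) fun y hy => ?_
      · exact mem_centralizer_singleton_iff.2 (setLike_mul_comm hy hx.2)
      · have : IsMulCommutative E' := hE' ▸ inferInstance
        exact mem_centralizer_singleton_iff.2 (setLike_mul_comm hy hx.1)
    exact mem_centralizer_iff.2 fun y hy => mem_centralizer_singleton_iff.1 (this hy)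
  have hE'i : E'.relIndex K = p := by
    have h1 := E'.relIndex_mul_index hE'K
    have h2 := E.relIndex_mul_index hEK
    have h3 : E'.index = E.index := hE' ▸ index_map_equiv E (MulAut.conj g)
    rw [h3, ← h2, hidx] at h1
    exact Nat.eq_of_mul_eq_mul_right (Nat.pos_of_ne_zero index_ne_zero_of_finite) h1
  have hZne : Z ≠ E := by
    intro e
    apply hne
    rw [hK, ← e]
    exact normalizer_eq_top Z
  have hZi : Z.relIndex E = p := by
    obtain ⟨n, hn⟩ := exists_pow_relIndex hP Z E
    have h1 : Z.relIndex E ≤ p := by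
      calc Z.relIndex E ≤ (E' ⊓ E).relIndex E :=
            relIndex_le_of_le_left hinf (index_ne_zero_of_finite)
        _ = E'.relIndex E := inf_relIndex_right _ _
        _ ≤ E'.relIndex K := relIndex_le_of_le_right hEK (index_ne_zero_of_finite)
        _ = p := hE'i
    have h2 : n ≠ 0 := by
      rintro rfl
      exact hZne (le_antisymm hZE (relIndex_eq_one.1 (by simpa using hn)))
    have h3 : n ≤ 1 := by
      rw [hn] at h1
      exact (Nat.pow_le_pow_iff_right hp.out.one_lt).1 (h1.trans_eq (pow_one p).symm)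
    rw [hn, show n = 1 by omega, pow_one]
  obtain ⟨e, heE, heZ⟩ := SetLike.exists_of_lt (lt_of_le_of_ne hZE hZne)
  have hgen : Z ⊔ zpowers e = E :=
    eq_of_prime hp.out hZi (left_lt_sup.2 (by simpa using heZ)) (sup_le hZE (by simpa using heE))
  have hC : centralizer {(e : P ⧸ Z)} ≤ K.map (QuotientGroup.mk' Z) := by
    intro y hy
    obtain ⟨x, rfl⟩ := QuotientGroup.mk_surjective y
    refine ⟨x, ?_, rfl⟩
    rw [hK]
    refine mem_normalizer_fintype fun n hn => ?_
    have h1 : E ≤ E.comap (MulAut.conj x).toMonoidHom := by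
      conv_lhs => rw [← hgen]
      refine sup_le (fun z hz => hZE (hZn.conj_mem z hz x)) ?_
      rw [zpowers_le]
      have h2 := mem_centralizer_singleton_iff.1 hy
      rw [← QuotientGroup.mk_mul, ← QuotientGroup.mk_mul, QuotientGroup.eq] at h2
      have h3 := hZE (hZn.conj_mem _ h2 (x * e))
      have h4 : x * e * x⁻¹ = (x * e * ((x * e)⁻¹ * (e * x)) * (x * e)⁻¹)⁻¹ * e := by group
      change x * e * x⁻¹ ∈ E
      rw [h4]
      exact mul_mem (inv_mem h3) heE
    exact h1 hn
  have hKn : (K.map (QuotientGroup.mk' Z)).Normal := hn.map _ (QuotientGroup.mk'_surjective Z)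
  have hcard : Nat.card (K.map (QuotientGroup.mk' Z)) = p * p := by
    rw [← L.relIndex_eq_card_map_mk', ← relIndex_mul_relIndex Z E K hZE hEK, hZi, hidx]
  have hlt : (centralizer {(e : P ⧸ Z)}).index < p * p := by
    rw [H6.index_centralizer_eq_ncard, ← hcard]
    change _ < ((K.map (QuotientGroup.mk' Z) : Subgroup _) : Set (P ⧸ Z)).ncard
    refine Set.ncard_lt_ncard ⟨?_, fun hs => ?_⟩
    · rintro y hy
      obtain ⟨c, rfl⟩ := isConj_iff.1 hy
      exact hKn.conj_mem _ ⟨e, hEK heE, rfl⟩ c
    · have := hs (one_mem _)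
      exact heZ ((QuotientGroup.eq_one_iff e).1 (isConj_one_left.1 this))
  have hle := Nat.le_of_dvd (Nat.pos_of_ne_zero index_ne_zero_of_finite) (index_dvd_of_le hC)
  rw [index_map_eq _ (QuotientGroup.mk'_surjective Z)
    (by rw [QuotientGroup.ker_mk']; exact hZE.trans hEK)] at hle
  obtain ⟨n, hn⟩ := hP.index K
  have h2 : n ≠ 0 := by
    rintro rfl
    exact hne (index_eq_one.1 (by simpa using hn))
  have h3 : n < 2 := by
    rw [hn] at hle
    exact (Nat.pow_lt_pow_iff_right hp.out.one_lt).1 (by rw [sq]; omega)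
  rw [hn, show n = 1 by omega, pow_one]

theorem base' (hP : IsPGroup p P) {E : Subgroup P} (h : Soft p E)
    (hne : normalizer (E : Set P) ≠ ⊤) :
    (normalizer (E : Set P)).relIndex (normalizer (normalizer (E : Set P) : Set P)) = p := by
  obtain ⟨N, hN⟩ : ∃ N, N = normalizer (normalizer (E : Set P) : Set P) := ⟨_, rfl⟩
  have : Group.IsNilpotent P := hP.isNilpotent
  have hlt : normalizer (E : Set P) < N :=
    hN ▸ Group.normalizerCondition_of_isNilpotent _ (lt_top_iff_ne_top.2 hne)
  have hEN : E < N := lt_of_le_of_lt le_normalizer hlt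
  have h1 := h.subgroupOf hP hEN
  have e := subgroupOf_normalizer_eq hEN.le
  have : (normalizer (E.subgroupOf N : Set N)).Normal := by
    rw [← e, hN]; exact normal_in_normalizer
  have := base (hP.to_subgroup N) h1 (by rw [← e, Ne, subgroupOf_eq_top]; exact hlt.not_ge)
  rwa [← e, hN] at this

end

universe u

theorem main (p : ℕ) [hp : Fact p.Prime] (i : ℕ) : ∀ (P : Type u) [Group P] [Finite P],
    IsPGroup p P → ∀ E K : Subgroup P, Soft p E → E ≤ K → K.Normal → K ≠ ⊤ →
      E.relIndex K = p ^ i → K.index = p ∧ Group.nilpotencyClass K = i + 1 := by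
  induction i using Nat.strong_induction_on with
  | _ i ih =>
  intro P _ _ hP E K h hEK hn hne hi
  have hab := h.ab
  have hnil : Group.IsNilpotent K := (hP.to_subgroup K).isNilpotent
  have hE1 : E ≠ ⊥ := by
    rintro rfl
    apply hne
    refine eq_top_iff.2 fun x _ => hEK (h.cent (mem_centralizer_iff.2 fun y hy => ?_))
    rw [mem_bot.1 hy, one_mul, mul_one]
  have hKnt : Nontrivial K := (nontrivial_iff_ne_bot K).2 fun e => hE1 (eq_bot_iff.2 (hEK.trans e.le))
  rcases Nat.eq_zero_or_pos i with rfl | hpos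
  · have : K = E := le_antisymm (relIndex_eq_one.1 (by simpa using hi)) hEK
    subst this
    refine ⟨?_, ?_⟩
    · have := h.idx
      rwa [normalizer_eq_top, relIndex_top_right] at this
    · have h1 := Group.IsNilpotent.nilpotencyClass_le_one_iff.2 hab
      have h2 : Group.nilpotencyClass K ≠ 0 := fun e =>
        not_subsingleton K (Group.nilpotencyClass_zero_iff_subsingleton.1 e)
      omega
  have hlt : E < K := lt_of_le_of_ne hEK (by
    rintro rfl
    rw [relIndex_self] at hi
    exact (Nat.one_lt_pow hpos.ne' hp.out.one_lt).ne hi)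
  obtain ⟨E₁, hE₁⟩ : ∃ E₁, E₁ = normalizer (E : Set P) := ⟨_, rfl⟩
  have hE₁K : E₁ ≤ K := hE₁ ▸ norm_le hP h.idx hlt
  have hEE₁ : E ≤ E₁ := hE₁ ▸ le_normalizer
  have hidx : E.relIndex E₁ = p := hE₁ ▸ h.idx
  obtain ⟨Z, hZ⟩ : ∃ Z, Z = K ⊓ centralizer (K : Set P) := ⟨_, rfl⟩
  have hZn : Z.Normal := hZ ▸ inferInstance
  have hZE : Z ≤ E := hZ ▸ inf_le_right.trans ((centralizer_le hEK).trans h.cent)
  -- the normal closure of `E` is `K`
  have hcl : ∀ L : Subgroup P, E ≤ L → L.Normal → L ≤ K → L = K := by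
    intro L hEL hLn hLK
    by_contra hc
    obtain ⟨j, hj⟩ := exists_pow_relIndex hP E L
    have hji : j < i := by
      have h1 := relIndex_mul_relIndex E L K hEL hLK
      obtain ⟨k, hk⟩ := exists_pow_relIndex hP L K
      rw [hj, hk, hi, ← pow_add] at h1
      have h2 := Nat.pow_right_injective hp.out.two_le h1
      have h3 : k ≠ 0 := by
        rintro rfl
        exact hc (le_antisymm hLK (relIndex_eq_one.1 (by simpa using hk)))
      omega
    have := (ih j hji P hP E L h hEL hLn (fun e => hne (eq_top_iff.2 (e.ge.trans hLK))) hj).1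
    rw [← relIndex_top_right] at this
    exact hne (eq_of_prime hp.out this (lt_of_le_of_ne hLK hc) le_top)
  obtain ⟨f, hf⟩ : ∃ f, f = QuotientGroup.mk' Z := ⟨_, rfl⟩
  have hfs : Function.Surjective f := hf ▸ QuotientGroup.mk'_surjective Z
  have hfk : f.ker = Z := hf ▸ QuotientGroup.ker_mk' Z
  have hKf : (K.map f).Normal := hn.map _ hfs
  have hcomm : ∀ x y : P, f x * f y = f y * f x → x * y * x⁻¹ * y⁻¹ ∈ Z := by
    intro x y e
    rw [← hfk, MonoidHom.mem_ker]
    simp only [map_mul, map_inv, e]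
    group
  have hnormE : ∀ x : P, (∀ y ∈ E, f x * f y = f y * f x) → x ∈ E₁ := by
    intro x hx
    rw [hE₁]
    refine mem_normalizer_fintype fun y hy => ?_
    have := mul_mem (hZE (hcomm x y (hx y hy))) hy
    simpa using this
  -- an element of the second center outside `E`
  obtain ⟨z, hzK, hzE, hz⟩ : ∃ z ∈ K, z ∉ E ∧ f z ∈ centralizer (K.map f : Set (P ⧸ Z)) := by
    by_contra hc
    push Not at hc
    obtain ⟨Y, hY⟩ : ∃ Y, Y = (K.map f ⊓ centralizer (K.map f : Set (P ⧸ Z))).comap f := ⟨_, rfl⟩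
    have hYn : Y.Normal := hY ▸ Normal.comap inferInstance f
    have hYK : Y ≤ K := by
      rw [hY]
      refine (comap_mono inf_le_left).trans ?_
      rw [comap_map_eq, hfk]
      exact sup_le le_rfl (hZE.trans hEK)
    have hYE : Y ≤ E := fun y hy => by
      by_contra hyE
      exact hc y (hYK hy) hyE (hY ▸ hy).2
    have h1 := hcl (K ⊓ centralizer (Y : Set P))
      (le_inf hEK ((le_centralizer E).trans (centralizer_le hYE))) inferInstance inf_le_left
    have h2 : Y ≤ Z := hZ ▸ le_inf hYK (le_centralizer_iff.1 (h1.ge.trans inf_le_right))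
    have hKb : K.map f ≠ ⊥ := by
      rw [Ne, Subgroup.map_eq_bot_iff, hfk]
      exact fun e => hlt.not_ge (e.trans hZE)
    have : Group.IsNilpotent (K.map f) := ((hP.to_subgroup K).map f).isNilpotent
    apply L.inf_centralizer_ne_bot_of_isNilpotent (le_refl (K.map f)) le_normalizer hKb
    rw [eq_bot_iff]
    intro y hy
    obtain ⟨x, rfl⟩ := hfs y
    have : x ∈ Z := h2 (hY ▸ hy)
    rwa [← hfk] at this
  have hzE₁ : z ∈ E₁ := hnormE z fun y hy =>
    (mem_centralizer_iff.1 hz (f y) ⟨y, hEK hy, rfl⟩).symm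
  have hgen : E ⊔ zpowers z = E₁ :=
    eq_of_prime hp.out hidx (left_lt_sup.2 (by simpa using hzE)) (sup_le hEE₁ (by simpa using hzE₁))
  have hE₁ne : E₁ ≠ ⊤ := fun e => hne (eq_top_iff.2 (e.ge.trans hE₁K))
  have hsoft : Soft p (E₁.map f) := by
    refine ⟨?_, fun y hy => ?_, ?_⟩
    · rw [← le_centralizer_iff_isMulCommutative]
      have h1 : E.map f ≤ centralizer (E₁.map f : Set (P ⧸ Z)) := by
        rw [le_centralizer_iff, ← hgen, Subgroup.map_sup, MonoidHom.map_zpowers]
        refine sup_le (le_centralizer _) ?_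
        rw [zpowers_le]
        exact centralizer_le (map_mono hEK) hz
      conv_lhs => rw [← hgen, Subgroup.map_sup, MonoidHom.map_zpowers]
      refine sup_le h1 ?_
      rw [zpowers_le]
      exact centralizer_le (map_mono hE₁K) hz
    · obtain ⟨x, rfl⟩ := hfs y
      exact ⟨x, hnormE x fun w hw =>
        (mem_centralizer_iff.1 hy (f w) ⟨w, hEE₁ hw, rfl⟩).symm, rfl⟩
    · have e1 : (E₁.map f).comap f = E₁ := by
        rw [comap_map_eq, hfk]; exact sup_of_le_left (hZE.trans hEE₁)
      have e2 := comap_normalizer_eq_of_surjective (E₁.map f) hfs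
      rw [e1] at e2
      have := base' hP h (hE₁ ▸ hE₁ne)
      rw [← hE₁, ← e2] at this
      conv_lhs at this => enter [1]; rw [← e1]
      rwa [relIndex_comap, map_comap_eq_self_of_surjective hfs] at this
  obtain ⟨i, rfl⟩ : ∃ j, i = j + 1 := ⟨i - 1, by omega⟩
  have hidx2 : (E₁.map f).relIndex (K.map f) = p ^ i := by
    rw [relIndex_map_map, hfk, sup_of_le_left (hZE.trans hEE₁), sup_of_le_left (hZE.trans hEK)]
    have := relIndex_mul_relIndex E E₁ K hEE₁ hE₁K
    rw [hidx, hi, pow_succ'] at this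
    exact Nat.eq_of_mul_eq_mul_left hp.out.pos this
  have hix : (K.map f).index = K.index := index_map_eq _ hfs (hfk.le.trans (hZE.trans hEK))
  obtain ⟨r1, r2⟩ := ih i (by omega) (P ⧸ Z) (hP.to_quotient Z) _ _ hsoft (map_mono hE₁K) hKf
    (fun e => hne (by rw [← index_eq_one, ← hix, e, index_top])) hidx2
  refine ⟨hix ▸ r1, ?_⟩
  rw [Group.nilpotencyClass_eq_quotient_center_plus_one, ← r2]
  congr 1
  have hker : center K = (f.comp K.subtype).ker := by
    ext x
    rw [MonoidHom.mem_ker, MonoidHom.comp_apply, ← MonoidHom.mem_ker, hfk, hZ, mem_center_iff]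
    refine ⟨fun hx => mem_inf.2 ⟨x.2, mem_centralizer_iff.2 fun y hy =>
      congrArg Subtype.val (hx ⟨y, hy⟩)⟩, fun hx y => Subtype.ext ?_⟩
    exact mem_centralizer_iff.1 (mem_inf.1 hx).2 y y.2
  refine class_congr ((QuotientGroup.quotientMulEquivOfEq hker).trans
    ((QuotientGroup.quotientKerEquivRange _).trans (MulEquiv.subgroupCongr ?_)))
  rw [MonoidHom.range_comp, range_subtype]

theorem main' {P : Type u} [Group P] [Finite P] {p : ℕ} [hp : Fact p.Prime] (hP : IsPGroup p P)
    {E K : Subgroup P} (h : Soft p E) (hEK : E ≤ K) (hne : K ≠ ⊤) {i : ℕ}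
    (hi : E.relIndex K = p ^ i) :
    K.relIndex (normalizer (K : Set P)) = p ∧ Group.nilpotencyClass K = i + 1 := by
  have : Group.IsNilpotent P := hP.isNilpotent
  have hlt : K < normalizer (K : Set P) :=
    Group.normalizerCondition_of_isNilpotent _ (lt_top_iff_ne_top.2 hne)
  obtain ⟨r1, r2⟩ := main p i _ (hP.to_subgroup _) _ (K.subgroupOf (normalizer (K : Set P)))
    (h.subgroupOf hP (lt_of_le_of_lt hEK hlt)) (comap_mono hEK) normal_in_normalizer
    (by rw [Ne, subgroupOf_eq_top]; exact hlt.not_ge) (by rw [relIndex_subgroupOf hlt.le, hi])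
  exact ⟨r1, (class_congr (subgroupOfEquivOfLe hlt.le)).symm.trans r2⟩


/-- Let P be a finite p-group and E an abelian subgroup of P that contains its centralizer, has index p in its normalizer, and has index at least p² in P. Then the subgroups of P containing E are totally ordered by inclusion, each proper one has index p in its normalizer (so they form the normalizer tower of E, with all steps of index p), and the i-th member of the tower above E has nilpotency class i + 1 whenever it is a proper subgroup of P. -/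
theorem result {P : Type*} [Group P] [Finite P] (p : ℕ) [Fact p.Prime] (hP : IsPGroup p P)
    (E : Subgroup P) (hEab : IsMulCommutative ↥E) (hC : Subgroup.centralizer (E : Set P) ≤ E)
    (hN : (E.subgroupOf (Subgroup.normalizer (E : Set P))).index = p) (hidx : p ^ 2 ≤ E.index) :
    (∀ K L : Subgroup P, E ≤ K → E ≤ L → K ≤ L ∨ L ≤ K) ∧
      (∀ K : Subgroup P, E ≤ K → K ≠ ⊤ → (K.subgroupOf (Subgroup.normalizer (K : Set P))).index = p) ∧
      ∀ (i : ℕ) (K : Subgroup P) [Group.IsNilpotent ↥K], E ≤ K → K ≠ ⊤ → K.index * p ^ i = E.index →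
        Group.nilpotencyClass ↥K = i + 1 := by
  have h : Soft p E := ⟨hEab, hC, hN⟩
  have hb : ∀ K : Subgroup P, E ≤ K → K ≠ ⊤ → K.relIndex (normalizer (K : Set P)) = p := by
    intro K hEK hne
    obtain ⟨i, hi⟩ := exists_pow_relIndex hP E K
    exact (main' hP h hEK hne hi).1
  refine ⟨fun K L hK hL => ?_, hb, fun i K _ hEK hne hi => ?_⟩
  · by_contra hc
    rw [not_or] at hc
    have h1 : K ⊓ L < K := inf_lt_left.2 hc.1
    have h2 : K ⊓ L < L := inf_lt_right.2 hc.2
    have h3 := hb _ (le_inf hK hL) h1.ne_top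
    have h4 := le_inf (norm_le hP h3 h1) (norm_le hP h3 h2)
    rw [relIndex_eq_one.2 h4] at h3
    exact (Fact.out : p.Prime).one_lt.ne h3
  · refine (main' hP h hEK hne ?_).2
    rw [← E.relIndex_mul_index hEK, mul_comm] at hi
    exact (Nat.eq_of_mul_eq_mul_right (Nat.pos_of_ne_zero index_ne_zero_of_finite) hi).symm

end Cfsg.Agent.S3811
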