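import Cfsg.Statements.S3824
import Cfsg.Agent.H6.Burnside
import Cfsg.Agent.L.MinNormal
import Cfsg.Agent.L.Fitting
import Cfsg.Agent.H1.Basic
import Cfsg.Agent.H9.ClassSize

set_option autoImplicit false
open Cfsg

namespace Cfsg.Agent.S3824

open Subgroup

theorem aux.{u} (G : Type u) [Group G] [Finite G] :
    ∀ A : Subgroup G, IsMulCommutative A → (∃ k : ℕ, A.index = 2 ^ k) → Group.IsSolvable G := by
  refine L.induction_on_card (P := fun G _ _ => ∀ A : Subgroup G, IsMulCommutative A →
    (∃ k : ℕ, A.index = 2 ^ k) → Group.IsSolvable G) G ?_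
  intro G _ _ ih A hA ⟨k, hk⟩
  have hdvd : ∀ n : ℕ, n ∣ A.index → ∃ j, n = 2 ^ j := fun n hn => by
    rw [hk] at hn
    obtain ⟨j, -, hj⟩ := (Nat.dvd_prime_pow Nat.prime_two).1 hn
    exact ⟨j, hj⟩
  by_cases hN : ∃ N : Subgroup G, N.Normal ∧ N ≠ ⊥ ∧ N ≠ ⊤
  · obtain ⟨N, hNn, hN0, hN1⟩ := hN
    have h1 : Group.IsSolvable N := ih N (L.card_lt_of_ne_top hN1) (A.subgroupOf N) inferInstance
      (hdvd _ (H9.relIndex_dvd_index_of_normal_right A N))
    have h2 : Group.IsSolvable (G ⧸ N) := ih (G ⧸ N) (L.card_quotient_lt N hN0)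
      (A.map (QuotientGroup.mk' N)) inferInstance
      (hdvd _ (index_map_dvd A (QuotientGroup.mk'_surjective N)))
    exact solvable_of_ker_le_range N.subtype (QuotientGroup.mk' N)
      (by rw [QuotientGroup.ker_mk', range_subtype])
  by_cases hc : IsMulCommutative G
  · exact H1.isSolvable_of_isMulCommutative hc
  have hnt : Nontrivial G := by
    by_contra h
    rw [not_nontrivial_iff_subsingleton] at h
    exact hc ⟨⟨fun a b => Subsingleton.elim _ _⟩⟩
  have hs : IsSimpleGroup G := ⟨fun N hNn => by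
    by_contra h
    exact hN ⟨N, hNn, fun e => h (Or.inl e), fun e => h (Or.inr e)⟩⟩
  have hA0 : A = ⊥ := by
    rw [eq_bot_iff]
    intro x hx
    have : A ≤ centralizer ({x} : Set G) := fun a ha => mem_centralizer_singleton_iff.2
      (congrArg Subtype.val (hA.is_comm.comm ⟨a, ha⟩ ⟨x, hx⟩))
    obtain ⟨j, hj⟩ := hdvd _ (index_dvd_of_le this)
    exact H6.eq_one_of_isSimpleGroup_of_index_centralizer hc Nat.prime_two hj
  rw [hA0, index_bot] at hk
  exact H1.isSolvable_of_isPGroup (p := 2) (IsPGroup.of_card hk)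

/-- Every finite group having an abelian subgroup whose index is a power of 2 is solvable. -/
theorem result {G : Type*} [Group G] [Finite G]
    (A : Subgroup G) (hA : IsMulCommutative A) (hidx : ∃ k : ℕ, A.index = 2 ^ k) : Group.IsSolvable G := by
  exact aux G A hA hidx

end Cfsg.Agent.S3824
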