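import Cfsg.Statements.S3869
import Cfsg.Agent.H2.IrrCyclic
import Cfsg.Agent.H3.PBasic
import Cfsg.Agent.L.MinNormal
import Cfsg.Agent.H1.Basic

set_option autoImplicit false
open Cfsg

namespace Cfsg.Agent.S3869

open Subgroup Cfsg.Agent.H2

theorem isPClosed_of_isPGroup {G : Type*} [Group G] {p : ℕ} (h : IsPGroup p G) :
    Cfsg.IsPClosed p G := fun P => by
  have : (P : Subgroup G) = ⊤ := (P.is_maximal' (h.to_subgroup ⊤) le_top).symm
  rw [this]; infer_instance

theorem isPClosed_of_not_dvd {G : Type*} [Group G] [Finite G] {p : ℕ} [Fact p.Prime]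
    (h : ¬ p ∣ Nat.card G) : Cfsg.IsPClosed p G := fun P => by
  have : (P : Subgroup G) = ⊥ := by
    obtain ⟨k, hk⟩ := IsPGroup.iff_card.1 P.isPGroup'
    rcases k with _ | k
    · exact card_eq_one.1 hk
    · exact absurd ((dvd_pow_self p k.succ_ne_zero).trans (hk ▸ card_subgroup_dvd_card _)) h
  rw [this]; infer_instance

/-- Let p and q be distinct primes and G a finite non-abelian group with a normal elementary abelian q-subgroup A that is a minimal normal subgroup of G and has index p. Then A has order q^e with e the multiplicative order of q modulo p, and G is minimal non-p-closed: its Sylow p-subgroups are not normal, while in every proper subgroup and in every proper quotient of G the Sylow p-subgroups are normal. -/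
theorem result {G : Type*} [Group G] [Finite G] {p q : ℕ} [Fact p.Prime] (hq : q.Prime) (hpq : q ≠ p)
    (hna : ¬ IsMulCommutative G) (A : Subgroup G) [A.Normal] (hA : Cfsg.IsElementaryAbelian q A) (hidx : A.index = p)
    (hmin : ∀ B : Subgroup G, B.Normal → B ≤ A → B = ⊥ ∨ B = A) :
    Nat.card ↥A = q ^ orderOf (q : ZMod p) ∧ ¬ Cfsg.IsPClosed p G ∧ (∀ H : Subgroup G, H ≠ ⊤ → Cfsg.IsPClosed p ↥H) ∧
      ∀ (N : Subgroup G) [N.Normal], N ≠ ⊥ → Cfsg.IsPClosed p (G ⧸ N) := by
  have hp : p.Prime := Fact.out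
  have := Fact.mk hq
  have hAc : IsCoatom A := H3.isCoatom_of_index_prime (hidx ▸ hp)
  have hcomm : ∀ a ∈ A, ∀ b ∈ A, a * b = b * a := fun a ha b hb =>
    congrArg Subtype.val (hA.1.is_comm.comm ⟨a, ha⟩ ⟨b, hb⟩)
  have hsup : ∀ x, x ∉ A → A ⊔ zpowers x = ⊤ := fun x hx =>
    hAc.2 _ (lt_of_le_of_ne le_sup_left fun e => hx (e ▸ mem_sup_right (mem_zpowers x)))
  have hC : ∀ x, x ∈ centralizer (A : Set G) → x ∈ A := by
    intro x hx
    by_contra h
    have h2 := H3.isMulCommutative_sup_zpowers hA.1 hx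
    rw [hsup x h] at h2
    exact hna ⟨⟨fun a b => congrArg Subtype.val (h2.is_comm.comm ⟨a, trivial⟩ ⟨b, trivial⟩)⟩⟩
  obtain ⟨d, hd⟩ := IsPGroup.iff_card.1 (L.IsElementaryAbelian.isPGroup hA)
  have hnd : ¬ p ∣ Nat.card A := by
    rw [hd]
    exact fun h => hpq ((Nat.prime_dvd_prime_iff_eq hp hq).1 (hp.dvd_of_dvd_pow h)).symm
  obtain ⟨g, hg⟩ := exists_prime_orderOf_dvd_card' (G := G) p (hidx ▸ A.index_dvd_card)
  have hgA : g ∉ A := fun h => hnd (hg ▸ A.orderOf_dvd_natCard h)
  have hnormal : ∀ U H : Subgroup G, U ≤ A → A ⊔ H = ⊤ → H ≤ normalizer (U : Set G) →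
      U.Normal := by
    intro U H hU hH h
    rw [← normalizer_eq_top_iff, eq_top_iff, ← hH]
    exact sup_le (H1.le_normalizer_of_le_centralizer fun a ha y hy => hcomm y (hU hy) a ha) h
  refine ⟨?_, ?_, ?_, ?_⟩
  · refine card_eq_of_irreducible hp hq hpq hA (by rw [normalizer_eq_top]; trivial)
      (by rw [← hg, pow_orderOf_eq_one]; exact one_mem _) (fun h => hgA (hC g h)) ?_
    intro U hU h
    refine hmin U (hnormal U _ hU (hsup g hgA) (zpowers_le.2 ?_)) hU
    exact mem_normalizer_fintype h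
  · intro h
    obtain ⟨P, hP⟩ := (IsPGroup.of_card (by rw [Nat.card_zpowers, hg, pow_one]) :
      IsPGroup p (zpowers g)).exists_le_sylow
    have := h P
    have hd' : Disjoint A (P : Subgroup G) :=
      IsPGroup.disjoint_of_ne q p hpq _ _ (L.IsElementaryAbelian.isPGroup hA) P.isPGroup'
    exact hgA (hC g fun a ha => commute_of_normal_of_disjoint A P inferInstance this hd' a g ha
      (hP (mem_zpowers g)))
  · intro H hH
    by_cases hHA : H ≤ A
    · exact isPClosed_of_not_dvd fun h => hnd (h.trans (card_dvd_of_le hHA))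
    have h1 : A ⊔ H = ⊤ := hAc.2 _ (lt_of_le_of_ne le_sup_left fun e => hHA (e ▸ le_sup_right))
    rcases hmin (A ⊓ H) (hnormal _ H inf_le_left h1 (H1.le_normalizer_inf
      (by rw [normalizer_eq_top]; exact le_top) le_normalizer)) inf_le_left with h | h
    · refine isPClosed_of_isPGroup (IsPGroup.of_card (n := 1) ?_)
      have := H3.card_inf_mul_relIndex A H
      rw [h, card_bot, one_mul, ← relIndex_sup_left, h1, relIndex_top_right, hidx] at this
      rw [← this, pow_one]
    · exact absurd (by rw [← h1, sup_eq_right.2 (inf_eq_left.1 h)]) hH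
  · intro N _ hN
    rcases hmin (A ⊓ N) inferInstance inf_le_left with h | h
    · exfalso
      apply hN
      rw [eq_bot_iff, ← h]
      refine le_inf (fun n hn => hC n fun a ha => ?_) le_rfl
      exact commute_of_normal_of_disjoint A N inferInstance inferInstance (disjoint_iff.2 h) a n ha hn
    · have h1 : N.index ∣ p ^ 1 := by rw [pow_one, ← hidx]; exact index_dvd_of_le (inf_eq_left.1 h)
      obtain ⟨j, -, hj⟩ := (Nat.dvd_prime_pow hp).1 h1
      exact isPClosed_of_isPGroup (IsPGroup.of_card hj)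

end Cfsg.Agent.S3869
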