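import Cfsg.Statements.S3868
import Cfsg.Agent.S3869
import Cfsg.Agent.H1.Coprime
import Cfsg.Agent.H2.Primitive

set_option autoImplicit false
open Cfsg

namespace Cfsg.Agent.S3868

open Subgroup Cfsg.Agent.H2

theorem le_normalizer_of_isPClosed {G : Type*} [Group G] [Finite G] {p : ℕ} [Fact p.Prime]
    {H P : Subgroup G} (hH : Cfsg.IsPClosed p H) (hPH : P ≤ H) (hP : IsPGroup p P)
    (hi : ¬ p ∣ P.relIndex H) : H ≤ normalizer (P : Set G) := by
  have := hH ((hP.comap_subtype (K := H)).toSylow hi)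
  exact (normal_subgroupOf_iff_le_normalizer hPH).1 this

theorem le_centralizer_of_isPClosed {G : Type*} [Group G] [Finite G] {p : ℕ} [hp : Fact p.Prime]
    {Q P : Subgroup G} (hH : Cfsg.IsPClosed p ↥(P ⊔ Q)) (hP : IsPGroup p P)
    (hQ : ¬ p ∣ Nat.card Q) (hPQ : P ≤ normalizer (Q : Set G)) : Q ≤ centralizer (P : Set G) := by
  obtain ⟨k, hk⟩ := IsPGroup.iff_card.1 hP
  have hcop : (Nat.card P).Coprime (Nat.card Q) := by
    rw [hk]; exact (hp.out.coprime_iff_not_dvd.2 hQ).pow_left k
  have h1 := le_normalizer_of_isPClosed hH le_sup_left hP (by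
    have e1 := H1.card_mul_relIndex (le_sup_left : P ≤ P ⊔ Q)
    rw [H1.card_sup_of_coprime hPQ hcop] at e1
    rwa [Nat.eq_of_mul_eq_mul_left Nat.card_pos e1])
  rw [← commutator_eq_bot_iff_le_centralizer, eq_bot_iff, ← H1.inf_eq_bot_of_coprime' hcop]
  exact le_inf (le_normalizer_iff_commutator_le_right.1 (le_sup_right.trans h1))
    (le_normalizer_iff_commutator_le_left.1 hPQ)

/-- Structure of the non-simple minimal non-p-closed groups. Call a finite group p-closed when its Sylow p-subgroups are normal, and minimal non-p-closed when it is not p-closed but every proper subgroup and every proper quotient is. If such a group G is not simple, then there is a prime q ≠ p such that G has order p · q^e, where e is the multiplicative order of q modulo p, and G has a normal subgroup A of order q^e that is elementary abelian and is a minimal normal subgroup of G (so G is the semidirect product of A by a group of order p acting irreducibly). -/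
theorem result {G : Type*} [Group G] [Finite G] {p : ℕ} [Fact p.Prime]
    (hnc : ¬ Cfsg.IsPClosed p G) (hsub : ∀ H : Subgroup G, H ≠ ⊤ → Cfsg.IsPClosed p ↥H)
    (hquo : ∀ (N : Subgroup G) [N.Normal], N ≠ ⊥ → Cfsg.IsPClosed p (G ⧸ N)) (hns : ¬ IsSimpleGroup G) :
    ∃ q : ℕ, q.Prime ∧ q ≠ p ∧ Nat.card G = p * q ^ orderOf (q : ZMod p) ∧
      ∃ A : Subgroup G, A.Normal ∧ Nat.card ↥A = q ^ orderOf (q : ZMod p) ∧ Cfsg.IsElementaryAbelian q A ∧
        ∀ B : Subgroup G, B.Normal → B ≤ A → B = ⊥ ∨ B = A := by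
  have hp : p.Prime := Fact.out
  obtain ⟨P, hP⟩ : ∃ P : Sylow p G, ¬ (P : Subgroup G).Normal := by
    by_contra! h
    exact hnc h
  have hnt : Nontrivial G := by
    by_contra h
    rw [not_nontrivial_iff_subsingleton] at h
    exact hP ⟨fun a ha g => by rw [Subsingleton.elim (g * a * g⁻¹) a]; exact ha⟩
  have hsupn : ∀ (N : Subgroup G) [N.Normal], N ≠ ⊥ → ((P : Subgroup G) ⊔ N).Normal := by
    intro N _ hN
    have h1 := hquo N hN (P.mapSurjective (QuotientGroup.mk'_surjective N))
    have h2 := h1.comap (QuotientGroup.mk' N)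
    rwa [Sylow.coe_mapSurjective, comap_map_eq, QuotientGroup.ker_mk'] at h2
  have hO : ∀ K : Subgroup G, K.Normal → IsPGroup p K → K = ⊥ := by
    intro K hK hKp
    by_contra h
    have := hsupn K h
    rw [sup_eq_left.2 ((L.le_pCore hK hKp).trans (L.pCore_le_sylow P))] at this
    exact hP this
  have hchar : ∀ K : Subgroup G, K.Normal → K ≠ ⊤ → ¬ p ∣ Nat.card K := by
    intro K hK hKt hdvd
    obtain ⟨S⟩ : Nonempty (Sylow p K) := inferInstance
    have h1 := hsub K hKt S
    have h2 := S.characteristic_of_normal h1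
    have h3 := hO ((S : Subgroup K).map K.subtype) inferInstance (S.isPGroup'.map _)
    rw [map_eq_bot_iff_of_injective _ (subtype_injective K)] at h3
    exact S.ne_bot_of_dvd_card hdvd h3
  obtain ⟨N₀, hN₀n, hN₀0, hN₀t⟩ : ∃ N : Subgroup G, N.Normal ∧ N ≠ ⊥ ∧ N ≠ ⊤ := by
    by_contra! h
    exact hns ⟨fun N hN => by
      by_cases h0 : N = ⊥
      · exact Or.inl h0
      · exact Or.inr (h N hN h0)⟩
  obtain ⟨N, hN, hNN₀⟩ := L.exists_isMinNormal_le N₀ hN₀0
  have hNn := hN.1
  have hNp : ¬ p ∣ Nat.card N := fun h => hchar N₀ hN₀n hN₀t (h.trans (card_dvd_of_le hNN₀))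
  have hP0 : (P : Subgroup G) ≠ ⊥ := fun h => hP (h ▸ inferInstance)
  have hPN : (P : Subgroup G) ⊔ N = ⊤ := by
    by_contra h
    refine hchar _ (hsupn N hN.2.1) h (Dvd.dvd.trans ?_ (card_dvd_of_le le_sup_left))
    obtain ⟨k, hk⟩ := IsPGroup.iff_card.1 P.isPGroup'
    rcases k with _ | k
    · exact absurd (card_eq_one.1 hk) hP0
    · rw [hk]; exact dvd_pow_self p k.succ_ne_zero
  have hnN : ∀ K : Subgroup G, K ≤ normalizer (N : Set G) := fun K => by
    rw [normalizer_eq_top]; exact le_top
  obtain ⟨n, hn⟩ := IsPGroup.iff_card.1 P.isPGroup'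
  have hcop : (Nat.card P).Coprime (Nat.card N) := by
    rw [hn]; exact (hp.coprime_iff_not_dvd.2 hNp).pow_left n
  have hNC : ¬ N ≤ centralizer ((P : Subgroup G) : Set G) := by
    intro h
    apply hP
    rw [← normalizer_eq_top_iff, eq_top_iff, ← hPN]
    exact sup_le le_normalizer (H1.le_normalizer_of_le_centralizer h)
  obtain ⟨q, hq, hqN⟩ : ∃ q : ℕ, q.Prime ∧ IsPGroup q N := by
    by_contra! hh
    apply hNC
    rw [← relIndex_eq_one]
    by_contra hne
    obtain ⟨q, hq, hqd⟩ := Nat.exists_prime_and_dvd hne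
    have := Fact.mk hq
    obtain ⟨R, hRN, hR, hRi, hPR⟩ := H1.exists_invariant_sylow (hnN P) hcop
      (Or.inl (H1.isSolvable_of_isPGroup P.isPGroup')) q
    have h1 : (P : Subgroup G) ⊔ R ≠ ⊤ := by
      intro h
      have h2 : N = R := by
        have := H1.dedekind_right hPR hRN
        rw [h, inf_top_eq, inf_comm, H1.inf_eq_bot_of_coprime' hcop, bot_sup_eq] at this
        exact this
      exact hh q hq (h2 ▸ hR)
    have h3 := le_centralizer_of_isPClosed (hsub _ h1) P.isPGroup'
      (fun h => hNp (h.trans (card_dvd_of_le hRN))) hPR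
    exact hRi (hqd.trans (relIndex_dvd_of_le_left N h3))
  have hqp : q ≠ p := by
    rintro rfl
    exact hN.2.1 (hO N hNn hqN)
  have hel := hN.isElementaryAbelian_of_isPGroup hq hqN
  have hsmall : ∀ Q : Subgroup G, Q < P → Q = ⊥ := by
    intro Q hQ
    have hQp : IsPGroup p Q := P.isPGroup'.to_le hQ.le
    have h1 : Q ⊔ N ≠ ⊤ := by
      intro h
      have := H1.dedekind_left (hnN Q) hQ.le
      rw [h, inf_top_eq, H1.inf_eq_bot_of_coprime' hcop, sup_bot_eq] at this
      exact hQ.ne' this
    have h3 := le_centralizer_iff.1 (le_centralizer_of_isPClosed (hsub _ h1) hQp hNp (hnN Q))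
    have h4 : ((P : Subgroup G) ⊓ centralizer (N : Set G)).Normal := by
      rw [← normalizer_eq_top_iff, eq_top_iff, ← hPN]
      refine sup_le (H1.le_normalizer_inf le_normalizer ?_)
        (H1.le_normalizer_of_le_centralizer (le_centralizer_iff.1 inf_le_right))
      rw [normalizer_eq_top]; exact le_top
    have h5 := hO _ h4 (P.isPGroup'.to_le inf_le_left)
    exact le_bot_iff.1 (h5 ▸ le_inf hQ.le h3)
  have hcardP : Nat.card (P : Subgroup G) = p := by
    have hn0 : n ≠ 0 := by
      rintro rfl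
      exact hP0 (card_eq_one.1 hn)
    obtain ⟨x, hx⟩ := exists_prime_orderOf_dvd_card' (G := P) p (hn ▸ dvd_pow_self p hn0)
    have hz : zpowers (x : G) ≤ P := zpowers_le.2 x.2
    have hc : Nat.card (zpowers (x : G)) = p := by rw [Nat.card_zpowers, Subgroup.orderOf_coe, hx]
    rcases hz.eq_or_lt with h | h
    · rw [h] at hc; exact hc
    · rw [hsmall _ h, card_bot] at hc
      exact absurd hc hp.one_lt.ne
  have hG : Nat.card G = p * Nat.card N := by
    rw [← card_top, ← hPN, H1.card_sup_of_coprime (hnN P) hcop, hcardP]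
  have hidx : N.index = p := by
    have := N.index_mul_card
    rw [hG] at this
    exact Nat.eq_of_mul_eq_mul_right Nat.card_pos this
  have hna : ¬ IsMulCommutative G := fun h => hP ⟨fun a ha g => by
    rw [h.is_comm.comm g a, mul_inv_cancel_right]; exact ha⟩
  have hc := (S3869.result hq hqp hna N hel hidx hN.2.2).1
  exact ⟨q, hq, hqp, by rw [hG, hc], N, hNn, hc, hel, hN.2.2⟩

end Cfsg.Agent.S3868
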