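import Cfsg.Statements.S3870
import Cfsg.Agent.H2.Subnormal
import Cfsg.Agent.H1.Basic
import Cfsg.Agent.H2.Primitive
import Cfsg.Agent.L.BaerSuzuki

set_option autoImplicit false
open Cfsg

namespace Cfsg.Agent.S3870

open Subgroup Cfsg.Agent.H2
open scoped Pointwise

theorem sup_isPGroup {G : Type*} [Group G] [Finite G] {p : ℕ} [Fact p.Prime] {H A B : Subgroup G}
    (hH : Cfsg.IsPClosed p H) (hA : A ≤ H) (hB : B ≤ H) (pA : IsPGroup p A) (pB : IsPGroup p B) :
    IsPGroup p ↥(A ⊔ B) := by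
  have key : ∀ C : Subgroup G, C ≤ H → IsPGroup p C → C ≤ (Cfsg.pCore p H).map H.subtype := by
    intro C hC pC
    obtain ⟨S, hS⟩ := (pC.comap_subtype (K := H)).exists_le_sylow
    have h1 : Cfsg.pCore p H = S := L.pCore_eq_of_sylow_normal S (hH S)
    intro x hx
    exact ⟨⟨x, hC hx⟩, by rw [h1]; exact hS hx, rfl⟩
  exact ((L.isPGroup_pCore p).map H.subtype).to_le (sup_le (key A hA pA) (key B hB pB))

/-- Let G be a finite simple group whose Sylow p-subgroups are not normal but such that every proper subgroup of G has a normal Sylow p-subgroup. Then any two distinct Sylow p-subgroups of G intersect trivially, and for every Sylow p-subgroup P the normalizer of every non-identity subgroup of P lies in the normalizer of P. -/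
theorem result {G : Type*} [Group G] [Finite G] [IsSimpleGroup G] {p : ℕ} [Fact p.Prime]
    (hnc : ¬ Cfsg.IsPClosed p G) (hsub : ∀ H : Subgroup G, H ≠ ⊤ → Cfsg.IsPClosed p ↥H) :
    (∀ P Q : Sylow p G, P ≠ Q → (P : Subgroup G) ⊓ (Q : Subgroup G) = ⊥) ∧
      ∀ (P : Sylow p G) (R : Subgroup G), R ≤ P → R ≠ ⊥ →
        Subgroup.normalizer (R : Set G) ≤ Subgroup.normalizer ((P : Subgroup G) : Set G) := by
  have hN : ∀ R : Subgroup G, IsPGroup p R → R ≠ ⊥ → normalizer (R : Set G) ≠ ⊤ := by
    intro R hR hR0 h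
    rcases (normalizer_eq_top_iff.1 h).eq_bot_or_eq_top with h1 | h1
    · exact hR0 h1
    · apply hnc
      intro P
      have : (P : Subgroup G) = ⊤ := (P.is_maximal' (h1 ▸ hR) le_top).symm
      rw [this]; infer_instance
  have hTI : ∀ D : Subgroup G, D ≠ ⊥ → ∀ P Q : Sylow p G, (P : Subgroup G) ⊓ Q = D → P = Q := by
    intro D
    induction D using WellFoundedGT.induction with
    | ind D ih =>
    intro hD P Q hPQ
    by_contra hne
    have hDP : D < P := lt_of_le_of_ne (hPQ ▸ inf_le_left) (fun h => hne (Sylow.ext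
      (Q.is_maximal' P.isPGroup' ?_) ))
    swap
    · have h1 : (P : Subgroup G) ≤ Q := by rw [← h, ← hPQ]; exact inf_le_right
      exact (P.is_maximal' Q.isPGroup' h1).le
    have hDQ : D < Q := lt_of_le_of_ne (hPQ ▸ inf_le_right) (fun h => hne (Sylow.ext
      (Q.is_maximal' P.isPGroup' (by rw [← h, ← hPQ]; exact inf_le_left))))
    haveI := P.isPGroup'.isNilpotent
    haveI := Q.isPGroup'.isNilpotent
    have h1 := L.lt_inf_normalizer_of_isNilpotent hDP
    have h2 := L.lt_inf_normalizer_of_isNilpotent hDQ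
    have hpD : IsPGroup p D := P.isPGroup'.to_le hDP.le
    have h3 := sup_isPGroup (hsub _ (hN D hpD hD)) (inf_le_right : (P : Subgroup G) ⊓ _ ≤ _)
      (inf_le_right : (Q : Subgroup G) ⊓ _ ≤ _) (P.isPGroup'.to_le inf_le_left)
      (Q.isPGroup'.to_le inf_le_left)
    obtain ⟨S, hS⟩ := h3.exists_le_sylow
    have e1 : D < (P : Subgroup G) ⊓ S := h1.trans_le (le_inf inf_le_left (le_sup_left.trans hS))
    have e2 : D < (Q : Subgroup G) ⊓ S := h2.trans_le (le_inf inf_le_left (le_sup_right.trans hS))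
    have f1 := ih _ e1 (ne_bot_of_gt e1) P S rfl
    have f2 := ih _ e2 (ne_bot_of_gt e2) Q S rfl
    exact hne (f1.trans f2.symm)
  refine ⟨fun P Q hne => by_contra fun h => hne (hTI _ h P Q rfl), ?_⟩
  intro P R hRP hR0 g hg
  have h1 : R ≤ (P : Subgroup G) ⊓ (g • P : Sylow p G) := by
    refine le_inf hRP ?_
    rw [← mem_normalizer_iff_conj_smul.1 hg]
    exact conj_smul_mono g hRP
  have h2 := hTI _ (fun h => hR0 (le_bot_iff.1 (h ▸ h1))) P (g • P) rfl
  exact Sylow.smul_eq_iff_mem_normalizer.1 h2.symm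

end Cfsg.Agent.S3870
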