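import Cfsg.Statements.S3872
import Cfsg.Agent.H2.MaxClass
import Cfsg.Agent.H7.Regular
import Cfsg.Agent.H3.RankOne
import Cfsg.Agent.H6.ZAction

set_option autoImplicit false
open Cfsg

namespace Cfsg.Agent.S3872

open Subgroup
open scoped IsMulCommutative

/-- Say that a finite group is p-exponent closed when its elements of order dividing p form a subgroup. Let G be a finite p-group that is not p-exponent closed, but all of whose proper subgroups and proper quotients are. Then G is generated by two elements, has nilpotency class at least p, has exponent p², has cyclic center, and has order at least p^(p+1). -/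
theorem result {G : Type*} [Group G] [Finite G] {p : ℕ} [Fact p.Prime] (hG : IsPGroup p G)
    (hnc : ¬ (∃ H : Subgroup G, (H : Set G) = {g : G | g ^ p = 1})) (hsub : ∀ K : Subgroup G, K ≠ ⊤ → (∃ H : Subgroup ↥K, (H : Set ↥K) = {g : ↥K | g ^ p = 1}))
    (hquo : ∀ (N : Subgroup G) [N.Normal], N ≠ ⊥ → (∃ H : Subgroup (G ⧸ N), (H : Set (G ⧸ N)) = {g : (G ⧸ N) | g ^ p = 1})) :
    (∃ x y : G, Subgroup.closure ({x, y} : Set G) = ⊤) ∧ (⊤ : Subgroup G).lowerCentralSeries (p - 1) ≠ ⊥ ∧
      Monoid.exponent G = p ^ 2 ∧ IsCyclic ↥(Subgroup.center G) ∧ p ^ (p + 1) ≤ Nat.card G := by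
  have hp : p.Prime := Fact.out
  obtain ⟨x, y, hx, hy, hxy⟩ : ∃ x y : G, x ^ p = 1 ∧ y ^ p = 1 ∧ (x * y) ^ p ≠ 1 := by
    by_contra h
    push Not at h
    exact hnc ⟨{ carrier := {g : G | g ^ p = 1}
                 one_mem' := one_pow _
                 mul_mem' := fun {a b} ha hb => h a b ha hb
                 inv_mem' := fun {a} ha => by
                   change a⁻¹ ^ p = 1
                   rw [inv_pow, show a ^ p = 1 from ha, inv_one] }, rfl⟩
  have hgen : closure ({x, y} : Set G) = ⊤ := by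
    by_contra h
    obtain ⟨H, hH⟩ := hsub _ h
    have h1 : (⟨x, subset_closure (by simp)⟩ : closure ({x, y} : Set G)) ∈ H := by
      rw [← SetLike.mem_coe, hH]; exact Subtype.ext hx
    have h2 : (⟨y, subset_closure (by simp)⟩ : closure ({x, y} : Set G)) ∈ H := by
      rw [← SetLike.mem_coe, hH]; exact Subtype.ext hy
    have h3 := H.mul_mem h1 h2
    rw [← SetLike.mem_coe, hH] at h3
    exact hxy (congrArg Subtype.val h3)
  have hpow : ∀ (N : Subgroup G), N.Normal → N ≠ ⊥ → ∀ g : G, g ^ p ∈ N := by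
    intro N hN hne g
    obtain ⟨H, hH⟩ := hquo N hne
    have h1 : closure ({x, y} : Set G) ≤ H.comap (QuotientGroup.mk' N) := by
      rw [closure_le]
      rintro z (rfl | rfl)
      · show (z : G ⧸ N) ∈ (H : Set (G ⧸ N))
        rw [hH]
        show (z : G ⧸ N) ^ p = 1
        rw [← QuotientGroup.mk_pow, hx, QuotientGroup.mk_one]
      · show (z : G ⧸ N) ∈ (H : Set (G ⧸ N))
        rw [hH]
        show (z : G ⧸ N) ^ p = 1
        rw [← QuotientGroup.mk_pow, hy, QuotientGroup.mk_one]
    have h2 : (g : G ⧸ N) ∈ (H : Set (G ⧸ N)) := h1 (hgen ▸ mem_top g)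
    rw [hH] at h2
    rw [← QuotientGroup.eq_one_iff, QuotientGroup.mk_pow]
    exact h2
  have hcl : (⊤ : Subgroup G).lowerCentralSeries (p - 1) ≠ ⊥ := by
    intro h
    have hr := H7.isRegular_of_class_lt hG h
    exact hnc ⟨H7.regularOmega hr 1, by ext g; simp [H7.mem_regularOmega]⟩
  have hzp : ∀ z ∈ center G, (zpowers z).Normal := fun z hz =>
    ⟨fun a ha g => by
      have := mem_center_iff.1 ((zpowers_le.2 hz) ha) g
      rw [this]; simpa using ha⟩
  haveI : Nontrivial G := ⟨⟨_, _, hxy⟩⟩
  haveI := hG.center_nontrivial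
  obtain ⟨z, hz⟩ := exists_prime_orderOf_dvd_card' (G := center G) p
    (by
      obtain ⟨k, hk0, hk⟩ := (hG.to_subgroup (center G)).nontrivial_iff_card.1 inferInstance
      rw [hk]; exact dvd_pow_self p hk0.ne')
  have hz' : orderOf (z : G) = p := by rw [orderOf_coe, hz]
  have hzne : zpowers (z : G) ≠ ⊥ := by
    rw [Ne, zpowers_eq_bot]
    intro h
    rw [h, orderOf_one] at hz'
    exact hp.one_lt.ne hz'
  have hpp : ∀ g : G, (g ^ p) ^ p = 1 := by
    intro g
    obtain ⟨i, hi⟩ := hpow _ (hzp z z.2) hzne g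
    rw [← hi]
    simp only
    rw [← zpow_natCast, ← zpow_mul, mul_comm, zpow_mul, zpow_natCast, ← hz', pow_orderOf_eq_one,
      one_zpow]
  refine ⟨⟨x, y, hgen⟩, hcl, ?_, ?_, ?_⟩
  · have h1 : Monoid.exponent G ∣ p ^ 2 :=
      Monoid.exponent_dvd_of_forall_pow_eq_one fun g => by rw [sq, pow_mul, hpp]
    obtain ⟨k, hk, hk2⟩ := (Nat.dvd_prime_pow hp).1 h1
    have : k = 2 := by
      by_contra h
      apply hxy
      have h2 : Monoid.exponent G ∣ p := by
        rw [hk2]
        have : k ≤ 1 := by omega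
        simpa using pow_dvd_pow p this
      exact orderOf_dvd_iff_pow_eq_one.1 ((Monoid.order_dvd_exponent _).trans h2)
    rw [hk2, this]
  · apply H3.isCyclic_of_comm_of_card_ker_le' (hG.to_subgroup (center G))
    have how : orderOf ((x * y) ^ p) = p := orderOf_eq_prime (hpp _) hxy
    rw [← Nat.card_congr (Subgroup.equivMapOfInjective _ _
      (center G).subtype_injective).toEquiv.symm]
    conv_rhs => rw [← how, ← Nat.card_zpowers]
    apply card_le_of_le
    rintro _ ⟨w, hw, rfl⟩
    by_cases h1 : (w : G) = 1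
    · simp [h1]
    · have h2 : (w : G) ^ p = 1 := congrArg Subtype.val (show w ^ p = 1 from hw)
      have h3 := hpow _ (hzp w w.2) (by rwa [Ne, zpowers_eq_bot]) (x * y)
      exact H6.mem_zpowers_of_orderOf_dvd (mem_zpowers (w : G)) h3
        (by rw [how]; exact orderOf_dvd_of_pow_eq_one h2)
  · have := H2.pow_le_card_of_lcs_ne_bot hG (i := p - 1) (by have := hp.two_le; omega) hcl
    rwa [show p - 1 + 2 = p + 1 by have := hp.two_le; omega] at this

end Cfsg.Agent.S3872
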