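import Cfsg.Statements.S3873
import Cfsg.Agent.H2.IrrCyclic
import Cfsg.Agent.FT.Base

set_option autoImplicit false
open Cfsg

namespace Cfsg.Agent.S3873

open Subgroup

theorem aux {G : Type*} [Group G] [Finite G] {p : ℕ} [hp : Fact p.Prime]
    (a1 : ∀ K : Subgroup G, K ≠ ⊤ → ∀ x ∈ K, ∀ y ∈ K, x ^ p = 1 → y ^ p = 1 → (x * y) ^ p = 1)
    {A : Subgroup G} (hA : L.IsMinNormal A) (hA1 : ∀ a ∈ A, a ^ p = 1 → a = 1) {x : G}
    (hx : x ^ p = 1) (hxA : x ∉ centralizer (A : Set G)) :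
    ∃ q : ℕ, q.Prime ∧ q ≠ p ∧ Nat.card G = p * q ^ orderOf (q : ZMod p) ∧
      ∃ A : Subgroup G, A.Normal ∧ Nat.card ↥A = q ^ orderOf (q : ZMod p) ∧ Cfsg.IsElementaryAbelian q A ∧
        ∀ B : Subgroup G, B.Normal → B ≤ A → B = ⊥ ∨ B = A := by
  haveI hAn := hA.1
  have hn : ∀ S : Subgroup G, S ≤ normalizer (A : Set G) := fun S => by
    rw [normalizer_eq_top]; exact le_top
  have hx1 : x ≠ 1 := by rintro rfl; exact hxA (one_mem _)
  have ho : Nat.card (zpowers x) = p := by rw [Nat.card_zpowers, orderOf_eq_prime hx hx1]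
  have hcop : (Nat.card (zpowers x)).Coprime (Nat.card A) := by
    rw [ho, hp.out.coprime_iff_not_dvd]
    intro hd
    obtain ⟨a, ha⟩ := exists_prime_orderOf_dvd_card' (G := A) p hd
    have := hA1 a a.2 (by rw [← SubmonoidClass.coe_pow, ← ha, pow_orderOf_eq_one]; rfl)
    rw [← Subgroup.orderOf_coe, this, orderOf_one] at ha
    exact hp.out.ne_one ha.symm
  have hd := H1.inf_eq_bot_of_coprime' hcop
  have b1 : ∀ Q : Subgroup G, Q ≤ A → Q ⊔ zpowers x ≠ ⊤ → x ∈ centralizer (Q : Set G) := by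
    intro Q hQ hne
    refine mem_centralizer_iff.2 fun a ha => ?_
    have hxK : x ∈ Q ⊔ zpowers x := mem_sup_right (mem_zpowers x)
    have haK : a ∈ Q ⊔ zpowers x := mem_sup_left ha
    have c1 := a1 _ hne (a * x * a⁻¹) (mul_mem (mul_mem haK hxK) (inv_mem haK)) x⁻¹ (inv_mem hxK)
      (by rw [conj_pow, hx]; simp) (by rw [inv_pow, hx, inv_one])
    have c2 := hA1 _ (by
      rw [mul_assoc, mul_assoc, ← mul_assoc x]
      exact mul_mem (hQ ha) (hAn.conj_mem _ (inv_mem (hQ ha)) x)) c1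
    rwa [mul_inv_eq_one, mul_inv_eq_iff_eq_mul] at c2
  have b2 : A ⊔ zpowers x = ⊤ := by
    by_contra hne
    exact hxA (b1 A le_rfl hne)
  have b3 : (centralizer ({x} : Set G)).relIndex A ≠ 1 := fun e =>
    hxA (FT.mem_cent_iff_cent1.2 (relIndex_eq_one.1 e))
  obtain ⟨q, hq, hqd⟩ := Nat.exists_prime_and_dvd b3
  haveI := Fact.mk hq
  obtain ⟨Q, hQA, hQ, hQi, hQn⟩ := H1.exists_invariant_sylow (hn (zpowers x)) hcop
    (Or.inl (H1.isSolvable_of_isMulCommutative inferInstance)) q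
  have b4 : Q = A := by
    by_contra hne
    refine hQi (hqd.trans (relIndex_dvd_of_le_left _ (FT.mem_cent_iff_cent1.1 (b1 Q hQA fun e => ?_))))
    have := FT.sup_inf_of_le_left hQn hQA
    rw [e, top_inf_eq, hd, sup_bot_eq] at this
    exact hne this.symm
  subst b4
  have he := hA.isElementaryAbelian_of_isPGroup hq hQ
  have hqp : q ≠ p := by
    rintro rfl
    obtain ⟨a, ha⟩ := ne_bot_iff_exists_ne_one.1 hA.2.1
    exact ha (Subtype.ext (hA1 a a.2 (he.2 a a.2)))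
  have hc := H2.card_eq_of_irreducible hp.out hq hqp he (hn ⊤ (mem_top x))
    (by rw [hx]; exact one_mem _) hxA fun U hU h => hA.2.2 U (by
      rw [← normalizer_eq_top_iff, eq_top_iff, ← b2]
      refine sup_le (((FT.isMulComm_iff_le_cent.1 he.1).trans (FT.cent_anti hU)).trans
        (FT.cent_le_norm _)) (zpowers_le.2 ?_)
      rw [← H1.map_conj_eq_self_iff]
      exact H1.eq_of_le_of_card_le (H1.map_conj_le_iff.2 h) (H1.card_map_conj U x).ge) hU
  refine ⟨q, hq, hqp, ?_, Q, hAn, hc, he, hA.2.2⟩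
  rw [← hc, ← ho, ← H1.card_sup_of_inf_eq_bot (hn _) hd, sup_comm, b2, card_top]


/-- Say that a finite group is p-exponent closed when its elements of order dividing p form a subgroup. Let G be a finite group that is not p-exponent closed, but all of whose proper subgroups and proper quotients are, and suppose G is neither simple nor a p-group. Then there is a prime q ≠ p such that G has order p · q^e, where e is the multiplicative order of q modulo p, and G has a normal elementary abelian subgroup of order q^e that is a minimal normal subgroup of G. -/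
theorem result {G : Type*} [Group G] [Finite G] {p : ℕ} [Fact p.Prime]
    (hnc : ¬ (∃ H : Subgroup G, (H : Set G) = {g : G | g ^ p = 1})) (hsub : ∀ K : Subgroup G, K ≠ ⊤ → (∃ H : Subgroup ↥K, (H : Set ↥K) = {g : ↥K | g ^ p = 1}))
    (hquo : ∀ (N : Subgroup G) [N.Normal], N ≠ ⊥ → (∃ H : Subgroup (G ⧸ N), (H : Set (G ⧸ N)) = {g : (G ⧸ N) | g ^ p = 1}))
    (hns : ¬ IsSimpleGroup G) (hnp : ¬ IsPGroup p G) :
    ∃ q : ℕ, q.Prime ∧ q ≠ p ∧ Nat.card G = p * q ^ orderOf (q : ZMod p) ∧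
      ∃ A : Subgroup G, A.Normal ∧ Nat.card ↥A = q ^ orderOf (q : ZMod p) ∧ Cfsg.IsElementaryAbelian q A ∧
        ∀ B : Subgroup G, B.Normal → B ≤ A → B = ⊥ ∨ B = A := by
  have hp : p.Prime := Fact.out
  have a1 : ∀ K : Subgroup G, K ≠ ⊤ → ∀ x ∈ K, ∀ y ∈ K, x ^ p = 1 → y ^ p = 1 → (x * y) ^ p = 1 := by
    intro K hK x hx y hy h1 h2
    obtain ⟨H, hH⟩ := hsub K hK
    have b : ∀ z : K, z ∈ H ↔ (z : G) ^ p = 1 := fun z => by
      rw [← SetLike.mem_coe, hH, Set.mem_setOf_eq, Subtype.ext_iff]; rfl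
    exact (b (⟨x, hx⟩ * ⟨y, hy⟩)).1 (mul_mem ((b _).2 h1) ((b _).2 h2))
  obtain ⟨x, y, hx, hy, hxy⟩ : ∃ x y : G, x ^ p = 1 ∧ y ^ p = 1 ∧ (x * y) ^ p ≠ 1 := by
    by_contra! hc
    exact hnc ⟨⟨⟨⟨{g | g ^ p = 1}, fun ha hb => hc _ _ ha hb⟩, one_pow p⟩,
      fun {g} (hg : g ^ p = 1) => show g⁻¹ ^ p = 1 by rw [inv_pow, hg, inv_one]⟩, rfl⟩
  have a2 : ∀ K : Subgroup G, x ∈ K → y ∈ K → K = ⊤ := fun K h1 h2 => by
    by_contra hK
    exact hxy (a1 K hK x h1 y h2 hx hy)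
  haveI : Nontrivial G := by
    by_contra h
    rw [not_nontrivial_iff_subsingleton] at h
    exact hxy (Subsingleton.elim _ _)
  obtain ⟨N, hN, hN1, hN2⟩ : ∃ N : Subgroup G, N.Normal ∧ N ≠ ⊥ ∧ N ≠ ⊤ := by
    by_contra! hc
    exact hns ⟨fun N hN => or_iff_not_imp_left.2 (hc N hN)⟩
  obtain ⟨A, hA, hAN⟩ := L.exists_isMinNormal_le N hN1
  haveI hAn := hA.1
  have hAt : A ≠ ⊤ := fun e => hN2 (eq_top_iff.2 (e.ge.trans hAN))
  have a3 : ∀ g : G, g ^ p ∈ A := by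
    obtain ⟨H, hH⟩ := hquo A hA.2.1
    have b : ∀ z : G, z ∈ H.comap (QuotientGroup.mk' A) ↔ z ^ p ∈ A := fun z => by
      rw [mem_comap, ← SetLike.mem_coe, hH, Set.mem_setOf_eq, ← map_pow, QuotientGroup.mk'_apply,
        QuotientGroup.eq_one_iff]
    intro g
    rw [← b, a2 _ ((b x).2 (hx ▸ one_mem _)) ((b y).2 (hy ▸ one_mem _))]
    trivial
  have a4 : ∀ a ∈ A, a ^ p = 1 → a = 1 := by
    let O : Subgroup G := ⟨⟨⟨{g | g ∈ A ∧ g ^ p = 1}, fun ha hb =>
      ⟨mul_mem ha.1 hb.1, a1 A hAt _ ha.1 _ hb.1 ha.2 hb.2⟩⟩, ⟨one_mem _, one_pow p⟩⟩,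
      fun {g} hg => ⟨inv_mem hg.1, show g⁻¹ ^ p = 1 by rw [inv_pow, hg.2, inv_one]⟩⟩
    have hO : O.Normal := ⟨fun n hn g => ⟨hAn.conj_mem _ hn.1 g, by rw [conj_pow, hn.2]; simp⟩⟩
    rcases hA.2.2 O hO (fun g hg => hg.1) with e | e
    · exact fun a ha h => mem_bot.1 (e ▸ (⟨ha, h⟩ : a ∈ O))
    · refine absurd (fun g => ⟨2, ?_⟩) hnp
      rw [sq, pow_mul]
      exact (e.ge (a3 g)).2
  by_cases h1 : x ∈ centralizer (A : Set G)
  swap
  · exact aux a1 hA a4 hx h1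
  by_cases h2 : y ∈ centralizer (A : Set G)
  swap
  · exact aux a1 hA a4 hy h2
  exfalso
  have b1 := a2 _ h1 h2
  obtain ⟨P, hP⟩ := FT.exists_isSyl hp (⊤ : Subgroup G)
  have b2 : A ⊔ P = ⊤ := by
    rw [← index_eq_one]
    have c1 : IsPGroup p (G ⧸ A) := fun g => ⟨1, by
      obtain ⟨g, rfl⟩ := QuotientGroup.mk'_surjective A g
      rw [pow_one, ← map_pow, QuotientGroup.mk'_apply, QuotientGroup.eq_one_iff]
      exact a3 g⟩
    obtain ⟨n, hn⟩ := IsPGroup.iff_card.1 c1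
    refine Nat.eq_one_of_dvd_coprimes ((hp.coprime_iff_not_dvd.2 hP.ndvd).pow_left n)
      (hn ▸ index_dvd_of_le le_sup_left) ?_
    rw [relIndex_top_right]
    exact index_dvd_of_le le_sup_right
  have b3 : ⊤ ≤ normalizer (P : Set G) := b2.ge.trans (sup_le
    ((FT.cent_comm.1 (le_top.trans b1.ge)).trans (FT.cent_le_norm _)) (FT.le_norm_self _))
  have b4 : ∀ z : G, z ^ p = 1 → z ∈ P := by
    intro z hz
    have c1 : IsPGroup p (zpowers z) := by
      rcases (Nat.dvd_prime hp).1 (orderOf_dvd_of_pow_eq_one hz) with e | e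
      · exact IsPGroup.of_card (n := 0) (by rw [Nat.card_zpowers, e, pow_zero])
      · exact IsPGroup.of_card (n := 1) (by rw [Nat.card_zpowers, e, pow_one])
    obtain ⟨g, -, hg⟩ := H1.exists_conj_le_sylow hP.pgrp hP.ndvd le_top c1
    have := H1.conj_mem_of_le_normalizer' b3 (mem_top g)
      (H1.map_conj_le_iff.1 hg z (mem_zpowers z))
    simpa [mul_assoc] using this
  have b5 := a2 P (b4 x hx) (b4 y hy)
  exact hnp ((b5 ▸ hP.pgrp : IsPGroup p (⊤ : Subgroup G)).of_equiv topEquiv)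

end Cfsg.Agent.S3873
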