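import Cfsg.Statements.S3875
import Cfsg.Agent.H7.PClC

set_option autoImplicit false
open Cfsg

namespace Cfsg.Agent.S3875

/-- Let p be an odd prime and let m be the least prime power congruent to 1 modulo p. Then the least order of a finite group whose Sylow p-subgroups are not normal is the smaller of p · m and p(p² − 1)/2: every finite group whose Sylow p-subgroups are not normal has at least that order, and some group of exactly that order has non-normal Sylow p-subgroups. -/
theorem result (p : ℕ) [Fact p.Prime] (hp : p ≠ 2) (m : ℕ) (hm : IsPrimePow m) (hm1 : m % p = 1)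
    (hleast : ∀ k : ℕ, IsPrimePow k → k % p = 1 → m ≤ k) :
    (∀ (H : Type) [Group H] [Finite H], ¬ Cfsg.IsPClosed p H → min (p * m) (p * (p ^ 2 - 1) / 2) ≤ Nat.card H) ∧
      ∃ (H : Type) (_ : Group H) (_ : Finite H), Nat.card H = min (p * m) (p * (p ^ 2 - 1) / 2) ∧ ¬ Cfsg.IsPClosed p H := by
  refine ⟨fun H _ _ hH => ?_, ?_⟩
  · by_contra h
    rw [not_le, lt_min_iff] at h
    refine hH (H7.PCl.pclosed_of_small hleast _ H rfl h.1 ?_)
    have h2 := h.2
    have h3 : p * (p ^ 2 - 1) + p = p ^ 3 := by
      have : 1 ≤ p ^ 2 := Nat.one_le_pow _ _ (Fact.out : p.Prime).pos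
      rw [← Nat.mul_succ, Nat.succ_eq_add_one, Nat.sub_add_cancel this]; ring
    omega
  · rcases le_total (p * m) (p * (p ^ 2 - 1) / 2) with h | h
    · rw [min_eq_left h]; exact H7.PCl.exists_affine hm hm1
    · rw [min_eq_right h]; exact H7.PCl.exists_psl hp

end Cfsg.Agent.S3875
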