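import Cfsg.Statements.S3889
import Cfsg.Agent.H3.CoverSylow

set_option autoImplicit false
open Cfsg

namespace Cfsg.Agent.S3889


/-- A finite abelian group that is the union of a family of proper subgroups any two of which intersect trivially is elementary abelian: its exponent is a prime. -/
theorem result {G : Type*} [CommGroup G] [Finite G] (𝓑 : Set (Subgroup G)) (hprop : ∀ B ∈ 𝓑, B ≠ ⊤)
    (hcov : ∀ g : G, ∃ B ∈ 𝓑, g ∈ B) (hdisj : ∀ B ∈ 𝓑, ∀ C ∈ 𝓑, B ≠ C → B ⊓ C = ⊥) :
    (Monoid.exponent G).Prime := by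
  obtain ⟨B, hB, -⟩ := hcov 1
  haveI : Nontrivial G := by
    by_contra h
    rw [not_nontrivial_iff_subsingleton] at h
    exact hprop B hB (Subsingleton.elim _ _)
  obtain ⟨p, hp, hpd⟩ := Nat.exists_prime_and_dvd (Finite.one_lt_card (α := G)).ne'
  haveI := Fact.mk hp
  obtain ⟨x, hx⟩ := exists_prime_orderOf_dvd_card' p hpd
  have hx1 : x ≠ 1 := by
    rintro rfl
    rw [orderOf_one] at hx
    exact hp.ne_one hx.symm
  have h := H3.pow_eq_one_of_partition (P := ⊤) inferInstance 𝓑
    (fun B hB h => hprop B hB (top_le_iff.1 h)) (fun g _ => hcov g)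
    (fun B hB C hC y _ hy hyB hyC => by
      by_contra hne
      exact hy ((hdisj B hB C hC hne).le ⟨hyB, hyC⟩)) (Subgroup.mem_top x) hx1
    (hx ▸ pow_orderOf_eq_one x)
  have h1 : Monoid.exponent G ∣ p :=
    Monoid.exponent_dvd_of_forall_pow_eq_one fun g => h g (Subgroup.mem_top g)
  rw [Nat.dvd_antisymm h1 (hx ▸ Monoid.order_dvd_exponent x)]
  exact hp

end Cfsg.Agent.S3889
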