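import Cfsg.Statements.S3892
import Cfsg.Agent.H3.Cover

set_option autoImplicit false
open Cfsg

namespace Cfsg.Agent.S3892

open Equiv Equiv.Perm

theorem not_mem_of_pow {G : Type*} [Group G] [Finite G] {p k q : ℕ} (hp : p.Prime) {x y : G}
    (hx : x ^ p ^ k = 1) (hy : y ^ p ^ k = 1) (hq : q.Coprime p) (hxy : (x * y⁻¹) ^ q = 1)
    (hne : x ≠ y) (A : Subgroup G) (hA : Group.IsNilpotent A) (hxA : x ∈ A) : y ∉ A := by
  intro hyA
  have hP : IsPGroup p (Subgroup.closure ({x, y} : Set G)) := by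
    refine L.isPGroup_closure_of_isNilpotent hp (K := A) ?_ ?_
    · rintro s (rfl | rfl)
      · exact hxA
      · exact hyA
    · rintro s (rfl | rfl)
      · exact ⟨k, hx⟩
      · exact ⟨k, hy⟩
  obtain ⟨j, hj⟩ := hP ⟨x * y⁻¹, Subgroup.mul_mem _ (Subgroup.subset_closure (by simp))
    (Subgroup.inv_mem _ (Subgroup.subset_closure (by simp)))⟩
  have h1 : (x * y⁻¹) ^ p ^ j = 1 := congrArg Subtype.val hj
  have := (pow_gcd_eq_one (a := x * y⁻¹)).2 ⟨hxy, h1⟩
  rw [hq.pow_right j, pow_one, mul_inv_eq_one] at this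
  exact hne this

theorem key {G X : Type*} [Group G] [Finite G] [Fintype X] [DecidableEq X] (ι : G →* Perm X)
    (hι : Function.Injective ι) (hr : ∀ σ τ : Perm X, σ ∈ ι.range → τ * σ * τ⁻¹ ∈ ι.range)
    {p k q : ℕ} (hp : p.Prime) (hq : q.Coprime p) {x : Perm X} (hxr : x ∈ ι.range)
    (hx : x ^ p ^ k = 1) (hsupp : x.support.card + 1 = Fintype.card X) {a b : X} (ha : x a ≠ a)
    (hb : x b ≠ b) (h1 : (swap (x a) (x b) * swap a b) ^ q = 1) (h2 : swap (x a) (x b) ≠ swap a b) :
    ¬ ∃ 𝓐 : Finset (Subgroup G), H3.IsNMC 𝓐 := by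
  letI : MulAction G X := MulAction.compHom X ι
  have hsm : ∀ (g : G) (y : X), g • y = ι g y := fun g y => rfl
  have hc : (x.supportᶜ).card = 1 := by rw [Finset.card_compl]; omega
  obtain ⟨ω, hω⟩ := Finset.card_eq_one.1 hc
  have hfix : ∀ y, x y = y ↔ y = ω := by
    intro y
    rw [← Finset.mem_singleton (a := ω), ← hω, Finset.mem_compl, mem_support, not_not]
  have haω : a ≠ ω := fun h => ha ((hfix a).2 h)
  have hbω : b ≠ ω := fun h => hb ((hfix b).2 h)
  obtain ⟨x', hx'⟩ := hxr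
  obtain ⟨y', hy'⟩ := hr x (swap a b) ⟨x', hx'⟩
  obtain ⟨s', hs'⟩ := hr x (swap a ω) ⟨x', hx'⟩
  have hxk : x' ^ p ^ k = 1 := hι (by rw [map_pow, hx', hx, map_one])
  have hyk : y' ^ p ^ k = 1 := hι (by rw [map_pow, hy', conj_pow, hx]; simp)
  have hsw : swap a b ω = ω := swap_apply_of_ne_of_ne haω.symm hbω.symm
  refine H3.not_exists_isNMC_of_pair (x := x') (y := y') (H := MulAction.stabilizer G ω) ?_ ?_ ?_ ?_
  · intro h
    have : s' ∈ MulAction.stabilizer G ω := h ▸ Subgroup.mem_top _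
    rw [MulAction.mem_stabilizer_iff, hsm, hs'] at this
    simp only [swap_inv, coe_mul, Function.comp_apply, swap_apply_right] at this
    rw [swap_apply_eq_iff, swap_apply_right] at this
    exact ha this
  · intro A hA hxA g hg
    exact H3.smul_eq_of_isNilpotent_of_unique hp hA hxA hxk (by rw [hsm, hx', hfix])
      (fun y hy => by rwa [hsm, hx', hfix] at hy) hg
  · intro A hA hyA g hg
    refine H3.smul_eq_of_isNilpotent_of_unique hp hA hyA hyk ?_ (fun y hy => ?_) hg
    · rw [hsm, hy']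
      simp [hsw, (hfix ω).2 rfl]
    · rw [hsm, hy'] at hy
      simp only [swap_inv, coe_mul, Function.comp_apply] at hy
      rw [swap_apply_eq_iff, hfix, swap_apply_eq_iff, hsw] at hy
      exact hy
  · have e : x * (swap a b * x * (swap a b)⁻¹)⁻¹ = swap (x a) (x b) * swap a b := by
      rw [swap_apply_apply, swap_inv]; simp [mul_assoc]
    refine not_mem_of_pow hp hxk hyk hq (hι ?_) ?_
    · rw [map_pow, map_mul, map_inv, hx', hy', e, h1, map_one]
    · intro h
      apply h2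
      rw [h, hy'] at hx'
      rw [hx', mul_inv_cancel] at e
      rw [← swap_inv a b]
      exact eq_inv_of_mul_eq_one_left e.symm

theorem exists_elt (n d : ℕ) (hd : 2 ≤ d) (hn : d ∣ n) (hn0 : n ≠ 0) :
    ∃ x : Perm (Fin (n + 1)), orderOf x = d ∧ x.support.card = n ∧
      sign x = (-1) ^ (n + n / d) := by
  obtain ⟨x, hx⟩ := (exists_with_cycleType_iff (Fin (n + 1))
    (m := Multiset.replicate (n / d) d)).2 ⟨by
      rw [Multiset.sum_replicate, smul_eq_mul, Nat.div_mul_cancel hn]; simp,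
      fun a ha => by rw [Multiset.eq_of_mem_replicate ha]; exact hd⟩
  have h0 : n / d ≠ 0 := (Nat.div_pos (Nat.le_of_dvd (Nat.pos_of_ne_zero hn0) hn) (by omega)).ne'
  have hs : x.cycleType.sum = n := by
    rw [hx, Multiset.sum_replicate, smul_eq_mul, Nat.div_mul_cancel hn]
  refine ⟨x, ?_, ?_, ?_⟩
  · rw [← lcm_cycleType, hx]
    apply Nat.dvd_antisymm
    · exact Multiset.lcm_dvd.2 fun b hb => by rw [Multiset.eq_of_mem_replicate hb]
    · exact Multiset.dvd_lcm (Multiset.mem_replicate.2 ⟨h0, rfl⟩)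
  · rw [← sum_cycleType, hs]
  · rw [sign_of_cycleType, hs, hx, Multiset.card_replicate]

theorem main {G : Type*} [Group G] [Finite G] {n : ℕ} (ι : G →* Perm (Fin (n + 1)))
    (hι : Function.Injective ι) (hr : ∀ σ τ, σ ∈ ι.range → τ * σ * τ⁻¹ ∈ ι.range)
    (hA : ∀ σ, sign σ = 1 → σ ∈ ι.range) (hn : 5 ≤ n ∨ (n = 4 ∧ ∀ σ, σ ∈ ι.range)) :
    ¬ ∃ 𝓐 : Finset (Subgroup G), H3.IsNMC 𝓐 := by
  have hn4 : 4 ≤ n := by omega
  by_cases h : ∃ p : ℕ, p.Prime ∧ p ≠ 2 ∧ p ∣ n
  · obtain ⟨p, hp, hp2, hpn⟩ := h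
    obtain ⟨x, hxo, hxs, -⟩ := exists_elt n p hp.two_le hpn (by omega)
    have hxp : x ^ p = 1 := hxo ▸ pow_orderOf_eq_one x
    have hsign : sign x = 1 := by
      have h1 : sign x ^ p = 1 := by rw [← map_pow, hxp, map_one]
      rcases Int.units_eq_one_or (sign x) with h | h
      · exact h
      · rw [h, (hp.odd_of_ne_two hp2).neg_one_pow] at h1
        exact absurd h1 (by decide)
    obtain ⟨a, ha⟩ : x.support.Nonempty := Finset.card_pos.1 (by omega)
    obtain ⟨b, hb, hb'⟩ : ∃ b ∈ x.support, b ∉ ({a, x a, x⁻¹ a} : Finset (Fin (n + 1))) := by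
      by_contra hc
      push Not at hc
      have := (Finset.card_le_card hc).trans Finset.card_le_three
      omega
    simp only [Finset.mem_insert, Finset.mem_singleton, not_or] at hb'
    rw [mem_support] at ha hb
    have hxb : x b ≠ a := fun h => hb'.2.2 (by rw [← h]; simp)
    refine key ι hι hr (k := 1) (q := 2) hp ((Nat.coprime_primes Nat.prime_two hp).2 hp2.symm)
      (hA x hsign) (by rwa [pow_one]) (by simp [hxs]) ha hb ?_ ?_
    · have hd : Perm.Disjoint (swap (x a) (x b)) (swap a b) := by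
        apply disjoint_swap_swap
        simp [ha, hb, hxb, hb'.1, Ne.symm hb'.1, Ne.symm hb'.2.1]
      rw [hd.commute.mul_pow, sq, sq, swap_mul_self, swap_mul_self, one_mul]
    · intro h
      have := congrArg (fun σ : Perm (Fin (n + 1)) => σ a) h
      simp only [swap_apply_left] at this
      rw [swap_apply_of_ne_of_ne ha.symm hxb.symm] at this
      exact hb'.1 this.symm
  · push Not at h
    have h1 : n = 2 ^ n.primeFactorsList.length :=
      Nat.eq_prime_pow_of_unique_prime_dvd (by omega) (fun {d} hd hdd => by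
        by_contra h2
        exact h d hd h2 hdd)
    generalize n.primeFactorsList.length = k at h1
    have hk : 2 ≤ k := by
      by_contra h2
      have : 2 ^ k ≤ 2 ^ 1 := Nat.pow_le_pow_right (by norm_num) (by omega)
      omega
    obtain ⟨j, rfl⟩ := Nat.exists_eq_add_of_le hk
    have h4 : n = 4 * 2 ^ j := by rw [h1, pow_add]; norm_num
    obtain ⟨x, hxo, hxs, hsign⟩ := exists_elt n 4 (by norm_num) ⟨_, h4⟩ (by omega)
    have hxr : x ∈ ι.range := by
      rcases hn with hn | ⟨-, hn⟩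
      · apply hA
        rw [hsign]
        apply Even.neg_one_pow
        rcases j with _ | j
        · omega
        · rw [h4, Nat.mul_div_cancel_left _ (by norm_num), pow_succ]
          exact ⟨2 ^ j * 5, by ring⟩
      · exact hn x
    have hx2 : x ^ 2 ≠ 1 := by
      intro h2
      have := orderOf_dvd_iff_pow_eq_one.2 h2
      rw [hxo] at this
      norm_num at this
    obtain ⟨a, ha⟩ : ∃ a, x (x a) ≠ a := by
      by_contra hc
      push Not at hc
      exact hx2 (Equiv.ext hc)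
    have ha1 : x a ≠ a := fun h => ha (by rw [h, h])
    have ha2 : x (x a) ≠ x a := fun h => ha1 (x.injective h)
    refine key ι hι hr (p := 2) (k := 2) (q := 3) Nat.prime_two (by norm_num) hxr
      (by rw [show 2 ^ 2 = orderOf x from hxo.symm, pow_orderOf_eq_one]) (by simp [hxs]) ha1 ha2
      ?_ ?_
    · rw [swap_comm a]
      rw [← (isThreeCycle_swap_mul_swap_same ha2.symm ha1 ha).orderOf, pow_orderOf_eq_one]
    · intro h
      have := congrArg (fun σ : Perm (Fin (n + 1)) => σ a) h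
      simp only [swap_apply_left] at this
      rw [swap_apply_of_ne_of_ne ha1.symm ha.symm] at this
      exact ha1 this.symm

theorem alt_five : ¬ ∃ 𝓐 : Finset (Subgroup (alternatingGroup (Fin 5))), H3.IsNMC 𝓐 := by
  let x : alternatingGroup (Fin 5) := ⟨swap 0 2 * swap 0 1, mem_alternatingGroup.2 (by decide)⟩
  let y : alternatingGroup (Fin 5) := ⟨swap 0 1 * swap 0 3, mem_alternatingGroup.2 (by decide)⟩
  have hx : x ^ 3 ^ 1 = 1 := by decide
  have hy : y ^ 3 ^ 1 = 1 := by decide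
  have hC : ∀ g : Perm (Fin 5), sign g = 1 → (g * (swap 0 2 * swap 0 1) = (swap 0 2 * swap 0 1) * g ∨
      g * (swap 0 1 * swap 0 3) = (swap 0 1 * swap 0 3) * g) → g 4 = 4 := by decide +kernel
  refine H3.not_exists_isNMC_of_pair (x := x) (y := y)
    (H := MulAction.stabilizer (alternatingGroup (Fin 5)) (4 : Fin 5)) ?_ ?_ ?_ ?_
  · intro h
    have : (⟨swap 0 4 * swap 0 1, mem_alternatingGroup.2 (by decide)⟩ : alternatingGroup (Fin 5)) ∈
      MulAction.stabilizer (alternatingGroup (Fin 5)) (4 : Fin 5) := h ▸ Subgroup.mem_top _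
    revert this
    rw [MulAction.mem_stabilizer_iff]
    decide
  · intro A hA hxA g hg
    refine H3.smul_eq_of_isNilpotent Nat.prime_three hA hxA hx ?_
      (fun c hc => hC c.1 c.2 (Or.inl (congrArg Subtype.val hc))) hg
    have : MulAction.fixedBy (Fin 5) x ⊆ {3, 4} := by
      intro i
      rw [MulAction.mem_fixedBy]
      revert i
      decide
    exact (Set.ncard_le_ncard this (Set.toFinite _)).trans_lt
      (by rw [Set.ncard_pair (by decide)]; norm_num)
  · intro A hA hyA g hg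
    refine H3.smul_eq_of_isNilpotent Nat.prime_three hA hyA hy ?_
      (fun c hc => hC c.1 c.2 (Or.inr (congrArg Subtype.val hc))) hg
    have : MulAction.fixedBy (Fin 5) y ⊆ {2, 4} := by
      intro i
      rw [MulAction.mem_fixedBy]
      revert i
      decide
    exact (Set.ncard_le_ncard this (Set.toFinite _)).trans_lt
      (by rw [Set.ncard_pair (by decide)]; norm_num)
  · exact not_mem_of_pow (q := 2) Nat.prime_three hx hy (by norm_num) (by decide) (by decide)

theorem sym_four : ¬ ∃ 𝓐 : Finset (Subgroup (Perm (Fin 4))), H3.IsNMC 𝓐 := by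
  let x : Perm (Fin 4) := swap 0 2 * swap 0 1
  let y : Perm (Fin 4) := swap 0 1 * swap 0 3
  have hx : x ^ 3 ^ 1 = 1 := by decide
  have hy : y ^ 3 ^ 1 = 1 := by decide
  have hC : ∀ g : Perm (Fin 4), (g * (swap 0 2 * swap 0 1) = (swap 0 2 * swap 0 1) * g ∨
      g * (swap 0 1 * swap 0 3) = (swap 0 1 * swap 0 3) * g) → sign g = 1 := by decide
  letI : MulAction (Perm (Fin 4)) ℤˣ := MulAction.compHom ℤˣ sign
  have hsm : ∀ g : Perm (Fin 4), g • (1 : ℤˣ) = sign g := fun g => mul_one _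
  have hcard : ∀ S : Set ℤˣ, S.ncard < 3 := fun S =>
    (Set.ncard_le_ncard (Set.subset_univ S) (Set.toFinite _)).trans_lt (by simp)
  refine H3.not_exists_isNMC_of_pair (x := x) (y := y) (H := alternatingGroup (Fin 4)) ?_ ?_ ?_ ?_
  · intro h
    have : swap 0 1 ∈ alternatingGroup (Fin 4) := h ▸ Subgroup.mem_top _
    rw [mem_alternatingGroup] at this
    revert this
    decide
  · intro A hA hxA g hg
    exact (hsm g).symm.trans (H3.smul_eq_of_isNilpotent Nat.prime_three hA hxA hx (hcard _)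
      (fun c hc => (hsm c).trans (hC c (Or.inl hc))) hg)
  · intro A hA hyA g hg
    exact (hsm g).symm.trans (H3.smul_eq_of_isNilpotent Nat.prime_three hA hyA hy (hcard _)
      (fun c hc => (hsm c).trans (hC c (Or.inr hc))) hg)
  · exact not_mem_of_pow (q := 2) Nat.prime_three hx hy (by norm_num) (by decide) (by decide)

/-- A cover of a group is a finite set of proper subgroups whose union is the whole group; it is minimal when no cover has fewer members, and nilpotent when all its members are nilpotent. The alternating groups of degree at least 5 and the symmetric groups of degree at least 4 have no nilpotent minimal cover. -/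
theorem result (n : ℕ) :
    (5 ≤ n → ¬ ∃ 𝓐 : Finset (Subgroup ↥(alternatingGroup (Fin n))), ((∀ A ∈ 𝓐, A ≠ ⊤) ∧ (∀ g : ↥(alternatingGroup (Fin n)), ∃ A ∈ 𝓐, g ∈ A)) ∧ (∀ 𝓑 : Finset (Subgroup ↥(alternatingGroup (Fin n))), (∀ A ∈ 𝓑, A ≠ ⊤) ∧ (∀ g : ↥(alternatingGroup (Fin n)), ∃ A ∈ 𝓑, g ∈ A) → 𝓐.card ≤ 𝓑.card) ∧ (∀ A ∈ 𝓐, Group.IsNilpotent ↥A)) ∧
    (4 ≤ n → ¬ ∃ 𝓐 : Finset (Subgroup (Equiv.Perm (Fin n))), ((∀ A ∈ 𝓐, A ≠ ⊤) ∧ (∀ g : (Equiv.Perm (Fin n)), ∃ A ∈ 𝓐, g ∈ A)) ∧ (∀ 𝓑 : Finset (Subgroup (Equiv.Perm (Fin n))), (∀ A ∈ 𝓑, A ≠ ⊤) ∧ (∀ g : (Equiv.Perm (Fin n)), ∃ A ∈ 𝓑, g ∈ A) → 𝓐.card ≤ 𝓑.card) ∧ (∀ A ∈ 𝓐, Group.IsNilpotent ↥A)) := by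
  constructor
  · intro hn
    rcases hn.eq_or_lt with rfl | hn
    · exact alt_five
    · obtain ⟨n, rfl⟩ : ∃ m, n = m + 1 := ⟨n - 1, by omega⟩
      refine main (alternatingGroup (Fin (n + 1))).subtype Subtype.val_injective ?_ ?_
        (Or.inl (by omega))
      · intro σ τ h
        rw [Subgroup.range_subtype] at h ⊢
        exact (inferInstance : (alternatingGroup (Fin (n + 1))).Normal).conj_mem σ h τ
      · intro σ h
        rw [Subgroup.range_subtype]
        exact h
  · intro hn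
    rcases hn.eq_or_lt with rfl | hn
    · exact sym_four
    · obtain ⟨n, rfl⟩ : ∃ m, n = m + 1 := ⟨n - 1, by omega⟩
      refine main (MonoidHom.id _) Function.injective_id (fun _ _ _ => ⟨_, rfl⟩)
        (fun _ _ => ⟨_, rfl⟩) ?_
      rcases (show 4 ≤ n by omega).eq_or_lt with h | h
      · exact Or.inr ⟨h.symm, fun _ => ⟨_, rfl⟩⟩
      · exact Or.inl h

end Cfsg.Agent.S3892
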