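import Cfsg.Statements.S3893
import Cfsg.Agent.H3.CoverLin

set_option autoImplicit false
open Cfsg

namespace Cfsg.Agent.S3893

open scoped Matrix in
theorem mem_Sz_of {F : Type*} [Field F] (e : ℕ) (g : GL (Fin 4) F)
    (h1 : ∀ u v : Fin 4 → F, Lie.altForm4 ((g : Matrix (Fin 4) (Fin 4) F) *ᵥ u)
      ((g : Matrix (Fin 4) (Fin 4) F) *ᵥ v) = Lie.altForm4 u v)
    (h2 : Lie.star4 (g : Matrix (Fin 4) (Fin 4) F) =
      (g : Matrix (Fin 4) (Fin 4) F).map (fun x => x ^ e)) : g ∈ Lie.Sz F e :=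
  Subgroup.subset_closure ⟨h1, h2⟩

def uMat (F : Type*) [Field F] : Matrix (Fin 4) (Fin 4) F := !![1,0,1,1; 0,1,0,1; 0,0,1,0; 0,0,0,1]

def wMat (F : Type*) [Field F] : Matrix (Fin 4) (Fin 4) F := !![0,0,0,1; 0,0,1,0; 0,1,0,0; 1,0,0,0]

theorem uMat_sq (F : Type*) [Field F] [CharP F 2] : uMat F * uMat F = 1 := by
  have h2 : (1 + 1 : F) = 0 := CharTwo.add_self_eq_zero 1
  ext i j
  fin_cases i <;> fin_cases j <;> simp [uMat, Matrix.mul_apply, Fin.sum_univ_four, h2]

theorem wMat_sq (F : Type*) [Field F] : wMat F * wMat F = 1 := by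
  ext i j
  fin_cases i <;> fin_cases j <;> simp [wMat, Matrix.mul_apply, Fin.sum_univ_four]

def uEl (F : Type*) [Field F] [CharP F 2] : GL (Fin 4) F := ⟨uMat F, uMat F, uMat_sq F, uMat_sq F⟩

def wEl (F : Type*) [Field F] : GL (Fin 4) F := ⟨wMat F, wMat F, wMat_sq F, wMat_sq F⟩

theorem uEl_mem (F : Type*) [Field F] [CharP F 2] {e : ℕ} (he : e ≠ 0) : uEl F ∈ Lie.Sz F e := by
  have h2 : (2 : F) = 0 := CharTwo.two_eq_zero
  apply mem_Sz_of
  · intro u v
    simp only [uEl, uMat, Lie.altForm4, Matrix.mulVec, dotProduct, Fin.sum_univ_four]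
    simp
    linear_combination (u 2 * v 3 + u 3 * v 2 + u 3 * v 3) * h2
  · ext i j
    fin_cases i <;> fin_cases j <;> simp [uEl, uMat, Lie.star4, Lie.pairOf, he, CharTwo.neg_eq]

theorem wEl_mem (F : Type*) [Field F] [CharP F 2] {e : ℕ} (he : e ≠ 0) : wEl F ∈ Lie.Sz F e := by
  apply mem_Sz_of
  · intro u v
    simp only [wEl, wMat, Lie.altForm4, Matrix.mulVec, dotProduct, Fin.sum_univ_four]
    simp
    ring
  · ext i j
    fin_cases i <;> fin_cases j <;> simp [wEl, wMat, Lie.star4, Lie.pairOf, he, CharTwo.neg_eq]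

def tEl {F : Type*} [Field F] (a b : Fˣ) : GL (Fin 4) F :=
  ⟨Matrix.diagonal ![(a : F), b, (b⁻¹ : Fˣ), (a⁻¹ : Fˣ)],
    Matrix.diagonal ![((a⁻¹ : Fˣ) : F), (b⁻¹ : Fˣ), b, a], by
      rw [Matrix.diagonal_mul_diagonal, ← Matrix.diagonal_one]
      congr 1; ext i; fin_cases i <;> simp, by
      rw [Matrix.diagonal_mul_diagonal, ← Matrix.diagonal_one]
      congr 1; ext i; fin_cases i <;> simp⟩

theorem tEl_mem {F : Type*} [Field F] {e : ℕ} (he : e ≠ 0) (a b : Fˣ) (h1 : a * b = a ^ e)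
    (h2 : a * b⁻¹ = b ^ e) : tEl a b ∈ Lie.Sz F e := by
  have h1' : (a : F) * b = (a : F) ^ e := by exact_mod_cast congrArg Units.val h1
  have h2' : (a : F) * (b : F)⁻¹ = (b : F) ^ e := by
    simpa using congrArg Units.val h2
  have ha := a.ne_zero
  have hb := b.ne_zero
  apply mem_Sz_of
  · intro u v
    simp only [tEl, Lie.altForm4, Matrix.mulVec_diagonal]
    simp
    field_simp
  · ext i j
    fin_cases i <;> fin_cases j <;> simp [tEl, Lie.star4, Lie.pairOf, he, ← h1', ← h2']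
    all_goals field_simp

/-- A cover of a group is a finite set of proper subgroups whose union is the whole group; it is minimal when no cover has fewer members, and nilpotent when all its members are nilpotent. The Suzuki groups Sz(q), q = 2^(2m+1) with m ≥ 1, have no nilpotent minimal cover. -/
theorem result {F : Type*} [Field F] [Fintype F] (m : ℕ) (hm : 1 ≤ m) (hF : Fintype.card F = 2 ^ (2 * m + 1)) :
    ¬ ∃ 𝓐 : Finset (Subgroup ↥(Cfsg.Lie.Sz F (2 ^ (m + 1)))), ((∀ A ∈ 𝓐, A ≠ ⊤) ∧ (∀ g : ↥(Cfsg.Lie.Sz F (2 ^ (m + 1))), ∃ A ∈ 𝓐, g ∈ A)) ∧ (∀ 𝓑 : Finset (Subgroup ↥(Cfsg.Lie.Sz F (2 ^ (m + 1)))), (∀ A ∈ 𝓑, A ≠ ⊤) ∧ (∀ g : ↥(Cfsg.Lie.Sz F (2 ^ (m + 1))), ∃ A ∈ 𝓑, g ∈ A) → 𝓐.card ≤ 𝓑.card) ∧ (∀ A ∈ 𝓐, Group.IsNilpotent ↥A) := by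
  classical
  have hch : ringChar F = 2 := by
    rw [FiniteField.even_card_iff_char_two, hF, pow_succ]; simp
  haveI : CharP F 2 := ringChar.of_eq hch
  set e := 2 ^ (m + 1) with he
  have he0 : e ≠ 0 := by positivity
  have hq : 8 ≤ 2 ^ (2 * m + 1) := by
    calc 8 = 2 ^ 3 := by norm_num
      _ ≤ _ := Nat.pow_le_pow_right (by norm_num) (by omega)
  obtain ⟨r, hr, hrd⟩ := Nat.exists_prime_and_dvd (n := 2 ^ (2 * m + 1) - 1) (by omega)
  haveI := Fact.mk hr
  have hr2 : r ≠ 2 := by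
    rintro rfl
    have : 2 ∣ 2 ^ (2 * m + 1) := dvd_pow_self 2 (by omega)
    omega
  have hr3 : r ≠ 3 := by
    rintro rfl
    have : 2 ^ (2 * m + 1) % 3 = 2 := by
      rw [pow_succ, pow_mul, Nat.mul_mod, Nat.pow_mod]; simp
    omega
  have hr5 : 4 < r := by
    have := hr.two_le
    by_contra h
    have h4 : r ≠ 4 := by rintro rfl; norm_num at hr
    omega
  obtain ⟨a, ha⟩ := exists_prime_orderOf_dvd_card (G := Fˣ) r (by
    rw [Fintype.card_units, hF]; exact hrd)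
  have haq : a ^ (2 ^ (2 * m + 1)) = a := by
    have h1 : a ^ (2 ^ (2 * m + 1) - 1) = 1 := orderOf_dvd_iff_pow_eq_one.1 (ha ▸ hrd)
    calc a ^ (2 ^ (2 * m + 1)) = a ^ (2 ^ (2 * m + 1) - 1 + 1) := by congr 1; omega
      _ = a := by rw [pow_succ, h1, one_mul]
  have hee : (a ^ e) ^ e = a ^ 2 := by
    rw [← pow_mul, he, ← pow_add, show m + 1 + (m + 1) = (2 * m + 1) + 1 by ring, pow_succ,
      pow_mul, haq]
  have ha1 : a ≠ 1 := by
    rintro rfl
    rw [orderOf_one] at ha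
    exact hr.ne_one ha.symm
  have ha2 : a ^ 2 ≠ 1 := by
    intro h
    have := orderOf_dvd_iff_pow_eq_one.2 h
    rw [ha] at this
    exact hr2 ((Nat.prime_dvd_prime_iff_eq hr Nat.prime_two).1 this)
  have har : a ^ r = 1 := ha ▸ pow_orderOf_eq_one a
  set b := a ^ e * a⁻¹ with hb
  have hbr : b ^ r = 1 := by
    rw [hb, mul_pow, ← pow_mul, mul_comm e r, pow_mul, inv_pow, har]; simp
  have hab : a * b = a ^ e := by rw [hb, mul_comm, inv_mul_cancel_right]
  have hab' : a * b⁻¹ = b ^ e := by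
    rw [hb, mul_pow, hee, inv_pow, mul_inv, inv_inv, sq, mul_comm _ a, mul_assoc]
  have hodd : ∀ c : Fˣ, c ^ r = 1 → c ^ 2 = 1 → c = 1 := by
    intro c h1 h2
    have := (pow_gcd_eq_one (a := c) (m := r) (n := 2)).2 ⟨h1, h2⟩
    rwa [(Nat.coprime_primes hr Nat.prime_two).2 hr2, pow_one] at this
  have n1 : a ≠ b := by
    intro h
    rw [← h, mul_inv_cancel] at hab'
    rw [← h, ← hab', ← sq] at hab
    exact ha2 hab
  have n2 : a ≠ b⁻¹ := by
    intro h
    have h' : b = a⁻¹ := by rw [h, inv_inv]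
    rw [h', mul_inv_cancel] at hab
    rw [h', inv_inv, inv_pow, ← hab, inv_one, ← sq] at hab'
    exact ha2 hab'
  have n3 : a ≠ a⁻¹ := by
    intro h
    apply ha2
    rw [sq]; nth_rewrite 2 [h]; exact mul_inv_cancel a
  have n4 : b ≠ b⁻¹ := by
    intro h
    have h' : b = 1 := hodd b hbr (by rw [sq]; nth_rewrite 2 [h]; exact mul_inv_cancel b)
    rw [h', inv_one, one_pow, mul_one] at hab'
    exact ha1 hab'
  have hd : Function.Injective ![(a : F), b, (b⁻¹ : Fˣ), (a⁻¹ : Fˣ)] := by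
    have n5 : b ≠ a⁻¹ := fun h => n2 (by rw [h, inv_inv])
    have n6 : b⁻¹ ≠ a⁻¹ := fun h => n1 (inv_injective h).symm
    intro i j
    fin_cases i <;> fin_cases j <;> simp only [Fin.reduceFinMk, Matrix.cons_val, Units.val_inj,
      Fin.zero_eta, Fin.mk_one, Fin.isValue, imp_self] <;> intro h <;> exfalso <;>
      first | exact n1 h | exact n1 h.symm | exact n2 h | exact n2 h.symm | exact n3 h
            | exact n3 h.symm | exact n4 h | exact n4 h.symm | exact n5 h | exact n5 h.symm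
            | exact n6 h | exact n6 h.symm
  have htr : tEl a b ^ r ^ 1 = 1 := by
    apply Units.ext
    rw [pow_one, Units.val_pow_eq_pow_val]
    simp only [tEl, Matrix.diagonal_pow, Units.val_one]
    rw [← Matrix.diagonal_one]
    congr 1
    have har' : (a : F) ^ r = 1 := by rw [← Units.val_pow_eq_pow_val, har, Units.val_one]
    have hbr' : (b : F) ^ r = 1 := by rw [← Units.val_pow_eq_pow_val, hbr, Units.val_one]
    ext i
    fin_cases i <;> simp [har', hbr']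
  refine H3.not_exists_isNMC_of_conj (MonoidHom.id (GL (Fin 4) F)) Function.surjective_id
    (by simp) (Lie.Sz F e) (x := tEl a b) (u := uEl F) (s := wEl F) (tEl_mem he0 a b hab hab')
    (uEl_mem F he0) (wEl_mem F he0) (D := H3.lineStab F 0 ⊓ H3.lineStab F 2)
    (H := H3.lineStab F 0) inf_le_left (by simp) ?_ ?_ ?_ ?_
  · rw [H3.mem_lineStab]
    intro j hj
    fin_cases j <;> simp_all [uEl, uMat]
  · rw [H3.mem_lineStab]
    intro h
    have := h 3 (by decide)
    simp [wEl, wMat] at this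
  · intro A hA htA
    exact le_inf (H3.le_lineStab_of_diagonal hd rfl hr htr (by simpa using hr5) hA htA 0)
      (H3.le_lineStab_of_diagonal hd rfl hr htr (by simpa using hr5) hA htA 2)
  · intro h
    have := H3.mem_lineStab.1 h.2 0 (by decide)
    have e1 : ((uEl F * tEl a b * (uEl F)⁻¹ : GL (Fin 4) F) : Matrix (Fin 4) (Fin 4) F) =
      uMat F * Matrix.diagonal ![(a : F), b, (b⁻¹ : Fˣ), (a⁻¹ : Fˣ)] * uMat F := rfl
    rw [e1, Matrix.mul_apply] at this
    simp only [Matrix.mul_diagonal, Fin.sum_univ_four] at this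
    simp [uMat] at this
    apply n2
    apply Units.ext
    have h2 : (2 : F) = 0 := CharTwo.two_eq_zero
    simp only [Units.val_inv_eq_inv_val]
    linear_combination this - (b : F)⁻¹ * h2

end Cfsg.Agent.S3893
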