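import Cfsg.Statements.S4015
import Cfsg.Agent.H5.DerLen

set_option autoImplicit false
open Cfsg

namespace Cfsg.Agent.S4015

open Module in
theorem exists_hom_GL {F : Type*} [Field F] {X : Type*} [Group X] {W : Type*} [AddCommGroup W]
    [Module F W] [FiniteDimensional F W] (τ : X →* End F W) (hτ : Function.Injective τ) {n : ℕ}
    (hn : finrank F W ≤ n) :
    ∃ f : X →* Matrix.GeneralLinearGroup (Fin n) F, Function.Injective f := by
  let τ' : X →* End F (W × (Fin (n - finrank F W) → F)) :=
    { toFun := fun x => (τ x).prodMap LinearMap.id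
      map_one' := by ext <;> simp
      map_mul' := fun a b => by ext <;> simp }
  have hτ' : Function.Injective τ' := fun a b h => hτ (by
    ext v
    exact congrArg (fun T : End F (W × (Fin (n - finrank F W) → F)) => (T (v, 0)).1) h)
  let b := Module.finBasisOfFinrankEq F (W × (Fin (n - finrank F W) → F)) (n := n) (by
    simp; omega)
  refine ⟨((LinearMap.toMatrixAlgEquiv b).toMulEquiv.toMonoidHom.comp τ').toHomUnits, ?_⟩
  intro x y h
  exact hτ' ((LinearMap.toMatrixAlgEquiv b).injective (congrArg Units.val h))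

/-- Let p be an odd prime, F a finite field with q elements where p does not divide q, and e the multiplicative order of q modulo p. Let n ≥ e and write w = ⌊n/e⌋ and k = ⌊log_p w⌋. Then a Sylow p-subgroup of GL(n, F) has derived length exactly k + 1: its (k+1)-st derived subgroup is trivial and its k-th is not. -/
theorem result (p : ℕ) [Fact p.Prime] (hp : p ≠ 2) (F : Type*) [Field F] [Fintype F] (q : ℕ) (hq : Fintype.card F = q) (hpq : ¬ p ∣ q) (n : ℕ) (hn : orderOf (q : ZMod p) ≤ n) (P : Sylow p (Matrix.GeneralLinearGroup (Fin n) F)) : derivedSeries ↥(P : Subgroup (Matrix.GeneralLinearGroup (Fin n) F)) (Nat.log p (n / orderOf (q : ZMod p)) + 1) = ⊥ ∧ derivedSeries ↥(P : Subgroup (Matrix.GeneralLinearGroup (Fin n) F)) (Nat.log p (n / orderOf (q : ZMod p))) ≠ ⊥ := by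
  classical
  have hpp : p.Prime := Fact.out
  set e := orderOf (q : ZMod p) with he
  have hq0 : (q : ZMod p) ≠ 0 := fun h => hpq ((ZMod.natCast_eq_zero_iff q p).1 h)
  have he0 : 0 < e := by
    rw [he, orderOf_pos_iff, isOfFinOrder_iff_pow_eq_one]
    exact ⟨p - 1, by have := hpp.two_le; omega, ZMod.pow_card_sub_one_eq_one hq0⟩
  have hw : n / e ≠ 0 := (Nat.div_pos hn he0).ne'
  set k := Nat.log p (n / e) with hk
  constructor
  · let K := AlgebraicClosure F
    let σ : (P : Subgroup (Matrix.GeneralLinearGroup (Fin n) F)) →* Module.End K (Fin n → K) :=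
      (((Matrix.toLinAlgEquiv' : Matrix (Fin n) (Fin n) K ≃ₐ[K] _).toMulEquiv.toMonoidHom.comp
        (algebraMap F K).mapMatrix.toMonoidHom).comp (Units.coeHom _)).comp (Subgroup.subtype _)
    have hσ : ∀ g, σ g = 1 → g = 1 := by
      intro g hg
      apply Subtype.ext
      apply Units.ext
      apply Matrix.map_injective (algebraMap F K).injective
      apply (Matrix.toLinAlgEquiv' : Matrix (Fin n) (Fin n) K ≃ₐ[K] _).injective
      refine hg.trans ?_
      change _ = Matrix.toLinAlgEquiv' ((algebraMap F K).mapMatrix 1)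
      rw [map_one, map_one]
    have hσa : ∀ g v i, σ g v i = ∑ j, algebraMap F K (g.1.1 i j) * v j := fun g v i => rfl
    obtain ⟨r, hr⟩ := CharP.exists F
    obtain ⟨m, hrp, hm⟩ := FiniteField.card F r
    haveI := Fact.mk hrp
    haveI : CharP K r := charP_of_injective_algebraMap (algebraMap F K).injective r
    have hpK : (p : K) ≠ 0 := by
      intro h
      rw [CharP.cast_eq_zero_iff K r, Nat.prime_dvd_prime_iff_eq hrp hpp] at h
      exact hpq (by rw [← hq, hm, h]; exact dvd_pow_self _ m.ne_zero)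
    by_contra hne
    haveI := derivedSeries_normal (P : Subgroup (Matrix.GeneralLinearGroup (Fin n) F)) (k + 1)
    obtain ⟨z, hzD, hzc, hzp⟩ := H3.exists_central_orderOf_eq_prime P.isPGroup' _ hne
    have hz1 : z ≠ 1 := fun h => hpp.one_lt.ne' (by rw [← hzp, h, orderOf_one])
    haveI := H3.zpowers_normal_of_mem_center hzc
    obtain ⟨W, hW0, hW, hfix, -⟩ := H1.exists_nofix_subspace σ (Subgroup.zpowers z)
      (by rwa [Nat.card_zpowers, hzp]) ⟨z, Subgroup.mem_zpowers z, fun h => hz1 (hσ z h)⟩
    haveI : Nontrivial W := Submodule.nontrivial_iff_ne_bot.mpr hW0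
    obtain ⟨ζ, hζ⟩ := Module.End.exists_eigenvalue (H1.restrictRep σ W hW z)
    obtain ⟨v, hv⟩ := hζ.exists_hasEigenvector
    have hv0 : (v : Fin n → K) ≠ 0 := fun h => hv.2 (Subtype.ext h)
    have hvz : σ z v = ζ • (v : Fin n → K) := congrArg Subtype.val hv.apply_eq_smul
    have hvpow : ∀ i : ℕ, σ (z ^ i) v = ζ ^ i • (v : Fin n → K) := by
      intro i
      induction i with
      | zero => simp
      | succ i ih => rw [pow_succ, map_mul, Module.End.mul_apply, hvz, map_smul, ih, smul_smul,
          pow_succ']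
    have hζ1 : ζ ≠ 1 := by
      rintro rfl
      refine hv0 (hfix v v.2 fun x hx => ?_)
      obtain ⟨i, rfl⟩ := (mem_powers_iff_mem_zpowers.2 hx)
      simpa using hvpow i
    have hζp : ζ ^ p = 1 := by
      have := hvpow p
      rw [show z ^ p = 1 from orderOf_dvd_iff_pow_eq_one.1 hzp.dvd, map_one, Module.End.one_apply] at this
      exact (smul_left_injective K hv0 (by simpa using this)).symm
    have hζo : orderOf ζ = p := orderOf_eq_prime hζp hζ1
    have hfrob : ∀ i : ℕ, σ z (fun j => (v : Fin n → K) j ^ q ^ i) =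
        ζ ^ q ^ i • fun j => (v : Fin n → K) j ^ q ^ i := by
      intro i
      funext j
      have h1 := congrArg (fun w : Fin n → K => w j ^ q ^ i) hvz
      simp only [hσa, Pi.smul_apply, smul_eq_mul, mul_pow] at h1 ⊢
      rw [← h1, ← hq, hm, ← pow_mul, sum_pow_char_pow]
      refine Finset.sum_congr rfl fun l _ => ?_
      rw [mul_pow, ← map_pow, pow_mul, ← hm, FiniteField.pow_card_pow]
    have hcop : ∀ i, ζ ^ q ^ i ≠ 1 := fun i h => by
      have := orderOf_dvd_of_pow_eq_one h
      rw [hζo] at this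
      exact hpq (hpp.dvd_of_dvd_pow this)
    have hdim : ∀ i : ℕ, p ^ (k + 1) ≤ Module.finrank K ((σ z).eigenspace (ζ ^ q ^ i)) := by
      intro i
      by_contra! hlt
      have hinv : ∀ x, ∀ u ∈ (σ z).eigenspace (ζ ^ q ^ i), σ x u ∈ (σ z).eigenspace (ζ ^ q ^ i) := by
        intro x u hu
        rw [Module.End.mem_eigenspace_iff] at hu ⊢
        rw [← Module.End.mul_apply, ← map_mul, ← Subgroup.mem_center_iff.1 hzc x, map_mul,
          Module.End.mul_apply, hu, map_smul]
      have h1 := H5.coprime_case_log hpp hpK P.isPGroup' (H1.restrictRep σ _ hinv) z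
        (S4010.derived_anti (Nat.succ_le_succ (Nat.le_of_lt_succ
          (Nat.log_lt_of_lt_pow' (Nat.succ_ne_zero k) hlt))) hzD)
      have h2 := congrArg (fun T : Module.End K ((σ z).eigenspace (ζ ^ q ^ i)) =>
        (T ⟨_, Module.End.mem_eigenspace_iff.2 (hfrob i)⟩ : Fin n → K)) h1
      simp only [H1.coe_restrictRep, Module.End.one_apply, hfrob] at h2
      have h3 : (fun j => (v : Fin n → K) j ^ q ^ i) ≠ 0 := fun h =>
        hv0 (funext fun j => pow_eq_zero_iff (n := q ^ i)
          (pow_ne_zero _ (by rw [← hq]; exact Fintype.card_ne_zero)) |>.1 (congrFun h j))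
      exact hcop i (smul_left_injective K h3 (by simpa using h2))
    have h4 := H5.mul_le_finrank_of_eigenspaces (σ z) (fun i : Fin e => ζ ^ q ^ (i : ℕ)) (by
      intro i j hij
      have hfin : IsOfFinOrder ζ := isOfFinOrder_iff_pow_eq_one.2 ⟨p, hpp.pos, hζp⟩
      have h5 := hfin.pow_eq_pow_iff_modEq.1 hij
      rw [hζo, ← ZMod.natCast_eq_natCast_iff, Nat.cast_pow, Nat.cast_pow] at h5
      exact Fin.ext (pow_injOn_Iio_orderOf i.2 j.2 h5)) _ fun i => hdim i
    simp only [Fintype.card_fin, Module.finrank_fintype_fun_eq_card] at h4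
    have h6 : p ^ (k + 1) ≤ n / e := (Nat.le_div_iff_mul_le he0).2 (by rwa [mul_comm])
    exact absurd (Nat.lt_pow_succ_log_self hpp.one_lt (n / e)) (not_lt.2 h6)
  · have hdvd : p ∣ Nat.card (Matrix.GeneralLinearGroup (Fin e) F) := by
      rw [Matrix.card_GL_field]
      refine Dvd.dvd.trans ?_ (Finset.dvd_prod_of_mem _ (Finset.mem_univ ⟨0, he0⟩))
      rw [hq, ← ZMod.natCast_eq_zero_iff, Nat.cast_sub (Nat.pow_le_pow_right
        (by rw [← hq]; exact Fintype.card_pos) (Nat.zero_le _))]
      simp [he]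
    obtain ⟨g, hg⟩ := exists_prime_orderOf_dvd_card' p hdvd
    have hG : Nat.card (Subgroup.zpowers g) = p := by rw [Nat.card_zpowers, hg]
    haveI : Nontrivial (Subgroup.zpowers g) :=
      Finite.one_lt_card_iff_nontrivial.1 (hG ▸ hpp.one_lt)
    haveI : Nonempty (Fin e) := ⟨⟨0, he0⟩⟩
    obtain ⟨W, _, _, _, _, hW, τ, hτ⟩ := H5.exists_rep_iteratedWreath (V := Fin e → F)
      (((Matrix.toLinAlgEquiv' : Matrix (Fin e) (Fin e) F ≃ₐ[F] _).toMulEquiv.toMonoidHom.comp
        (Units.coeHom _)).comp (Subgroup.zpowers g).subtype)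
      ((Matrix.toLinAlgEquiv'.injective.comp Units.val_injective).comp Subtype.val_injective) k
    obtain ⟨f, hf⟩ := exists_hom_GL τ hτ (n := n) (by
      rw [hW, hG, Module.finrank_fintype_fun_eq_card, Fintype.card_fin, mul_comm]
      exact (Nat.le_div_iff_mul_le he0).1 (Nat.pow_log_le_self p hw))
    exact H5.derivedSeries_sylow_ne_bot (H5.isPGroup_iteratedWreath _ hG (k + 1)) f hf P
      (H5.iteratedWreath_derivedSeries_ne_bot _ k)

end Cfsg.Agent.S4015
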