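import Cfsg.Statements.S4016
import Cfsg.Agent.H5.CycAb
import Cfsg.Agent.H8.PComplement

set_option autoImplicit false
open Cfsg

namespace Cfsg.Agent.S4016

/-- Let G be a finite group and p a prime such that a Sylow p-subgroup P of G is cyclic and every subgroup of G of order prime to p is abelian. Then G has a normal p-complement or P is normal in G. -/
theorem result {G : Type*} [Group G] [Finite G] {p : ℕ}
    [Fact p.Prime] (P : Sylow p G) (hcyc : IsCyclic P)
    (hab : ∀ H : Subgroup G, ¬ p ∣ Nat.card H → IsMulCommutative H) :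
    Cfsg.HasNormalPComplement p G ∨ (P : Subgroup G).Normal := by
  have hp : p.Prime := Fact.out
  have hP := FT.isSyl_top_coe hp P
  have hs := H5.CycAb.isSolvable hp G ⟨fun Q hQ => by
    obtain ⟨g, -, hg⟩ := hP.exists_le_conj hp hQ le_top
    exact FT.isCyclic_of_le hg ((FT.isCyclic_map_iff (FT.conj_injective g)).2 hcyc), hab⟩
  rcases H5.CycAb.dich hp (M := ⊤) inferInstance hP hcyc hab with h | h
  · exact Or.inl (H8.hasNPC_top_iff.1 ((FT.hasNPC_iff hp).1 h))
  · exact Or.inr (FT.normal_iff_top_le.2 h)

end Cfsg.Agent.S4016
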