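import Cfsg.Statements.S4017
import Cfsg.Agent.H5.Mers2

set_option autoImplicit false
open Cfsg

namespace Cfsg.Agent.S4017

/-- Let G be a finite group and let p and q be distinct primes dividing the order of G, with p odd. Suppose that p divides the order of every proper subgroup of G that is neither a q-group nor of order prime to q. Let q^a be the q-part of the order of G. If p > q^a − 1, or if p = q^a − 1 and the Sylow p-subgroups of G are abelian, then p and q are the only primes dividing the order of G. -/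
theorem result {G : Type*} [Group G] [Finite G]
    {p q : ℕ} (hp : p.Prime) (hq : q.Prime) (hpq : p ≠ q) (hp2 : p ≠ 2)
    (hpG : p ∣ Nat.card G) (hqG : q ∣ Nat.card G)
    (hmix : ∀ H : Subgroup G, H ≠ ⊤ → ¬ IsPGroup q H → q ∣ Nat.card H → p ∣ Nat.card H)
    (hlarge : q ^ (Nat.card G).factorization q - 1 < p ∨
      (p = q ^ (Nat.card G).factorization q - 1 ∧ ∀ P : Sylow p G, IsMulCommutative P)) :
    ∀ r : ℕ, r.Prime → r ∣ Nat.card G → r = p ∨ r = q := by
  have hm : ∀ H : Subgroup G, ¬ p ∣ Nat.card H → q ∣ Nat.card H → IsPGroup q H := fun H a1 a2 => by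
    by_contra a3
    exact a1 (hmix H (fun e => a1 (by rw [e, Subgroup.card_top]; exact hpG)) a3 a2)
  obtain ⟨Q, hQ⟩ := FT.exists_isSyl hq (⊤ : Subgroup G)
  have hQc := hQ.card_eq_pow_factorization hq
  rw [Subgroup.card_top] at hQc
  have hU : ∀ U : Subgroup G, IsPGroup q U → Nat.card U ≤ Nat.card Q := fun U hU =>
    Nat.le_of_dvd Nat.card_pos (hQ.card_dvd hq hU le_top)
  have hQ1 := hQ.ne_bot hq (by simpa using hqG)
  have key : ∀ r : ℕ, r.Prime → r ≠ q → ∀ A B : Subgroup G, IsPGroup q A → IsPGroup r B → A ≠ ⊥ →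
      B ≠ ⊥ → (A ≤ Subgroup.normalizer B ∨ B ≤ Subgroup.normalizer A) → r = p :=
    fun r hr hrq A B hA hB hA1 hB1 hn => by
      have a1 : IsPiSubgroup {q, r} (A ⊔ B) := hn.elim (FT.isPi_sup (FT.isPi_of_isPGroup hq hA
        (by simp)) (FT.isPi_of_isPGroup hr hB (by simp))) fun h => sup_comm A B ▸
        FT.isPi_sup (FT.isPi_of_isPGroup hr hB (by simp)) (FT.isPi_of_isPGroup hq hA (by simp)) h
      by_contra hne
      refine hrq (FT.eq_of_prime_dvd_card_of_isPGroup hq hr (hm (A ⊔ B) (fun hd => ?_)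
        ((FT.prime_dvd_card_of_isPGroup hq hA hA1).trans (FT.card_dvd_of_le le_sup_left)))
        ((FT.prime_dvd_card_of_isPGroup hr hB hB1).trans (FT.card_dvd_of_le le_sup_right)))
      exact (a1 p hp hd).elim hpq fun e => hne e.symm
  intro r hr hd
  rw [← hQc] at hlarge
  rcases hlarge with h | ⟨h, hab⟩
  · have h1 : FT.HasNPC q (⊤ : Subgroup G) := by
      by_contra hne
      obtain ⟨U, y, s, a1, a2, a3, a4, a5, a6⟩ := H5.exists_act_of_not_hasNPC hq hne
      obtain rfl := key s a2 a3 U (Subgroup.zpowers y) a1 ((FT.isPiElt_singleton_iff a2).1 a4)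
        (by rintro rfl; exact a6 (FT.cent_bot.ge (Subgroup.mem_top y)))
        (by rw [Ne, Subgroup.zpowers_eq_bot]; rintro rfl; exact a6 (one_mem _))
        (Or.inr (Subgroup.zpowers_le.2 a5))
      have := hU U a1
      have := (H5.trans_of_card_le hp a4 a5 a6 (by omega)).1
      omega
    by_cases hrq : r = q
    · exact Or.inr hrq
    have h2 := h1.sdProd hq hQ
    obtain ⟨R, hR, -, h3⟩ := FT.exists_invariant_isSyl hr h2.norm (FT.isPi_coprime
      ((FT.isPi_singleton_iff hq).2 hQ.pgrp) ((FT.isPi_compl_singleton_iff' hq).2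
      (FT.not_dvd_card_pPrimeCoreOf hq _))) (Or.inl (FT.isSolvable_of_isNilpotent
      (FT.isNilpotent_of_isPGroup hq hQ.pgrp))) IsPGroup.of_bot bot_le (FT.norm_bot.ge.trans' le_top)
    refine Or.inl (key r hr hrq Q R hQ.pgrp hR.pgrp hQ1 (hR.ne_bot hr ?_) (Or.inl h3))
    rw [← Subgroup.card_top, h2.card] at hd
    exact ((Nat.Prime.dvd_mul hr).1 hd).resolve_right fun e =>
      hrq (FT.eq_of_prime_dvd_card_of_isPGroup hq hr hQ.pgrp e)
  have h0 : 0 < Nat.card Q := Nat.card_pos
  obtain rfl : q = 2 := (FT.eq_of_prime_dvd_card_of_isPGroup hq Nat.prime_two hQ.pgrp (by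
    have := hp.eq_two_or_odd.resolve_left hp2
    omega)).symm
  have := Fact.mk hp
  have hs := H5.Mers.isSolvable hp hp2 G ⟨hm, fun U a => by have := hU U a; omega, fun P hP => by
    obtain ⟨S, hS⟩ := hP.exists_le_sylow
    exact FT.isMulComm_of_le hS (hab S)⟩
  exact (H5.isPi_pair_of_solvable (M := ⊤) hp hq hpq.symm inferInstance (by simpa using hqG)
    (fun H _ => hm H) r hr (by simpa using hd)).symm

end Cfsg.Agent.S4017
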