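import Cfsg.Statements.S4018
import Cfsg.Agent.H5.Friend2
import Cfsg.Agent.H8.ThompsonTransfer

set_option autoImplicit false
open Cfsg

namespace Cfsg.Agent.S4018

open Subgroup Cfsg Cfsg.Agent Cfsg.Agent.FT in
theorem aux {G : Type*} [Group G] [Finite G] [IsSimpleGroup G] {P : Subgroup G} (hP : IsSyl 3 P ⊤)
    (hab : IsMulCommutative P) (hN : 𝐨(𝐍(P)) = 4 * 𝐨(P)) (hC : 𝐨(𝐂(P)) = 2 * 𝐨(P))
    (hTI : IsTISubset (𝐂(P) : Set G))
    (heven : ∀ H : Subgroup G, H ≠ ⊤ → 2 ∣ Nat.card H → Nat.card H ∣ 4 * 𝐨(P)) : False := by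
  have h3 := Nat.prime_three
  have hPC : P ≤ 𝐂(P) := isMulComm_iff_le_cent.1 hab
  obtain ⟨k, hk⟩ := exists_card_eq_pow h3 hP.pgrp
  have hodd : Odd 𝐨(P) := hk ▸ Odd.pow (by decide)
  have h4 : 4 * 𝐨(P) ∣ Nat.card G := hN ▸ card_subgroup_dvd_card _
  have hG2 : Nat.card G ≠ 2 := fun e => by
    have := Nat.le_of_dvd (by omega) (e ▸ h4); have := hodd.pos; omega
  have hnc := fun (t : G) (ht1 : t ≠ 1) (ht : t * t = 1) => H5.not_commute_all_invol hG2 ht1 ht
  have hord : ∀ t : G, t ≠ 1 → t * t = 1 → orderOf t = 2 := fun t ht1 ht =>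
    orderOf_eq_prime (by rw [sq, ht]) ht1
  have hct : ∀ t : G, t ≠ 1 → t * t = 1 → 𝐂[t] ≠ ⊤ := fun t ht1 ht e =>
    hnc t ht1 ht fun u _ => mem_cent1.1 (e.ge trivial)
  obtain ⟨s, hsC, hs⟩ := exists_mem_orderOf_eq_prime Nat.prime_two (H := 𝐂(P)) (hC ▸ dvd_mul_right _ _)
  have hs1 : s ≠ 1 := by rintro rfl; simp at hs
  have hs2 : s * s = 1 := by rw [← sq, ← hs, pow_orderOf_eq_one]
  -- `8` does not divide `|G|`
  have h8 : ¬ 8 ∣ Nat.card G := fun h8 => by
    obtain ⟨S, hS⟩ := exists_isSyl Nat.prime_two (⊤ : Subgroup G)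
    have h1 : 2 ^ 3 ∣ 𝐨(S) := by
      rw [hS.card_eq_pow_factorization Nat.prime_two, card_top]
      exact pow_dvd_pow 2 ((Nat.prime_two.pow_dvd_iff_le_factorization Nat.card_pos.ne').1 h8)
    by_cases hT : S = ⊤
    · subst hT
      obtain ⟨t, ht, hto⟩ := exists_mem_orderOf_eq_prime Nat.prime_two
        (prime_dvd_card_of_isPGroup Nat.prime_two (hS.pgrp.to_le inf_le_left)
        (center_ne_bot (isNilpotent_of_isPGroup Nat.prime_two hS.pgrp) top_ne_bot))
      exact hnc t (by rintro rfl; simp at hto) (by rw [← sq, ← hto, pow_orderOf_eq_one])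
        fun u _ => (ht.2 u trivial).symm
    · have h2 := h1.trans (heven S hT ((dvd_pow_self 2 (by norm_num)).trans h1))
      obtain ⟨m, hm⟩ := hodd
      omega
  -- the unique involution of `C(P)`
  have hidx : P.relIndex 𝐂(P) = 2 := by
    have := H1.card_mul_relIndex hPC
    rw [hC, mul_comm] at this
    exact Nat.eq_of_mul_eq_mul_right hodd.pos this
  have hnP : ∀ z : G, z ≠ 1 → z * z = 1 → z ∉ P := fun z hz1 hz hzP => by
    have := orderOf_dvd_card_of_mem hzP
    rw [hord z hz1 hz] at this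
    exact (Nat.not_even_iff_odd.2 hodd) (even_iff_two_dvd.2 this)
  have huniq : ∀ z ∈ 𝐂(P), z ≠ 1 → z * z = 1 → z = s := fun z hzC hz1 hz => by
    have h1 : s * z ∈ P := by
      have := (mul_mem_iff_of_index_two (H := P.subgroupOf 𝐂(P)) hidx (a := ⟨s, hsC⟩)
        (b := ⟨z, hzC⟩)).2 (by simp [mem_subgroupOf, hnP s hs1 hs2, hnP z hz1 hz])
      exact this
    by_contra hne
    refine hnP (s * z) (fun e => hne ?_) ?_ h1
    · rw [← mul_right_inj s, e, hs2]
    · have := hsC _ h1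
      calc s * z * (s * z) = s * z * s * z := by group
        _ = 1 := by rw [this, ← mul_assoc, hs2, one_mul, hz]
  have hNs : 𝐍(P) = 𝐂[s] := by
    have h1 : 𝐍(P) ≤ 𝐂[s] := fun g hg => mem_cent1_iff_conj.2 (huniq _
      (conj_le_of_mem_norm le_rfl (H1.normalizer_le_normalizer_centralizer _ hg) (conj_mem_conj hsC g)) (by simpa using hs1)
      (by rw [show g * s * g⁻¹ * (g * s * g⁻¹) = g * (s * s) * g⁻¹ by group, hs2]; simp))
    refine eq_of_le_of_card_ge h1 (Nat.le_of_dvd Nat.card_pos (hN ▸ heven _ (hct s hs1 hs2) ?_))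
    exact hs ▸ orderOf_dvd_card_of_mem (self_mem_cent1 s)
  -- every involution is conjugate to `s`
  have hconj : ∀ z : G, z ≠ 1 → z * z = 1 → ∃ g, g * z * g⁻¹ = s := fun z hz1 hz => by
    by_contra hne
    push Not at hne
    have h1 := (𝐂(P)).index_mul_card
    obtain ⟨m, hm⟩ := h4
    have h2 : (𝐂(P)).index = 2 * m := Nat.eq_of_mul_eq_mul_right (m := 2 * 𝐨(P))
      (by have := hodd.pos; omega) (by rw [← hC, h1, hm, hC]; ring)
    obtain ⟨K, hKn, hK, -⟩ := H8.exists_normal_index_two_of_not_conj 𝐂(P) (k := m)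
      (Nat.not_even_iff_odd.1 fun ⟨j, hj⟩ => h8 ⟨𝐨(P) * j, by rw [hm, hj]; ring⟩) h2
      (t := z) (by rw [sq, hz]) fun g hg => hne g (huniq _ hg (by simpa using hz1)
      (by rw [show g * z * g⁻¹ * (g * z * g⁻¹) = g * (z * z) * g⁻¹ by group, hz]; simp))
    rcases IsSimpleGroup.eq_bot_or_eq_top_of_normal K hKn with rfl | rfl
    · exact hG2 (by simpa using hK)
    · simp at hK
  refine (H5.exists_invol_commute_of_unique h8 (p := 3) (by norm_num) hs1 hs2
    (fun t w ht1 ht hw => ?_) (fun x hx1 hx => ?_)).elim fun t h => hnc t h.1 h.2.1 h.2.2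
  · have hti := L.inv_eq_self_of_mul_self ht
    have hn : zpowers t ≤ 𝐍(zpowers w) := zpowers_le.2 (mem_norm_of_conj_le (by
      rw [← zpowers_conj, hti, hw, zpowers_inv]))
    by_cases hT : zpowers w ⊔ zpowers t = ⊤
    · rcases IsSimpleGroup.eq_bot_or_eq_top_of_normal (zpowers w) (normal_iff_top_le.2
        (hT.ge.trans (sup_le le_normalizer hn))) with e | e
      · rw [zpowers_eq_bot.1 e]; exact isPiElt_one _
      · exact (hnc t ht1 ht fun u _ => isMulComm_iff_le_cent.1 (isMulComm_of_isCyclic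
          (isCyclic_iff_zpowers.2 ⟨w, e⟩)) trivial t trivial).elim
    · intro r hr hd
      have h1 := (hd.trans (orderOf_dvd_card_of_mem (mem_sup_left (mem_zpowers w)))).trans
        (heven _ hT (hord t ht1 ht ▸ orderOf_dvd_card_of_mem (mem_sup_right (mem_zpowers t))))
      rcases (Nat.Prime.dvd_mul hr).1 h1 with h2 | h2
      · exact Or.inl ((Nat.prime_dvd_prime_iff_eq hr Nat.prime_two).1 (hr.dvd_of_dvd_pow (n := 2) h2))
      · exact Or.inr (eq_of_prime_dvd_card_of_isPGroup h3 hr hP.pgrp h2)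
  · have hx3 := (isPiElt_singleton_iff h3).1 hx
    -- `x` commutes with `g⁻¹ s g` iff `g x g⁻¹ ∈ P`
    have key : ∀ g : G, Commute x (g⁻¹ * s * g) → g * x * g⁻¹ ∈ P := fun g hg => by
      refine (hP.of_le le_normalizer le_top).le_of_normal h3 le_rfl
        (Q := zpowers (g * x * g⁻¹)) ((isPiElt_singleton_iff h3).1 (isPiElt_conj.2 hx))
        (zpowers_le.2 ?_) (mem_zpowers _)
      rw [hNs, mem_cent1]
      calc s * (g * x * g⁻¹) = g * (g⁻¹ * s * g * x) * g⁻¹ := by group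
        _ = _ := by rw [← hg.eq]; group
    obtain ⟨g, -, hg⟩ := hP.exists_conj_le h3 hx3 le_top
    have hgx : g * x * g⁻¹ ∈ P := hg (conj_mem_conj (mem_zpowers x) g)
    refine ⟨g⁻¹ * s * g, ⟨by simpa using (MulAut.conj g⁻¹).map_ne_one_iff.2 hs1, ?_, ?_⟩, fun z ⟨hz1, hz, hxz⟩ => ?_⟩
    · rw [show g⁻¹ * s * g * (g⁻¹ * s * g) = g⁻¹ * (s * s) * g by group, hs2]; simp
    · calc x * (g⁻¹ * s * g) = g⁻¹ * (g * x * g⁻¹ * s) * g := by group
        _ = _ := by rw [hsC _ hgx]; group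
    · obtain ⟨h, hh⟩ := hconj z hz1 hz
      have h1 := key h (by rwa [← hh, show h⁻¹ * (h * z * h⁻¹) * h = z by group])
      have h2 : h * g⁻¹ ∈ 𝐍(𝐂(P)) := by_contra fun hn => hx1 (by
        simpa using hTI _ hn _ (hPC hgx) (by
          rw [show h * g⁻¹ * (g * x * g⁻¹) * (h * g⁻¹)⁻¹ = h * x * h⁻¹ by group]; exact hPC h1))
      have h3 := huniq _ (conj_le_of_mem_norm le_rfl (inv_mem h2) (conj_mem_conj hsC _))
        ((MulAut.conj (h * g⁻¹)⁻¹).map_ne_one_iff.2 hs1) (by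
          rw [show (h * g⁻¹)⁻¹ * s * (h * g⁻¹)⁻¹⁻¹ * ((h * g⁻¹)⁻¹ * s * (h * g⁻¹)⁻¹⁻¹) =
            (h * g⁻¹)⁻¹ * (s * s) * (h * g⁻¹) by group, hs2]; simp)
      rw [← h3, ← hh]; group

/-- Let G be a finite group with an abelian Sylow 3-subgroup P such that the normalizer of P has order 4·#P, the centralizer C of P has order 2·#P, C meets each of its conjugates by elements outside its normalizer trivially, and every proper subgroup of G of even order has order dividing 4·#P. Then G is not simple. -/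
theorem result {G : Type*} [Group G] [Finite G]
    (P : Sylow 3 G) (hab : IsMulCommutative P)
    (hN : Nat.card (Subgroup.normalizer ((P : Subgroup G) : Set G)) = 4 * Nat.card P)
    (hC : Nat.card (Subgroup.centralizer (P : Set G)) = 2 * Nat.card P)
    (hTI : Cfsg.IsTISubset (Subgroup.centralizer (P : Set G) : Set G))
    (heven : ∀ H : Subgroup G, H ≠ ⊤ → 2 ∣ Nat.card H → Nat.card H ∣ 4 * Nat.card P) :
    ¬ IsSimpleGroup G := by
  intro _
  exact aux (FT.isSyl_top_coe Nat.prime_three P) hab hN hC hTI heven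

end Cfsg.Agent.S4018
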