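import Cfsg.Statements.S4033
import Cfsg.Agent.H7.Rk2B
import Cfsg.Agent.S4034

set_option autoImplicit false
open Cfsg

namespace Cfsg.Agent.S4033

/-- Let G be a finite group and p a prime, and suppose the conjugacy classes of p-regular elements of G (elements of order prime to p) have exactly two distinct sizes. Then either G has an abelian p-complement (an abelian subgroup of order prime to p and p-power index), or there are a prime q ≠ p, a Sylow p-subgroup P, a Sylow q-subgroup Q and a central subgroup A such that PQ is a normal subgroup of order #P·#Q and G is the internal direct product PQ × A. -/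
theorem result {G : Type*} [Group G] [Finite G] {p : ℕ} (hp : p.Prime)
    (h2 : Set.ncard (Set.range fun x : {x : G // (orderOf x).Coprime p} => (ConjClasses.mk (x : G)).carrier.ncard) = 2) :
    (∃ H : Subgroup G, IsMulCommutative H ∧ ¬ p ∣ Nat.card H ∧ ∃ k : ℕ, H.index = p ^ k) ∨
    (∃ (q : ℕ) (_ : Fact q.Prime) (P : Sylow p G) (Q : Sylow q G) (A : Subgroup G), q ≠ p ∧
        A ≤ Subgroup.center G ∧ Nat.card ↥((P : Subgroup G) ⊔ (Q : Subgroup G)) = Nat.card P * Nat.card Q ∧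
        ((P : Subgroup G) ⊔ (Q : Subgroup G)).Normal ∧
        ((P : Subgroup G) ⊔ (Q : Subgroup G)) ⊓ A = ⊥ ∧ ((P : Subgroup G) ⊔ (Q : Subgroup G)) ⊔ A = ⊤) := by
  have hc : ∀ x : G, (ConjClasses.mk x).carrier.ncard = H7.cs x := fun x =>
    (Nat.card_coe_set_eq _).symm.trans (H7.card_carrier_eq_index x)
  obtain ⟨k, hk⟩ : ∃ k, H7.Rk2.Reg p k G := by
    obtain ⟨a, b, -, e⟩ := Set.ncard_eq_two.mp h2
    have h1 : ∀ x : G, (orderOf x).Coprime p → H7.cs x = a ∨ H7.cs x = b := fun x hx =>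
      hc x ▸ (e.le ⟨⟨x, hx⟩, rfl⟩ :)
    have h3 := h1 1 (by simp)
    rw [H7.Rk3.cs_eq_one.mpr (one_mem _)] at h3
    rcases h3 with rfl | rfl
    · exact ⟨b, fun x hx xc => (h1 x hx).resolve_left fun e => xc (H7.Rk3.cs_eq_one.mp e)⟩
    · exact ⟨a, fun x hx xc => (h1 x hx).resolve_right fun e => xc (H7.Rk3.cs_eq_one.mp e)⟩
  have := Fact.mk hp
  rcases hk.dich hp with ⟨q, hq, hqp, h⟩ | ⟨j, rfl⟩
  · have := Fact.mk hq
    obtain ⟨P⟩ : Nonempty (Sylow p G) := inferInstance
    obtain ⟨Q⟩ : Nonempty (Sylow q G) := inferInstance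
    obtain ⟨A, hA⟩ := H7.Rk2.split_of_nc hqp h P Q
    exact Or.inr ⟨q, this, P, Q, A, hqp, hA⟩
  · refine Or.inl ((S4034.result hp).mp fun x hx => ?_)
    rw [hc]
    by_cases xc : x ∈ Subgroup.center G
    · exact ⟨0, H7.Rk3.cs_eq_one.mpr xc⟩
    · exact ⟨j, hk x hx xc⟩

end Cfsg.Agent.S4033
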