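import Cfsg.Statements.S4078
import Cfsg.Agent.H7.TG3
import Cfsg.Agent.FT.Final
import Cfsg.Agent.H2.Radical

set_option autoImplicit false
open Cfsg

namespace Cfsg.Agent.S4078

open Subgroup Cfsg.Agent Cfsg.Agent.FT Cfsg.Agent.H7.TG
open scoped commutatorElement

theorem dihedral {G : Type*} [Group G] [Finite G] {s t : G} (hs : s * s = 1) (ht : t * t = 1) :
    Group.IsSolvable (closure ({s, t} : Set G)) := by
  have hs' : s⁻¹ = s := inv_eq_of_mul_eq_one_right hs
  have ht' : t⁻¹ = t := inv_eq_of_mul_eq_one_right ht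
  have h1 : s ∈ 𝐍(zpowers (s * t)) := by
    rw [← conj_eq_self_iff, ← zpowers_conj, ← zpowers_inv (g := s * t)]
    congr 1
    rw [mul_inv_rev, hs', ht', ← mul_assoc, hs, one_mul]
  have hn : zpowers s ≤ 𝐍(zpowers (s * t)) := zpowers_le.2 h1
  have h2 : closure ({s, t} : Set G) ≤ zpowers (s * t) ⊔ zpowers s := by
    rw [closure_le]
    rintro x (rfl | rfl)
    · exact mem_sup_right (mem_zpowers _)
    · exact (mul_mem_cancel_left (mem_sup_right (mem_zpowers s))).1 (mem_sup_left (mem_zpowers _))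
  rw [sup_comm] at h2
  exact H1.isSolvable_of_le h2 (H2.isSolvable_sup_of_le_normalizer hn
    (H1.isSolvable_of_isMulCommutative inferInstance)
    (H1.isSolvable_of_isMulCommutative inferInstance))

theorem eq_top_of_conj {G : Type*} [Group G] [IsSimpleGroup G] {t : G} (ht : t ≠ 1) {H : Subgroup G}
    (h : ∀ g : G, g * t * g⁻¹ ∈ H) : H = ⊤ := by
  have h1 : normalClosure ({t} : Set G) ≤ H := by
    refine (closure_le H).2 fun x hx => ?_
    obtain ⟨a, rfl, hc⟩ := Group.mem_conjugatesOfSet_iff.1 hx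
    obtain ⟨g, rfl⟩ := isConj_iff.1 hc
    exact h g
  rcases (normalClosure_normal (s := ({t} : Set G))).eq_bot_or_eq_top with e | e
  · exact absurd (mem_bot.1 (e ▸ subset_normalClosure rfl)) ht
  · exact eq_top_iff.2 (e ▸ h1)

/-- For an element x of a finite group G let Sol(x) be the set of y ∈ G such that x and y generate a solvable subgroup. Then G is solvable if and only if Sol(x) is (the carrier of) a subgroup of G for every x ∈ G. -/
theorem result {G : Type*} [Group G] [Finite G] :
    Group.IsSolvable G ↔ ∀ x : G, ∃ H : Subgroup G, (H : Set G) = {y : G | Group.IsSolvable ↥(Subgroup.closure ({x, y} : Set G))} := by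
  refine ⟨fun h x => ⟨⊤, Set.eq_univ_of_forall (fun _ => mem_top _) |>.trans
    (Set.eq_univ_of_forall fun y => inferInstanceAs (Group.IsSolvable _)).symm⟩, fun h => ?_⟩
  refine solvable_of_min (P := fun G _ _ => ∀ x : G, ∃ H : Subgroup G,
      (H : Set G) = {y : G | Group.IsSolvable ↥(Subgroup.closure ({x, y} : Set G))})
    (fun G _ _ K h x => ?_) (fun G _ _ N _ hN h x => ?_) (fun G _ _ _ h hs => ?_) G h
  · obtain ⟨H, hH⟩ := h x
    refine ⟨H.subgroupOf K, Set.ext fun y => ?_⟩
    rw [SetLike.mem_coe, mem_subgroupOf, ← SetLike.mem_coe, hH]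
    refine ⟨fun k => solv_of_map K.subtype ?_ k, fun k => solv_map K.subtype k⟩
    rw [ker_subtype]
    infer_instance
  · obtain ⟨x, rfl⟩ := QuotientGroup.mk'_surjective N x
    obtain ⟨H, hH⟩ := h x
    refine ⟨H.map (QuotientGroup.mk' N), Set.ext fun y => ⟨?_, fun k => ?_⟩⟩
    · rintro ⟨y, hy, rfl⟩
      rw [hH] at hy
      exact solv_map _ hy
    · obtain ⟨y, rfl⟩ := QuotientGroup.mk'_surjective N y
      refine ⟨y, ?_, rfl⟩
      rw [hH]
      exact solv_of_map (QuotientGroup.mk' N) (by rwa [QuotientGroup.ker_mk']) k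
  · rcases Nat.even_or_odd (Nat.card G) with he | ho
    swap
    · exact feit_thompson G ho
    obtain ⟨t, -, ht⟩ := exists_mem_orderOf_eq_prime Nat.prime_two (H := (⊤ : Subgroup G))
      (by rw [card_top]; exact he.two_dvd)
    have ht1 : t ≠ 1 := by
      rintro rfl
      simp at ht
    have ht2 : ∀ g : G, g * t * g⁻¹ * (g * t * g⁻¹) = 1 := fun g => by
      have : t * t = 1 := by rw [← pow_two, ← ht, pow_orderOf_eq_one]
      calc _ = g * (t * t) * g⁻¹ := by group
        _ = 1 := by rw [this]; group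
    refine isSolvable_of_two_gen G fun x y => ?_
    obtain ⟨H, hH⟩ := h x
    have : H = ⊤ := eq_top_of_conj ht1 fun g => by
      obtain ⟨K, hK⟩ := h (g * t * g⁻¹)
      have hK2 : K = ⊤ := eq_top_of_conj ht1 fun g' => by
        rw [← SetLike.mem_coe, hK]
        exact dihedral (ht2 g) (ht2 g')
      have h3 : x ∈ (K : Set G) := hK2 ▸ mem_top x
      rw [hK] at h3
      rw [← SetLike.mem_coe, hH, Set.mem_setOf_eq, Set.pair_comm]
      exact h3
    have h3 : y ∈ (H : Set G) := this ▸ mem_top y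
    rwa [hH] at h3

end Cfsg.Agent.S4078
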