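import Cfsg.Statements.S4113
import Cfsg.Agent.H1.Basic
-- import your own Cfsg.Agent.* helpers here

set_option autoImplicit false
open Cfsg

namespace Cfsg.Agent.S4113

/-- Let G be a finite group, M ≤ N non-trivial proper normal subgroups, and H a subgroup with HM = G and H ∩ M = 1. Then every element of G outside N acts fixed-point-freely on M (C_G(x) ≤ N for every x ∈ M, x ≠ 1) if and only if H ∩ gHg⁻¹ ≤ H ∩ N for every g outside H, with H proper and non-trivial and H ∩ N proper in H. -/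
theorem result {G : Type*} [Group G] [Finite G] (N M : Subgroup G) [N.Normal] [M.Normal] (hMN : M ≤ N) (hM1 : M ≠ ⊥) (hN2 : N ≠ ⊤)
    (H : Subgroup G) (hHM : H ⊔ M = ⊤) (hHM' : H ⊓ M = ⊥) :
    (∀ x ∈ M, x ≠ 1 → Subgroup.centralizer ({x} : Set G) ≤ N) ↔
      (H ≠ ⊥ ∧ H ≠ ⊤ ∧ H ⊓ N < H ∧ ∀ g : G, g ∉ H → H ⊓ H.map (MulAut.conj g).toMonoidHom ≤ N) := by
  have hdec : ∀ g : G, ∃ m ∈ M, ∃ h ∈ H, m * h = g := by
    intro g
    have : g ∈ H ⊔ M := hHM ▸ Subgroup.mem_top g
    exact (H1.mem_sup_iff_of_le_normalizer'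
      (by rw [Subgroup.normalizer_eq_top]; exact le_top)).1 this
  have hbot : ∀ x, x ∈ H → x ∈ M → x = 1 := fun x h1 h2 => by
    have : x ∈ H ⊓ M := ⟨h1, h2⟩
    rwa [hHM', Subgroup.mem_bot] at this
  have hHN : ¬ H ≤ N := fun h => hN2 (top_le_iff.1 (hHM ▸ sup_le h hMN))
  constructor
  · intro h
    refine ⟨fun h1 => hHN (h1 ▸ bot_le), fun h1 => hM1 (by rw [← hHM', h1, top_inf_eq]),
      lt_of_le_of_ne inf_le_left (fun h1 => hHN (inf_eq_left.1 h1)), ?_⟩
    intro g hg x ⟨hx1, hx2⟩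
    obtain ⟨m, hm, k, hk, rfl⟩ := hdec g
    have hm1 : m ≠ 1 := by
      rintro rfl
      exact hg (by simpa using hk)
    apply h m hm hm1
    rw [Subgroup.mem_centralizer_singleton_iff]
    have h2 : (m * k)⁻¹ * x * (m * k) ∈ H := H1.mem_map_conj.1 hx2
    have h3 : m⁻¹ * x * m ∈ H := by
      have := H.mul_mem (H.mul_mem hk h2) (H.inv_mem hk)
      convert this using 1
      group
    have h4 : m⁻¹ * x * m * x⁻¹ = 1 := by
      apply hbot _ (H.mul_mem h3 (H.inv_mem hx1))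
      have := M.mul_mem (M.inv_mem hm) (Subgroup.Normal.conj_mem inferInstance m hm x)
      convert this using 1
      group
    calc x * m = m * (m⁻¹ * x * m * x⁻¹) * x := by group
      _ = m * x := by rw [h4, mul_one]
  · rintro ⟨-, -, -, h⟩ x hx hx1 c hc
    rw [Subgroup.mem_centralizer_singleton_iff] at hc
    obtain ⟨m, hm, k, hk, rfl⟩ := hdec c
    by_contra hcN
    have hkN : k ∉ N := fun hkN => hcN (N.mul_mem (hMN hm) hkN)
    -- k acts fixed-point-freely on M
    have hfpf : ∀ y ∈ M, k * y = y * k → y = 1 := by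
      intro y hy hky
      by_contra hy1
      have hyH : y ∉ H := fun hyH => hy1 (hbot y hyH hy)
      apply hkN
      apply h y hyH
      refine ⟨hk, H1.mem_map_conj.2 ?_⟩
      have : y⁻¹ * k * y = k := by rw [mul_assoc, hky]; group
      rw [this]; exact hk
    -- so y ↦ y k y⁻¹ k⁻¹ is a bijection of M
    let f : M → M := fun y => ⟨y * (k * (y : G)⁻¹ * k⁻¹), M.mul_mem y.2
      (Subgroup.Normal.conj_mem inferInstance _ (M.inv_mem y.2) k)⟩
    have hf : Function.Injective f := by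
      intro a b hab
      have h1 : (a : G) * (k * (a : G)⁻¹ * k⁻¹) = b * (k * (b : G)⁻¹ * k⁻¹) := congrArg Subtype.val hab
      have h2 := hfpf ((b : G)⁻¹ * a) (M.mul_mem (M.inv_mem b.2) a.2) (by
        calc k * ((b : G)⁻¹ * a) = (b : G)⁻¹ * (b * (k * (b : G)⁻¹ * k⁻¹)) * k * a := by group
          _ = (b : G)⁻¹ * (a * (k * (a : G)⁻¹ * k⁻¹)) * k * a := by rw [h1]
          _ = _ := by group)
      exact Subtype.ext (inv_mul_eq_one.1 h2).symm
    obtain ⟨y, hy⟩ := Finite.surjective_of_injective hf ⟨m, hm⟩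
    have hy' : (y : G) * (k * (y : G)⁻¹ * k⁻¹) = m := congrArg Subtype.val hy
    have h5 := hfpf ((y : G)⁻¹ * x * y) (M.mul_mem (M.mul_mem (M.inv_mem y.2) hx) y.2) (by
      calc k * ((y : G)⁻¹ * x * y) = (y : G)⁻¹ * (y * (k * (y : G)⁻¹ * k⁻¹) * k * x) * y := by group
        _ = (y : G)⁻¹ * (x * (y * (k * (y : G)⁻¹ * k⁻¹) * k)) * y := by rw [hy', hc]
        _ = _ := by group)
    apply hx1
    calc x = y * ((y : G)⁻¹ * x * y) * (y : G)⁻¹ := by group
      _ = 1 := by rw [h5]; group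

end Cfsg.Agent.S4113
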