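import Cfsg.Statements.S4118
import Cfsg.Agent.H6.TIHall
import Cfsg.Agent.H6.TIPartition
import Cfsg.Agent.H8.FCStruct
import Cfsg.Agent.H6.Burnside
import Cfsg.Agent.H4.FrobOrder
import Cfsg.Agent.H6.PowOrbit1
import Cfsg.Agent.H2.Radical
import Cfsg.Agent.H7.Comm
-- import your own Cfsg.Agent.* helpers here

set_option autoImplicit false
open Cfsg

namespace Cfsg.Agent.S4118

open Subgroup

theorem two_ne : (2 : ZMod 5) ≠ 0 := by decide

theorem two_sq_ne : (2 : ZMod 5) ^ 2 ≠ 1 := by decide

theorem isSolvable_mulAut {P : Type*} [Group P] [Finite P] (h : H8.AC P) {p : ℕ} (hp : p.Prime)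
    (hP : IsPGroup p P) : Group.IsSolvable (MulAut P) := by
  by_cases h2 : p = 2
  · subst h2
    rcases h.aut_two hP with h1 | ⟨⟨e⟩⟩
    · exact H1.isSolvable_of_isPGroup h1
    · exact H6.isSolvable_of_card_eq_pow_mul_pow (a := 3) (b := 1) Nat.prime_two Nat.prime_three
        (H8.card_mulAut_of_quat e)
  · have h1 := h.isCyclic_of_odd hp h2 (hP.to_subgroup ⊤)
    haveI : IsCyclic P := isCyclic_of_surjective _ topEquiv.surjective
    exact H4.isSolvable_mulAut_of_isCyclic P

theorem isSolvable_of_ac {X : Type*} [Group X] [Finite X] (K : Subgroup X) [K.Normal]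
    [Group.IsSolvable K] (h : H8.AC K) (hC : centralizer (K : Set X) ≤ K) : Group.IsSolvable X := by
  refine H6.isSolvable_of_forall_perfect fun D hD => ?_
  haveI : (fittingOf K).Normal := inferInstanceAs ((fittingSubgroup K).map K.subtype).Normal
  have h1 : D ≤ centralizer (fittingOf K : Set X) := by
    rw [le_centralizer_iff, H2.fittingOf_eq_iSup_pCoreOf, iSup_le_iff]
    intro p
    haveI := L.pCore_characteristic (G := K) p.2
    haveI : (pCoreOf p K).Normal := inferInstanceAs ((pCore p K).map K.subtype).Normal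
    haveI := isSolvable_mulAut (P := pCoreOf p K)
      (h.of_injective _ (inclusion_injective (map_subtype_le _))) p.2 ((L.isPGroup_pCore p).map _)
    rw [le_centralizer_iff]
    intro d hd v hv
    have h1 := congrArg Subtype.val (DFunLike.congr_fun
      (H6.le_ker_of_perfect (MulAut.conjNormal (H := pCoreOf p K)) hD hd) ⟨v, hv⟩)
    rw [MulAut.conjNormal_apply] at h1
    exact (mul_inv_eq_iff_eq_mul.1 h1).symm
  have h2 : ⁅⁅K, D⁆, D⁆ ≤ ⊥ := by
    rw [le_bot_iff, commutator_eq_bot_iff_le_centralizer]
    exact ((le_inf (commutator_le_left _ _) ((commutator_mono le_rfl h1).trans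
      (commutator_le_right _ _))).trans H2.inf_centralizer_fittingOf_le).trans
      (le_centralizer_iff.1 h1)
  have h3 := H7.three_subgroups D D K ⊥ (by rwa [commutator_comm D K]) h2
  rw [hD, le_bot_iff, commutator_eq_bot_iff_le_centralizer] at h3
  haveI := H1.isSolvable_of_le (h3.trans hC) inferInstance
  have h4 := H6.eq_bot_of_perfect (D := (⊤ : Subgroup D)) (map_injective D.subtype_injective (by
    rw [map_commutator, ← MonoidHom.range_eq_map, range_subtype, hD]))
  rw [← range_subtype D, MonoidHom.range_eq_map, h4, Subgroup.map_bot]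

/-- Let G be a finite group and H a non-normal subgroup meeting each of its conjugates by elements outside N_G(H) trivially, with the order of H coprime to its index in N_G(H); let π be the set of primes dividing the order of H and suppose G is π-separable (it has a chain of normal subgroups from 1 to G each of whose factors has order divisible only by primes in π or coprime to the order of H). Let O be the largest normal subgroup of G of order coprime to the order of H. Then G = O·N_G(H), O·H is normal in G, and G is solvable if and only if O is solvable and H has no subgroup isomorphic to SL₂(5). -/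
theorem result {G : Type*} [Group G] [Finite G] (H : Subgroup G)
    (hTI : Cfsg.IsTISubset (H : Set G)) (hnn : ¬ H.Normal)
    (hHall : (Nat.card H).Coprime (H.subgroupOf (Subgroup.normalizer (H : Set G))).index)
    (hsep : ∃ (n : ℕ) (M : Fin (n + 1) → Subgroup G), M 0 = ⊥ ∧ M (Fin.last n) = ⊤ ∧ Monotone M ∧ (∀ i, (M i).Normal) ∧
      ∀ i : Fin n, (∀ q : ℕ, q.Prime → q ∣ (M i.castSucc).relIndex (M i.succ) → q ∣ Nat.card H) ∨
        ((M i.castSucc).relIndex (M i.succ)).Coprime (Nat.card H))
    (O : Subgroup G) (hO : O = sSup {K : Subgroup G | K.Normal ∧ (Nat.card K).Coprime (Nat.card H)}) :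
    O ⊔ Subgroup.normalizer (H : Set G) = ⊤ ∧ (O ⊔ H).Normal ∧
    (Group.IsSolvable G ↔ Group.IsSolvable O ∧
      ∀ K : Subgroup G, K ≤ H → ¬ Nonempty (K ≃* Matrix.SpecialLinearGroup (Fin 2) (ZMod 5))) := by
  have hc : (Nat.card H).Coprime H.index := H6.coprime_index_of_TI hTI hHall
  have hH := H6.isPiHall_of_coprime hc
  have hs := H6.piSep_of_chain hsep
  have htop := H6.piCore_sup_normalizer_of_TI hTI hnn hH hs
  obtain rfl : O = piCore {q | q ∣ Nat.card H}ᶜ G := by
    rw [hO, piCore]
    congr 1
    ext K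
    exact and_congr_right fun _ => ⟨fun h p hp h1 h2 => hp.one_lt.ne'
      (Nat.eq_one_of_dvd_coprimes h h1 h2), fun h => Nat.coprime_of_dvd h⟩
  clear hO
  set O := piCore {q | q ∣ Nat.card H}ᶜ G with hO
  have hN : (O ⊔ H).Normal := by
    rw [← normalizer_eq_top_iff, eq_top_iff, ← htop]
    exact sup_le (le_sup_left.trans le_normalizer)
      (H1.le_normalizer_sup le_normalizer_of_normal le_rfl)
  refine ⟨htop, hN, fun h => ⟨inferInstance, fun K _ ⟨e⟩ => ?_⟩, fun ⟨h1, h2⟩ => ?_⟩
  · haveI := L.isSolvable_of_mulEquiv e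
    haveI : Fact (Nat.Prime 5) := ⟨by norm_num⟩
    have h1 := H6.eq_bot_of_perfect
      (Matrix.SL2.commutator_eq_top (F := ZMod 5) (a := 2) two_ne two_sq_ne)
    have h2 := H8.card_SL25
    rw [← card_top, h1, card_bot] at h2
    omega
  obtain ⟨V, _, _, _, φ, hφ⟩ := H6.exists_isFrobAction_of_centralizer_le (H := H) (N := O)
    le_normalizer_of_normal (L.IsPiSubgroup.coprime hH.1 (L.isPiSubgroup_piCore _))
    (fun h hh h1 => H6.piCore_inf_centralizer_le_of_TI hTI hH hh h1)
    (H6.not_piCore_le_centralizer_of_TI hTI hnn hH hs)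
  haveI : Nontrivial H := (nontrivial_iff_ne_bot H).2 fun h => hnn (h ▸ inferInstance)
  have hFC := H8.isFC_of_action hφ
  haveI : Group.IsSolvable H := by_contra fun h => by
    obtain ⟨f, hf, -⟩ := hFC.exists_SL25 h
    exact h2 (H.subtype.comp f).range (by rintro _ ⟨x, rfl⟩; exact (f x).2)
      ⟨(MonoidHom.ofInjective (f := H.subtype.comp f) (H.subtype_injective.comp hf)).symm⟩
  have hf := QuotientGroup.mk'_surjective O
  haveI : (H.map (QuotientGroup.mk' O)).Normal := by
    have := hN.map _ hf
    rwa [Subgroup.map_sup, (Subgroup.map_eq_bot_iff _).2 (QuotientGroup.ker_mk' O).ge,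
      bot_sup_eq] at this
  have h3 := H1.isPiHall_map_of_surjective hH hf
  have h4 : piCore {q | q ∣ Nat.card H} (G ⧸ O) = H.map (QuotientGroup.mk' O) := le_antisymm
    (H1.le_of_isPiHallOf_of_le_normalizer (H1.isPiHallOf_top_iff.2 h3) le_top
      (L.isPiSubgroup_piCore _) le_normalizer_of_normal) (L.le_piCore inferInstance h3.1)
  haveI := L.isSolvable_map H (QuotientGroup.mk' O)
  refine L.isSolvable_of_normal_of_quotient O h1 (isSolvable_of_ac (H.map (QuotientGroup.mk' O))
    (hFC.ac.of_injective (MulEquiv.ofBijective ((QuotientGroup.mk' O).subgroupMap H)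
      ⟨(injective_iff_map_eq_one _).2 fun x hx => ?_,
        (QuotientGroup.mk' O).subgroupMap_surjective H⟩).symm.toMonoidHom (MulEquiv.injective _))
    (h4 ▸ L.centralizer_piCore_le (hs.quotient O) (L.piCore_quotient_piCore _)))
  exact Subtype.ext (mem_bot.1 (H6.inf_piCore_eq_bot_of_hall hH ▸
    ⟨x.2, (QuotientGroup.eq_one_iff _).1 (congrArg Subtype.val hx)⟩))

end Cfsg.Agent.S4118
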