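import Cfsg.Statements.S4131
import Cfsg.Agent.P29.Main0
import Cfsg.Agent.P29.Ly
import Cfsg.Agent.P29.End
import Cfsg.Agent.P15.Main0
import Cfsg.Agent.P15.CLL
import Cfsg.Agent.P15.NM
import Cfsg.Agent.P15.B1
import Cfsg.Agent.P15.B2
import Cfsg.Agent.P15.Split
-- import your own Cfsg.Agent.* helpers here

set_option autoImplicit false
open Cfsg

namespace Cfsg.Agent.S4131

/-- Let G be a finite group and p the smallest prime dividing its order. Suppose p² does not divide the conjugacy class size of any element whose order is a power of a prime other than p. Then G has a normal p-complement; in particular G is solvable. -/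
theorem result {G : Type*} [Group G] [Finite G] (p : ℕ) [Fact p.Prime]
    (hp : p ∣ Nat.card G) (hmin : ∀ r : ℕ, r.Prime → r ∣ Nat.card G → p ≤ r)
    (h : ∀ x : G, (∃ (r : ℕ) (k : ℕ), r.Prime ∧ r ≠ p ∧ orderOf x = r ^ k) → ¬ p ^ 2 ∣ (Subgroup.centralizer ({x} : Set G)).index) :
    Cfsg.HasNormalPComplement p G ∧ Group.IsSolvable G := by
  exact P29.s4131 (P29.sim (P15.gw_of P15.cllStmt P15.nmStmt P15.b1Stmt P15.b2Stmt
    (P15.splitStmt P15.countStmt)) P29.lyStmt P29.endStmt) p hp hmin h

end Cfsg.Agent.S4131
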