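import Cfsg.Statements.S4132
import Cfsg.Agent.P29.Main0
import Cfsg.Agent.P29.Ly
import Cfsg.Agent.P29.End
import Cfsg.Agent.P15.Main0
import Cfsg.Agent.P15.CLL
import Cfsg.Agent.P15.NM
import Cfsg.Agent.P15.B1
import Cfsg.Agent.P15.B2
import Cfsg.Agent.P15.Split
-- import your own Cfsg.Agent.* helpers here

set_option autoImplicit false
open Cfsg

namespace Cfsg.Agent.S4132

/-- Let G be a finite group in which every element of prime-power order has a conjugacy class of square-free size. Then G is supersolvable, its third derived subgroup is trivial, G/F(G) is abelian of square-free exponent (a direct product of elementary abelian groups), and the derived subgroup of F(G) has square-free order. -/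
theorem result {G : Type*} [Group G] [Finite G]
    (h : ∀ x : G, (∃ (r : ℕ) (k : ℕ), r.Prime ∧ orderOf x = r ^ k) → Squarefree (Subgroup.centralizer ({x} : Set G)).index) :
    Cfsg.IsSupersolvable G ∧ derivedSeries G 3 = ⊥ ∧
    (∀ _h : (Cfsg.fittingSubgroup G).Normal, IsMulCommutative (G ⧸ Cfsg.fittingSubgroup G) ∧ Squarefree (Monoid.exponent (G ⧸ Cfsg.fittingSubgroup G))) ∧
    Squarefree (Nat.card (commutator ↥(Cfsg.fittingSubgroup G))) := by
  exact P29.s4132 (P29.solv_of_sq (P29.sim (P15.gw_of P15.cllStmt P15.nmStmt P15.b1Stmt P15.b2Stmt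
    (P15.splitStmt P15.countStmt)) P29.lyStmt P29.endStmt) h) h

end Cfsg.Agent.S4132
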