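import Cfsg.Statements.S4142
import Cfsg.Agent.H6.PiElem
import Cfsg.Agent.L.Cores
-- import your own Cfsg.Agent.* helpers here

set_option autoImplicit false
open Cfsg

namespace Cfsg.Agent.S4142

theorem aux {G : Type*} [Group G] [Finite G] (N : Subgroup G) [hN : N.Normal] (g : G) :
    (∀ n ∈ N, ∃ x : G, x * g * x⁻¹ = g * n) ↔
      Nat.card (Subgroup.centralizer ({g} : Set G)) =
        Nat.card (Subgroup.centralizer ({(QuotientGroup.mk g : G ⧸ N)} : Set (G ⧸ N))) := by
  set D := (Subgroup.centralizer ({(QuotientGroup.mk g : G ⧸ N)} : Set (G ⧸ N))).comap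
    (QuotientGroup.mk' N) with hD
  have hmem : ∀ x, x ∈ D ↔ g⁻¹ * (x * g * x⁻¹) ∈ N := by
    intro x
    rw [hD, Subgroup.mem_comap, Subgroup.mem_centralizer_singleton_iff, QuotientGroup.mk'_apply,
      ← QuotientGroup.eq, QuotientGroup.mk_mul, QuotientGroup.mk_mul, QuotientGroup.mk_inv,
      eq_mul_inv_iff_mul_eq, eq_comm]
  have h1 := H6.ncard_conj_orbit D g
  have hCD : Subgroup.centralizer ({g} : Set G) ≤ D := by
    intro x hx
    rw [hmem, Subgroup.mem_centralizer_singleton_iff.1 hx]
    simp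
  have h2 := H1.card_mul_relIndex hCD
  have h3 := L.card_comap_mk' N (Subgroup.centralizer ({(QuotientGroup.mk g : G ⧸ N)} : Set (G ⧸ N)))
  rw [← hD, ← h2, ← h1] at h3
  have hT : ((fun n => g * n) '' (N : Set G)).ncard = Nat.card N := by
    rw [Set.ncard_image_of_injective _ (mul_right_injective g)]
    rfl
  have hsub : {y : G | ∃ n ∈ D, n * g * n⁻¹ = y} ⊆ (fun n => g * n) '' (N : Set G) := by
    rintro _ ⟨d, hd, rfl⟩
    exact ⟨_, (hmem d).1 hd, by simp⟩
  constructor
  · intro h
    have h4 : {y : G | ∃ n ∈ D, n * g * n⁻¹ = y} = (fun n => g * n) '' (N : Set G) := by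
      refine hsub.antisymm ?_
      rintro _ ⟨n, hn, rfl⟩
      obtain ⟨x, hx⟩ := h n hn
      exact ⟨x, (hmem x).2 (by rw [hx]; simpa using hn), hx⟩
    rw [h4, hT] at h3
    exact Nat.eq_of_mul_eq_mul_right Nat.card_pos h3
  · intro h n hn
    rw [h] at h3
    have h4 := Set.eq_of_subset_of_ncard_le hsub
      (by rw [hT, Nat.eq_of_mul_eq_mul_left Nat.card_pos h3])
    have : g * n ∈ {y : G | ∃ n ∈ D, n * g * n⁻¹ = y} := h4 ▸ ⟨n, hn, rfl⟩
    obtain ⟨x, -, hx⟩ := this
    exact ⟨x, hx⟩

/-- Let G be a finite group and N a normal subgroup. Then the conjugacy class of every element g outside N is a union of cosets of N (gn is conjugate to g for all n ∈ N) if and only if for every g outside N the centralizer of g in G has the same order as the centralizer of gN in G/N. -/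
theorem result {G : Type*} [Group G] [Finite G] (N : Subgroup G) [N.Normal] :
    (∀ g : G, g ∉ N → ∀ n ∈ N, ∃ x : G, x * g * x⁻¹ = g * n) ↔
      ∀ g : G, g ∉ N → Nat.card (Subgroup.centralizer ({g} : Set G)) =
        Nat.card (Subgroup.centralizer ({(QuotientGroup.mk g : G ⧸ N)} : Set (G ⧸ N))) := by
  exact forall_congr' fun g => imp_congr_right fun _ => aux N g

end Cfsg.Agent.S4142
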