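import Cfsg.Statements.S4165
import Cfsg.Agent.P28.H

set_option autoImplicit false
open Cfsg

namespace Cfsg.Agent.S4165

open Subgroup Cfsg.Agent Cfsg.Agent.FT
open SemidirectProduct (inl inr inl_injective)

theorem main {X : Type*} [Group X] [Finite X] {G B : Subgroup X} {U V : Set X} (nrm : G.Normal)
    (top : G ⊔ B = ⊤) (cop : 𝐨(B).Coprime 𝐨(G)) (odd : Odd 𝐨(B))
    (cov : ∀ c, c ∈ U ∨ c ∈ V ↔ c ∈ G ⊓ 𝐂(B) ∧ c ∉ 𝐂(G))
    (cp : ∀ x ∈ U, ∀ y ∈ V, (𝐂[x].relIndex G).Coprime (𝐂[y].relIndex G))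
    (nU : U.Nonempty) (nV : V.Nonempty) : Group.IsSolvable G := by
  obtain ⟨m, hm, mx⟩ := Set.exists_max_image ((G ⊓ 𝐂(B) : Subgroup X) : Set X)
    (fun c => 𝐂[c].relIndex G) (Set.toFinite _) ⟨1, one_mem _⟩
  obtain ⟨x, hx⟩ := id nU
  rcases (cov m).2 ⟨hm, fun e => ((cov x).1 (.inl hx)).2 (by
    have h := mx x ((cov x).1 (.inl hx)).1
    simp only [relIndex_eq_one.2 (mem_cent_iff_cent1.1 e)] at h
    exact mem_cent_iff_cent1.2 (relIndex_eq_one.1 (le_antisymm h (H2.relIndex_pos _ _))))⟩ with r | r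
  · exact P28.Sp.solv ⟨nrm, top, cop, odd, fun c => or_comm.trans (cov c),
      fun x hx y hy => (cp y hy x hx).symm, nV, r, mx⟩
  · exact P28.Sp.solv ⟨nrm, top, cop, odd, cov, cp, nU, r, mx⟩

/-- Let the finite group A act on the finite group G by automorphisms with the orders of A and G coprime. Suppose the A-invariant conjugacy classes of G of size greater than 1 can be split into two non-empty families such that the size of any class in the first family is coprime to the size of any class in the second. Then G is solvable. -/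
theorem result {G A : Type*} [Group G] [Finite G] [Group A] [Finite A]
    [MulDistribMulAction A G] (hcop : (Nat.card A).Coprime (Nat.card G))
    (X Y : Set (ConjClasses G)) (hX : X.Nonempty) (hY : Y.Nonempty)
    (hcover : ∀ C : ConjClasses G, (1 < Nat.card C.carrier ∧ ∀ a : A, ∀ g ∈ C.carrier, a • g ∈ C.carrier) ↔ (C ∈ X ∨ C ∈ Y))
    (hsplit : ∀ C ∈ X, ∀ D ∈ Y, (Nat.card C.carrier).Coprime (Nat.card D.carrier)) :
    Group.IsSolvable G := by
  by_cases ev : 2 ∣ Nat.card G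
  swap
  · exact feit_thompson G (Nat.odd_iff.2 (by omega))
  have oA : Odd (Nat.card A) := Nat.coprime_two_right.1 (hcop.coprime_dvd_right ev)
  let φ := MulDistribMulAction.toMulAut A G
  have oB : Odd 𝐨(H1.sdR φ ⊤) := by rwa [H1.card_sdR_top]
  have sz : ∀ g : G, 𝐂[(inl g : G ⋊[φ] A)].relIndex (H1.sdL φ ⊤) =
      Nat.card (ConjClasses.mk g).carrier := fun g => by
    rw [← relIndex_comap, relIndex_top_right, Nat.card_coe_set_eq,
      show (ConjClasses.mk g).carrier = {x | IsConj g x} from Set.ext fun x =>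
        ConjClasses.mem_carrier_iff_mk_eq.trans (ConjClasses.mk_eq_mk_iff_isConj.trans isConj_comm),
      ← H6.index_centralizer_eq_ncard]
    congr 1
    ext x
    rw [mem_comap, mem_cent1, mem_cent1, ← map_mul, ← map_mul, inl_injective.eq_iff]
  have ne : ∀ Z : Set (ConjClasses G), Z.Nonempty → Z ⊆ X ∪ Y →
      {x : G ⋊[φ] A | x ∈ 𝐂(H1.sdR φ ⊤) ∧ ∃ g, inl g = x ∧ ConjClasses.mk g ∈ Z}.Nonempty := by
    rintro Z ⟨C, hC⟩ hZ
    obtain ⟨g, rfl⟩ := ConjClasses.mk_surjective C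
    obtain ⟨_, ⟨h, -, rfl⟩, e⟩ := H1.exists_conj_mem_centralizer (H1.sdR_le_normalizer_top ⊤)
      (H1.coprime_sd hcop) (.inl (P28.solv_odd oB)) (inl g : G ⋊[φ] A) (by
        rintro _ ⟨a, -, rfl⟩
        obtain ⟨h, e⟩ := isConj_iff.1 (ConjClasses.mk_eq_mk_iff_isConj.1
          (ConjClasses.mem_carrier_iff_mk_eq.1 (((hcover _).2 (hZ hC)).2 a g
            ConjClasses.mem_carrier_mk)).symm)
        exact ⟨inl h, ⟨h, trivial, rfl⟩, by
          rw [H1.inr_mul_inl_mul_inv, ← map_inv, ← map_mul, ← map_mul, e]; rfl⟩)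
    refine ⟨_, e, h * g * h⁻¹, by rw [map_mul, map_mul, map_inv], ?_⟩
    rwa [← ConjClasses.mk_eq_mk_iff_isConj.2 (isConj_iff.2 ⟨h, rfl⟩)]
  have := main (X := G ⋊[φ] A) inferInstance (by rw [sup_comm, H1.sdR_sup_sdL_top])
    (H1.coprime_sd hcop) oB (fun c => ?_) ?_ (ne X hX Set.subset_union_left)
    (ne Y hY Set.subset_union_right)
  · rw [isSolvable_map_iff inl_injective] at this
    exact L.isSolvable_of_mulEquiv (topEquiv (G := G))
  · have k : ∀ g : G, (inl g : G ⋊[φ] A) ∉ 𝐂(H1.sdL φ ⊤) ↔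
        1 < Nat.card (ConjClasses.mk g).carrier := fun g => by
      rw [mem_cent_iff_cent1, ← relIndex_eq_one, sz]
      have := H2.relIndex_pos 𝐂[(inl g : G ⋊[φ] A)] (H1.sdL φ ⊤)
      rw [sz] at this
      omega
    constructor
    · rintro (⟨h, g, rfl, e⟩ | ⟨h, g, rfl, e⟩)
      · exact ⟨⟨⟨g, trivial, rfl⟩, h⟩, (k g).2 ((hcover _).2 (.inl e)).1⟩
      · exact ⟨⟨⟨g, trivial, rfl⟩, h⟩, (k g).2 ((hcover _).2 (.inr e)).1⟩
    · rintro ⟨⟨⟨g, -, rfl⟩, h⟩, e⟩
      refine ((hcover _).1 ⟨(k g).1 e, fun a x hx => ?_⟩).imp (fun r => ⟨h, g, rfl, r⟩)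
        fun r => ⟨h, g, rfl, r⟩
      rw [ConjClasses.mem_carrier_iff_mk_eq, ConjClasses.mk_eq_mk_iff_isConj] at hx ⊢
      have := (φ a).toMonoidHom.map_isConj hx
      rwa [show (φ a).toMonoidHom g = g from H1.inl_mem_centralizer_sdR.1 h a trivial] at this
  · rintro _ ⟨-, x, rfl, hx⟩ _ ⟨-, y, rfl, hy⟩
    rw [sz, sz]
    exact hsplit _ hx _ hy

end Cfsg.Agent.S4165
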