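import Cfsg.Statements.S4274
import Cfsg.Agent.H8.PrimeSylowCount
import Cfsg.Agent.H9.SylowLines
import Cfsg.Agent.H5.Kegel
import Cfsg.Agent.H8.Frobenius

set_option autoImplicit false
open Cfsg

namespace Cfsg.Agent.S4274

def D : List ℕ := [1, 2, 4, 8].flatMap fun a => [1, 3].flatMap fun b => [1, 5].flatMap fun c =>
  [1, 7].flatMap fun e => [1, 11].flatMap fun f => [1, 19].map fun g => a * b * c * e * f * g

theorem mem_D {d : ℕ} (h : d ∣ 175560) : d ∈ D := by
  rw [show 175560 = 2 ^ 3 * 3 * 5 * 7 * 11 * 19 by norm_num] at h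
  simp only [Nat.dvd_mul] at h
  obtain ⟨_, g, ⟨_, f, ⟨_, e, ⟨_, c, ⟨a, b, ha, hb, rfl⟩, hc, rfl⟩, he, rfl⟩, hf, rfl⟩, hg, rfl⟩ := h
  obtain ⟨i, hi, rfl⟩ := (Nat.dvd_prime_pow Nat.prime_two).1 ha
  rw [Nat.dvd_prime (by norm_num)] at hb hc he hf hg
  simp only [D, List.mem_flatMap, List.mem_map, List.mem_cons, List.not_mem_nil, or_false]
  refine ⟨2 ^ i, ?_, b, hb, c, hc, e, he, f, hf, g, hg, rfl⟩
  interval_cases i <;> simp

def opts (d r : ℕ) : List (ℕ × ℕ × ℕ) :=
  if r ∣ d then (D.filter fun n => n % r = 1 ∧ 19 ≤ n).flatMap fun n =>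
    ((List.range r).filter fun k => 1 < k ∧ k ∣ r - 1 ∧ n * k * r ∣ d).map fun k => (r, n, k)
  else [(r, 0, 0)]

def cc (d : ℕ) (t : ℕ × ℕ × ℕ) : ℕ := d / (t.2.1 * t.2.2)

def Cond (d : ℕ) (L : List (ℕ × ℕ × ℕ)) (x : ℕ × ℕ × ℕ) : Prop :=
  (∀ t ∈ L, ∀ u ∈ L, t.1 ≠ u.1 → t.1 ∣ d → u.1 ∣ cc d t → t.1 ∣ cc d u) ∧
  (∀ q ∈ [2, 3, 5, 7, 11], q ∣ cc d x → ∃ f < x.2.1, f % 19 = 1 ∧ q ∣ x.2.1 - f) ∧
  (x.2.1 = 20 → ¬ 2 ∣ x.2.2) ∧
  ∀ S ∈ [3, 5, 7, 11, 19].sublists,
    (∀ t ∈ L, ∀ s ∈ S, t.1 ∈ S → t.1 ≠ s → t.1 ∣ d → ¬ s ∣ cc d t) →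
    (L.map fun t => if t.1 ∣ d then if t.1 ∈ S then t.2.1 * (cc d t - cc d t / t.1)
      else t.2.1 * (t.1 - 1) else 0).sum ≤ d

instance decCond (d : ℕ) (L : List (ℕ × ℕ × ℕ)) (x : ℕ × ℕ × ℕ) : Decidable (Cond d L x) := by
  unfold Cond; infer_instance

theorem numeric : ∀ d ∈ D, d ≠ 175560 → 19 ∣ d → ∀ x ∈ opts d 19, ∀ a ∈ opts d 11, ∀ b ∈ opts d 7,
    ∀ c ∈ opts d 5, ∀ e ∈ opts d 3, ¬ Cond d [e, c, b, a, x] x := by
  decide +kernel

theorem small : ∀ m ∈ D, ¬ 19 ∣ m → (∀ a ∈ [2, 3, 5, 7, 11], ∀ b ∈ [2, 3, 5, 7, 11], a ∣ m → b ∣ m →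
    a = b) → m < 19 := by
  decide +kernel

open Subgroup MulAction in
theorem simple_case {S : Type*} [Group S] [Finite S] [IsSimpleGroup S] (hS : ¬ IsMulCommutative S)
    (hd : Nat.card S ∣ 175560) (hne : Nat.card S ≠ 175560) (h19 : 19 ∣ Nat.card S) : False := by
  set d := Nat.card S with hddef
  let R : ∀ r : ℕ, Sylow r S := fun r => Classical.arbitrary _
  let tr : ℕ → ℕ × ℕ × ℕ := fun r => if r ∣ d then (r, Nat.card (Sylow r S),
    (centralizer ((R r : Subgroup S) : Set S)).relIndex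
      (normalizer ((R r : Subgroup S) : Set S))) else (r, 0, 0)
  have htr1 : ∀ r, (tr r).1 = r := fun r => by simp only [tr]; split_ifs <;> rfl
  have hP : ∀ r ∈ [3, 5, 7, 11, 19], r.Prime ∧ ¬ r ^ 2 ∣ d := by
    intro r hr
    simp only [List.mem_cons, List.not_mem_nil, or_false] at hr
    refine ⟨?_, fun h => ?_⟩
    · rcases hr with rfl | rfl | rfl | rfl | rfl <;> norm_num
    · have := h.trans hd
      rcases hr with rfl | rfl | rfl | rfl | rfl <;> norm_num at this
  have hR : ∀ r ∈ [3, 5, 7, 11, 19], r ∣ d → Nat.card (R r) = r := fun r hr h => by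
    have := Fact.mk (hP r hr).1
    exact H9.card_sylow_eq_of_not_sq_dvd (R r) h (hP r hr).2
  have hmul : ∀ r ∈ [3, 5, 7, 11, 19], r ∣ d → (tr r).2.1 * (tr r).2.2 *
      Nat.card (centralizer ((R r : Subgroup S) : Set S)) = d := fun r hr h => by
    have := Fact.mk (hP r hr).1
    simp only [tr, if_pos h]
    rw [(R r).card_eq_index_normalizer, mul_assoc, mul_comm (relIndex _ _),
      H1.card_mul_relIndex (centralizer_le_normalizer _), mul_comm]
    exact card_mul_index _
  have hd0 : d ≠ 0 := Nat.card_pos.ne'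
  have hcc : ∀ r ∈ [3, 5, 7, 11, 19], r ∣ d →
      cc d (tr r) = Nat.card (centralizer ((R r : Subgroup S) : Set S)) := fun r hr h => by
    have h1 := hmul r hr h
    unfold cc
    nth_rewrite 1 [← h1]
    exact Nat.mul_div_cancel_left _ (Nat.pos_of_ne_zero fun h0 => hd0 (by rw [← h1, h0, zero_mul]))
  have hfaith : ∀ r ∈ [3, 5, 7, 11, 19], r ∣ d → FaithfulSMul S (Sylow r S) := fun r hr h => by
    have := Fact.mk (hP r hr).1
    exact H9.faithfulSMul_sylow (H9.card_sylow_ne_one_of_simple hS h)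
  have hopt : ∀ r ∈ [3, 5, 7, 11, 19], tr r ∈ opts d r := by
    intro r hr
    by_cases h : r ∣ d
    · have := Fact.mk (hP r hr).1
      have h1 := hmul r hr h
      obtain ⟨k, hk1, hk2, hk3, -⟩ := H9.exists_card_normalizer_eq_of_simple hS (R r) (hR r hr h)
      simp only [tr, if_pos h] at h1 ⊢
      simp only [opts, if_pos h, List.mem_flatMap, List.mem_filter, List.mem_map, List.mem_range,
        decide_eq_true_eq]
      have h2 := (hP r hr).1.two_le
      have h3 := Nat.le_of_dvd (by omega) hk1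
      have h4 : k ≠ 0 := by rintro rfl; rw [zero_dvd_iff] at hk1; omega
      refine ⟨_, ⟨mem_D ((Dvd.intro _ ((mul_assoc _ _ _).symm.trans h1)).trans hd), ?_, ?_⟩, k,
        ⟨by omega, by omega, hk1, ?_⟩, by rw [hk3]⟩
      · have := card_sylow_modEq_one r S
        rwa [Nat.ModEq, Nat.mod_eq_of_lt (hP r hr).1.one_lt] at this
      · have := hfaith r hr h
        have h5 := card_dvd_of_injective (toPermHom S (Sylow r S)) toPerm_injective
        rw [Nat.card_perm] at h5
        exact (Nat.Prime.dvd_factorial (by norm_num)).1 (h19.trans h5)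
      · rw [← h1, hk3]
        refine Nat.mul_dvd_mul_left _ ?_
        have : IsCyclic (R r : Subgroup S) := isCyclic_of_prime_card (hR r hr h)
        nth_rewrite 1 [← hR r hr h]
        exact card_dvd_of_le (le_centralizer _)
    · simp [tr, opts, h]
  have hL : ∀ t ∈ [tr 3, tr 5, tr 7, tr 11, tr 19], ∃ r ∈ [3, 5, 7, 11, 19], t = tr r := by simp
  have : Fact (Nat.Prime 19) := ⟨by norm_num⟩
  have hR19 := hR 19 (by simp) h19
  have hf19 := hfaith 19 (by simp) h19
  obtain ⟨c, hc⟩ := exists_prime_orderOf_dvd_card' (G := R 19) 19 hR19.symm.dvd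
  have hc' : orderOf (c : S) = 19 ^ 1 := by rw [orderOf_coe, hc, pow_one]
  have hc1 : (c : S) ≠ 1 := by
    intro h; rw [h, orderOf_one] at hc'; omega
  have hfix := H9.fixedBy_sylow_eq_singleton (R 19) hR19 c.2 hc1
  have hF : ∀ q : ℕ, q.Prime → q ∣ Nat.card (centralizer ((R 19 : Subgroup S) : Set S)) →
      ∃ f < Nat.card (Sylow 19 S), f % 19 = 1 ∧ q ∣ Nat.card (Sylow 19 S) - f := by
    intro q hq hd
    have : Fact q.Prime := ⟨hq⟩
    obtain ⟨w, hw⟩ := exists_prime_orderOf_dvd_card' q hd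
    have hw' : orderOf (w : S) = q ^ 1 := by rw [orderOf_coe, hw, pow_one]
    have hw1 : (w : S) ≠ 1 := by
      intro h; rw [h, orderOf_one, pow_one] at hw'; exact hq.one_lt.ne hw'
    have hcomm : Commute (w : S) c := (w.2 c c.2).symm
    have h1 := H9.ncard_fixedBy_modEq_of_commute (Ω := Sylow 19 S) hc' hcomm
    have h2 : fixedBy (Sylow 19 S) (w : S) ∩ fixedBy (Sylow 19 S) (c : S) = {R 19} := by
      rw [hfix, Set.inter_eq_right, Set.singleton_subset_iff, mem_fixedBy,
        Sylow.smul_eq_iff_mem_normalizer]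
      exact centralizer_le_normalizer _ w.2
    rw [h2, Set.ncard_singleton] at h1
    have h3 := H9.ncard_fixedBy_lt (Ω := Sylow 19 S) hw1
    exact ⟨_, h3, h1, (Nat.modEq_iff_dvd' h3.le).1
      (H9.card_modEq_ncard_fixedBy (Ω := Sylow 19 S) hw').symm⟩
  refine numeric d (mem_D hd) hne h19 _ (hopt 19 (by simp)) _ (hopt 11 (by simp)) _
    (hopt 7 (by simp)) _ (hopt 5 (by simp)) _ (hopt 3 (by simp)) ⟨?_, ?_, ?_, ?_⟩
  · intro t ht u hu h1 h2 h3
    obtain ⟨r, hr, rfl⟩ := hL t ht
    obtain ⟨s, hs, rfl⟩ := hL u hu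
    rw [htr1] at h2 h3 ⊢
    rw [hcc r hr h2] at h3
    have h4 : s ∣ d := h3.trans (card_subgroup_dvd_card _)
    rw [hcc s hs h4]
    have := Fact.mk (hP r hr).1
    have := Fact.mk (hP s hs).1
    obtain ⟨w, hw⟩ := exists_prime_orderOf_dvd_card' s h3
    obtain ⟨y, hy⟩ := exists_prime_orderOf_dvd_card' (G := R r) r (hR r hr h2).symm.dvd
    have := H8.dvd_card_centralizer_of_commute (R s) (hR s hs h4) (y := (w : S)) (z := (y : S))
      (by rw [orderOf_coe, hw]) (w.2 y y.2).symm
    rwa [orderOf_coe, hy] at this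
  · intro q hq h
    rw [hcc 19 (by simp) h19] at h
    simp only [tr, if_pos h19]
    refine hF q ?_ h
    simp only [List.mem_cons, List.not_mem_nil, or_false] at hq
    rcases hq with rfl | rfl | rfl | rfl | rfl <;> norm_num
  · simp only [tr, if_pos h19]
    intro h20 h2
    have h3 : 2 ∣ Nat.card (normalizer ((R 19 : Subgroup S) : Set S)) := by
      rw [← H1.card_mul_relIndex (centralizer_le_normalizer _)]
      exact h2.mul_left _
    obtain ⟨t, ht⟩ := exists_prime_orderOf_dvd_card' 2 h3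
    have ht' : orderOf (t : S) = 2 := by rw [orderOf_coe, ht]
    have h4 : (t : S) ∉ centralizer ((R 19 : Subgroup S) : Set S) := by
      intro h
      obtain ⟨f, a1, a2, a3⟩ := hF 2 Nat.prime_two (ht' ▸ Subgroup.orderOf_dvd_natCard _ h)
      omega
    have h5 := H9.ncard_mul_card_le (Ω := Sylow 19 S) (R := R 19) t.2 (by
      intro u hu he
      by_contra hu1
      apply h4
      have h6 : (R 19 : Subgroup S) ≤ zpowers u := by
        intro v hv
        obtain ⟨i, hi⟩ := mem_zpowers_of_prime_card hR19 (g := ⟨u, hu⟩)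
          (fun h => hu1 (congrArg Subtype.val h)) (g' := ⟨v, hv⟩)
        exact ⟨i, congrArg Subtype.val hi⟩
      intro v hv
      obtain ⟨i, rfl⟩ := h6 hv
      exact (Commute.zpow_right (mul_inv_eq_iff_eq_mul.1 he) i).symm)
      (fixedBy (Sylow 19 S) (t : S) \ {R 19}) (fun a ha => ha.1) (by
        intro a ha u hu he
        by_contra hu1
        apply ha.2
        rw [← H9.fixedBy_sylow_eq_singleton (R 19) hR19 hu hu1]
        exact he)
    have h6 : R 19 ∈ fixedBy (Sylow 19 S) (t : S) := Sylow.smul_eq_iff_mem_normalizer.2 t.2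
    have h7 := H9.four_dvd_of_sq_eq_one (Ω := Sylow 19 S) (H9.commutator_eq_top_of_simple hS)
      (t := (t : S)) (by rw [← ht', pow_orderOf_eq_one])
    have h8 := (Set.ncard_pos).2 ⟨_, h6⟩
    rw [Set.ncard_sdiff_singleton_of_mem h6, hR19, h20] at h5
    rw [h20] at h7
    omega
  · intro T hT h
    have hTs := List.mem_sublists.1 hT
    let Y : ℕ → Set S := fun r => if r ∣ d then
      if r ∈ T then {x | r ∣ orderOf x} else {x | orderOf x = r} else ∅
    have h1 := H8.sum_ncard_le_of_disjoint [3, 5, 7, 11, 19].toFinset Y (Z := Set.univ) (by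
      intro r hr s hs hrs
      rw [List.mem_toFinset] at hr hs
      have := Fact.mk (hP r hr).1
      have := Fact.mk (hP s hs).1
      have hc := (Nat.coprime_primes (hP r hr).1 (hP s hs).1).2 hrs
      rw [Set.disjoint_left]
      intro x hx hx'
      simp only [Y] at hx hx'
      split_ifs at hx hx' with a1 a2 a3 a4 a5 a6
      · apply h (tr r) (by
          simp only [List.mem_cons, List.not_mem_nil, or_false] at hr ⊢
          rcases hr with rfl | rfl | rfl | rfl | rfl <;> simp) s a4 (by rwa [htr1])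
          (by rwa [htr1]) (by rwa [htr1])
        rw [hcc r hr a1]
        have := H8.dvd_card_centralizer_of_commute (R r) (hR r hr a1)
          (orderOf_pow_orderOf_div (orderOf_pos x).ne' hx)
          (Commute.pow_pow_self x _ (orderOf x / s))
        rwa [orderOf_pow_orderOf_div (orderOf_pos x).ne' hx'] at this
      · exact (hP r hr).1.ne_one (hc.eq_one_of_dvd (hx' ▸ hx))
      · exact hx'
      · exact (hP s hs).1.ne_one (hc.symm.eq_one_of_dvd (hx ▸ hx'))
      · exact hrs (hx.symm.trans hx')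
      · exact hx'
      all_goals exact hx) (fun _ _ => Set.subset_univ _)
    have h2 : ∀ r ∈ [3, 5, 7, 11, 19], (if (tr r).1 ∣ d then if (tr r).1 ∈ T then
        (tr r).2.1 * (cc d (tr r) - cc d (tr r) / (tr r).1) else (tr r).2.1 * ((tr r).1 - 1)
        else 0) ≤ (Y r).ncard := by
      intro r hr
      have := Fact.mk (hP r hr).1
      simp only [htr1, Y]
      split_ifs with a1 a2
      · rw [hcc r hr a1]
        simp only [tr, if_pos a1]
        exact H8.mul_le_ncard_dvd_orderOf (R r) (hR r hr a1)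
      · simp only [tr, if_pos a1]
        exact H8.mul_le_ncard_orderOf_eq (R r) (hR r hr a1)
      · exact Nat.zero_le _
    rw [List.sum_toFinset _ (by simp), Set.ncard_univ] at h1
    have e3 := h2 3 (by simp)
    have e5 := h2 5 (by simp)
    have e7 := h2 7 (by simp)
    have e11 := h2 11 (by simp)
    have e19 := h2 19 (by simp)
    simp only [List.map_cons, List.map_nil, List.sum_cons, List.sum_nil] at h1 ⊢
    omega

universe u in
open Subgroup in
theorem main {G : Type u} [Group G] [Finite G] (hd : Nat.card G ∣ 175560)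
    (h : IsSimpleGroup G → Nat.card G ≠ 175560) (P : Sylow 19 G) : (P : Subgroup G).Normal := by
  have : Fact (Nat.Prime 19) := ⟨by norm_num⟩
  induction hn : Nat.card G using Nat.strong_induction_on generalizing G with
  | _ n ih =>
  subst hn
  by_cases h19 : 19 ∣ Nat.card G
  swap
  · have : (P : Subgroup G) = ⊥ := by
      rw [← card_eq_one, P.card_eq_multiplicity, Nat.factorization_eq_zero_of_not_dvd h19, pow_zero]
    rw [this]; infer_instance
  by_cases hab : IsMulCommutative G
  · exact ⟨fun x hx g => by rwa [hab.is_comm.comm g x, mul_inv_cancel_right]⟩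
  by_cases hs : IsSimpleGroup G
  · exact (simple_case hab hd (h hs) h19).elim
  have : Nontrivial G := by
    rcases subsingleton_or_nontrivial G with h | h
    · exact absurd ⟨⟨fun a b => Subsingleton.elim _ _⟩⟩ hab
    · exact h
  obtain ⟨N, hN, h1, h2⟩ : ∃ N : Subgroup G, N.Normal ∧ N ≠ ⊥ ∧ N ≠ ⊤ := by
    by_contra hc
    push Not at hc
    exact hs ⟨fun N hN => or_iff_not_imp_left.2 (hc N hN)⟩
  have hle := Nat.le_of_dvd (by norm_num) hd
  have hP : Nat.card P = 19 := H9.card_sylow_eq_of_not_sq_dvd P h19 (fun h => by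
    have := h.trans hd
    norm_num at this)
  have hlt1 : Nat.card N < Nat.card G := by
    have := H8.card_lt_of_lt (lt_top_iff_ne_top.2 h2)
    rwa [card_top] at this
  have hlt2 : Nat.card (G ⧸ N) < Nat.card G := by
    have h3 := N.card_mul_index
    have h4 : 1 < Nat.card N := (one_lt_card_iff_ne_bot N).2 h1
    have h5 : 0 < N.index := Nat.pos_of_ne_zero index_ne_zero_of_finite
    change N.index < _
    nlinarith
  by_cases hN19 : 19 ∣ Nat.card N
  · obtain ⟨Q, hQ⟩ := H8.exists_sylow_eq_subgroupOf P N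
    have hQn := ih _ hlt1 ((card_subgroup_dvd_card N).trans hd) (fun _ => by omega) Q rfl
    have := Q.characteristic_of_normal hQn
    have h3 : ((Q : Subgroup N).map N.subtype).Normal := inferInstance
    have h4 : (Q : Subgroup N).map N.subtype = P := by
      apply eq_of_le_of_card_ge
      · rw [hQ, subgroupOf_map_subtype]; exact inf_le_left
      · rw [card_map_of_injective N.subtype_injective, hP]
        exact Nat.le_of_dvd Nat.card_pos (Q.dvd_card_of_dvd_card hN19)
    rwa [h4] at h3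
  have hPc : IsCyclic (P : Subgroup G) := isCyclic_of_prime_card hP
  have h3 : N ≤ centralizer ((P : Subgroup G) : Set G) := by
    refine H5.le_of_forall_prime_exists fun q hq => ?_
    have := Fact.mk hq
    obtain ⟨R, hRN, hR, hRi, hPR⟩ := H1.exists_invariant_sylow (A := (P : Subgroup G)) (G := N)
      le_normalizer_of_normal (by
        rw [hP]; exact (Nat.Prime.coprime_iff_not_dvd (by norm_num)).2 hN19)
      (Or.inl inferInstance) q
    refine ⟨R, le_centralizer_iff.1 fun u hu => ?_, hRi⟩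
    have h4 : Nat.card R < 19 := by
      obtain ⟨j, hj⟩ := IsPGroup.iff_card.1 hR
      have h5 := mem_D ((card_subgroup_dvd_card R).trans hd)
      have h6 : ¬ 19 ∣ Nat.card R := fun h => hN19 (h.trans (card_dvd_of_le hRN))
      have h7 : ∀ a ∈ [2, 3, 5, 7, 11], ∀ b ∈ [2, 3, 5, 7, 11], a ∣ Nat.card R → b ∣ Nat.card R →
          a = b := by
        have h8 : ∀ a ∈ [2, 3, 5, 7, 11], a ∣ Nat.card R → a = q := by
          intro a ha h
          have h9 : a.Prime := by
            simp only [List.mem_cons, List.not_mem_nil, or_false] at ha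
            rcases ha with rfl | rfl | rfl | rfl | rfl <;> norm_num
          exact (Nat.prime_dvd_prime_iff_eq h9 hq).1 (h9.dvd_of_dvd_pow (hj ▸ h))
        intro a ha b hb h h'
        rw [h8 a ha h, h8 b hb h']
      exact small _ h5 h6 h7
    refine H9.mem_centralizer_of_coprime_relIndex (hPR hu) ?_
    have h5 := Subgroup.orderOf_dvd_natCard (P : Subgroup G) hu
    rw [hP] at h5
    refine Nat.Coprime.coprime_dvd_left h5 ((Nat.Prime.coprime_iff_not_dvd (by norm_num)).2 ?_)
    intro h6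
    have key := card_dvd_of_injective _ (QuotientGroup.kerLift_injective R.normalizerMonoidHom)
    rw [normalizerMonoidHom_ker, ← index, ← relIndex] at key
    have h7 := card_dvd_of_injective (MulAut.toPerm R) (fun a b h => MulEquiv.toEquiv_injective h)
    rw [Nat.card_perm] at h7
    have := (Nat.Prime.dvd_factorial (by norm_num)).1 ((h6.trans key).trans h7)
    omega
  have h4 := ih _ hlt2 ((card_quotient_dvd_card N).trans hd) (fun _ => by omega)
    (P.mapSurjective (QuotientGroup.mk'_surjective N)) rfl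
  refine ⟨fun x hx g => ?_⟩
  have h5 := h4.conj_mem _ (mem_map_of_mem (QuotientGroup.mk' N) hx) (QuotientGroup.mk' N g)
  rw [← map_inv, ← map_mul, ← map_mul, Sylow.coe_mapSurjective, ← mem_comap, comap_map_eq,
    QuotientGroup.ker_mk'] at h5
  obtain ⟨k, hk⟩ := H8.exists_orderOf_eq_pow_of_mem P.isPGroup' hx
  exact H9.mem_sylow_of_mem_normalizer P (k := k) (by
    rw [← hk]; exact (MulAut.conj g).orderOf_eq x)
    (centralizer_le_normalizer _ (sup_le (le_centralizer _) h3 h5))

/-- A finite group of order 175560 = 2³·3·5·7·11·19 is either simple or has a normal Sylow 19-subgroup. -/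
theorem result {G : Type*} [Group G] [Finite G] (hG : Nat.card G = 175560) : IsSimpleGroup G ∨ ∀ P : Sylow 19 G, (P : Subgroup G).Normal := by
  by_cases h : IsSimpleGroup G
  · exact Or.inl h
  · exact Or.inr (main hG.dvd fun h' => absurd h' h)

end Cfsg.Agent.S4274
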