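import Cfsg.Statements.S4298
import Cfsg.Agent.H9.FrobExamples

set_option autoImplicit false
open Cfsg

namespace Cfsg.Agent.S4298

def tab : List (ZMod 5 × ZMod 5 × ZMod 5 × ZMod 5) :=
  [(0, 0, 0, 0), (0, 0, 0, 0), (0, 0, 0, 0), (0, 0, 0, 0), (0, 0, 0, 0), (0, 0, 0, 0), (0, 0, 0, 0), (0, 0, 0, 0), (0, 0, 0, 0), (0, 0, 0, 0), (0, 0, 0, 0), (0, 0, 0, 0), (0, 0, 0, 0), (0, 0, 0, 0), (0, 0, 0, 0), (3, 0, 1, 2), (2, 2, 1, 4), (0, 3, 3, 4), (0, 0, 0, 0), (0, 0, 0, 0), (0, 0, 0, 0), (2, 0, 4, 3), (0, 2, 2, 1), (3, 3, 4, 1), (0, 0, 0, 0), (0, 0, 0, 0), (0, 0, 0, 0), (0, 0, 0, 0), (1, 0, 0, 1), (0, 0, 0, 0), (0, 0, 0, 0), (2, 1, 3, 2), (0, 0, 0, 0), (0, 0, 0, 0), (2, 4, 2, 2), (0, 0, 0, 0), (0, 0, 0, 0), (0, 1, 4, 4), (0, 0, 0, 0), (0, 0, 0, 0), (0, 0, 0, 0), (4, 1, 3, 1), (1, 3, 3, 0), (0, 0, 0, 0), (0, 0, 0, 0), (0, 0, 0, 0), (4, 4, 1, 0), (0, 0,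 0, 0), (4, 3, 4, 2), (0, 0, 0, 0), (0, 0, 0, 0), (0, 0, 0, 0), (0, 0, 0, 0), (2, 3, 0, 3), (0, 0, 0, 0), (0, 0, 0, 0), (4, 0, 0, 4), (0, 0, 0, 0), (0, 0, 0, 0), (3, 1, 3, 3), (0, 0, 0, 0), (0, 0, 0, 0), (3, 4, 2, 3), (0, 0, 0, 0), (0, 0, 0, 0), (1, 1, 4, 0), (0, 0, 0, 0), (3, 2, 0, 2), (0, 0, 0, 0), (1, 2, 1, 3), (0, 0, 0, 0), (0, 0, 0, 0), (0, 0, 0, 0), (0, 0, 0, 0), (0, 4, 1, 1), (4, 2, 2, 0), (0, 0, 0, 0), (0, 0, 0, 0), (0, 0, 0, 0), (1, 4, 2, 4), (0, 0, 0, 0)]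

def f (a b c d : ZMod 3) : ZMod 5 × ZMod 5 × ZMod 5 × ZMod 5 :=
  tab.getD (27 * a.val + 9 * b.val + 3 * c.val + d.val) (0, 0, 0, 0)

def mul4 (x y : ZMod 5 × ZMod 5 × ZMod 5 × ZMod 5) : ZMod 5 × ZMod 5 × ZMod 5 × ZMod 5 :=
  (x.1 * y.1 + x.2.1 * y.2.2.1, x.1 * y.2.1 + x.2.1 * y.2.2.2,
    x.2.2.1 * y.1 + x.2.2.2 * y.2.2.1, x.2.2.1 * y.2.1 + x.2.2.2 * y.2.2.2)

def toM (x : ZMod 5 × ZMod 5 × ZMod 5 × ZMod 5) : Matrix (Fin 2) (Fin 2) (ZMod 5) :=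
  !![x.1, x.2.1; x.2.2.1, x.2.2.2]

theorem toM_mul (x y : ZMod 5 × ZMod 5 × ZMod 5 × ZMod 5) : toM (mul4 x y) = toM x * toM y := by
  simp [toM, mul4]

theorem f_mul : ∀ a b c d : ZMod 3, a * d - b * c = 1 → ∀ a' b' c' d' : ZMod 3,
    a' * d' - b' * c' = 1 →
    f (a * a' + b * c') (a * b' + b * d') (c * a' + d * c') (c * b' + d * d') =
      mul4 (f a b c d) (f a' b' c' d') := by
  decide +kernel

set_option synthInstance.maxSize 1024 in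
theorem f_fpf : ∀ a b c d : ZMod 3, a * d - b * c = 1 → ∀ u v : ZMod 5,
    (f a b c d).1 * u + (f a b c d).2.1 * v = u →
    (f a b c d).2.2.1 * u + (f a b c d).2.2.2 * v = v →
    (a = 1 ∧ b = 0 ∧ c = 0 ∧ d = 1) ∨ (u = 0 ∧ v = 0) := by
  decide +kernel

def ρ : Matrix.SpecialLinearGroup (Fin 2) (ZMod 3) →* Matrix (Fin 2) (Fin 2) (ZMod 5) where
  toFun g := toM (f (g.1 0 0) (g.1 0 1) (g.1 1 0) (g.1 1 1))
  map_one' := by
    change toM (f 1 0 0 1) = 1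
    rw [show f 1 0 0 1 = (1, 0, 0, 1) by decide +kernel, Matrix.one_fin_two]
    rfl
  map_mul' g h := by
    have hg := g.2
    have hh := h.2
    rw [Matrix.det_fin_two] at hg hh
    rw [← toM_mul, ← f_mul _ _ _ _ hg _ _ _ _ hh]
    simp [Matrix.mul_apply, Fin.sum_univ_two]

/-- The group SL(2,3) of order 24 (the binary tetrahedral group) occurs as a Frobenius complement of some finite Frobenius group. -/
theorem result :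
    ∃ (L : Type) (_ : Group L) (_ : Finite L) (H : Subgroup L), Cfsg.IsFrobeniusComplement H ∧ Nonempty (H ≃* Matrix.SpecialLinearGroup (Fin 2) (ZMod 3)) := by
  have : Fact (Nat.Prime 5) := ⟨by norm_num⟩
  have : Fact (Nat.Prime 3) := ⟨by norm_num⟩
  have : Nontrivial (Matrix.SpecialLinearGroup (Fin 2) (ZMod 3)) :=
    ⟨⟨1, ⟨!![1, 1; 0, 1], by simp⟩, fun h => by
      have := congrArg (fun g : Matrix.SpecialLinearGroup (Fin 2) (ZMod 3) => g.1 0 1) h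
      simp at this⟩⟩
  obtain ⟨L, _, _, H, a1, a2, -⟩ := H9.exists_frob_of_matrix ρ (by
    intro g hg v hv
    have hd := g.2
    rw [Matrix.det_fin_two] at hd
    have c0 := congrFun hv 0
    have c1 := congrFun hv 1
    rcases f_fpf _ _ _ _ hd (v 0) (v 1)
      (by simpa [ρ, toM, Matrix.mulVec, dotProduct, Fin.sum_univ_two] using c0)
      (by simpa [ρ, toM, Matrix.mulVec, dotProduct, Fin.sum_univ_two] using c1) with h | h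
    · exfalso
      apply hg
      ext i j
      fin_cases i <;> fin_cases j <;> simp [h.1, h.2.1, h.2.2.1, h.2.2.2]
    · ext i
      fin_cases i
      · exact h.1
      · exact h.2)
  exact ⟨L, _, inferInstance, H, a1, a2⟩

end Cfsg.Agent.S4298
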