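import Cfsg.Statements.S4321
import Cfsg.Agent.P10.Q0

set_option autoImplicit false
open Cfsg

namespace Cfsg.Agent.S4321


/-- Let `G` be a finite group and `p` a prime not dividing the order of the centre of `G`. Consider the primes dividing the size of some conjugacy class of a `p`-singular element (an element of order divisible by `p`), two of them adjacent when their product divides such a class size. Then any two distinct such primes are joined by a path with at most 3 edges (the graph is connected of diameter at most 3). -/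
theorem result {G : Type*} [Group G] [Finite G] (p : ℕ) [Fact p.Prime]
    (hZ : ¬ p ∣ Nat.card ↥(Subgroup.center G)) (r s : ℕ) (hr : (r.Prime ∧ ∃ x : G, p ∣ orderOf x ∧ r ∣ (Subgroup.centralizer ({x} : Set G)).index)) (hs : (s.Prime ∧ ∃ x : G, p ∣ orderOf x ∧ s ∣ (Subgroup.centralizer ({x} : Set G)).index)) (hrs : r ≠ s) :
    (∃ x : G, p ∣ orderOf x ∧ r * s ∣ (Subgroup.centralizer ({x} : Set G)).index) ∨ (∃ t : ℕ, (t.Prime ∧ ∃ x : G, p ∣ orderOf x ∧ t ∣ (Subgroup.centralizer ({x} : Set G)).index) ∧ t ≠ r ∧ t ≠ s ∧ (∃ x : G, p ∣ orderOf x ∧ r * t ∣ (Subgroup.centralizer ({x} : Set G)).index) ∧ (∃ x : G, p ∣ orderOf x ∧ t * s ∣ (Subgroup.centralizer ({x} : Set G)).index)) ∨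
      (∃ t u : ℕ, (t.Prime ∧ ∃ x : G, p ∣ orderOf x ∧ t ∣ (Subgroup.centralizer ({x} : Set G)).index) ∧ (u.Prime ∧ ∃ x : G, p ∣ orderOf x ∧ u ∣ (Subgroup.centralizer ({x} : Set G)).index) ∧ t ≠ r ∧ u ≠ s ∧ t ≠ u ∧ (∃ x : G, p ∣ orderOf x ∧ r * t ∣ (Subgroup.centralizer ({x} : Set G)).index) ∧ (∃ x : G, p ∣ orderOf x ∧ t * u ∣ (Subgroup.centralizer ({x} : Set G)).index) ∧ (∃ x : G, p ∣ orderOf x ∧ u * s ∣ (Subgroup.centralizer ({x} : Set G)).index)) := by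
  by_contra hc
  obtain ⟨hr, x, px, rx⟩ := hr
  obtain ⟨hs, y, py, sy⟩ := hs
  have m : ∀ {a b n : ℕ}, a.Prime → b.Prime → a ≠ b → a ∣ n → b ∣ n → a * b ∣ n :=
    fun ha hb e => ((Nat.coprime_primes ha hb).2 e).mul_dvd_of_dvd_of_dvd
  have d1 : ∀ z : G, p ∣ orderOf z → r ∣ H7.cs z → s ∣ H7.cs z → False := fun z pz e e' =>
    hc (.inl ⟨z, pz, m hr hs hrs e e'⟩)
  have d2 : ∀ (x y : G) (a : ℕ), a.Prime → p ∣ orderOf x → p ∣ orderOf y → r ∣ H7.cs x →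
      a ∣ H7.cs x → a ∣ H7.cs y → s ∣ H7.cs y → False := fun x y a ha px py e1 e2 e3 e4 => by
    by_cases a1 : a = r
    · exact d1 y py (a1 ▸ e3) e4
    by_cases a2 : a = s
    · exact d1 x px e1 (a2 ▸ e2)
    exact hc (.inr (.inl ⟨a, ⟨ha, x, px, e2⟩, a1, a2, ⟨x, px, m hr ha (Ne.symm a1) e1 e2⟩, y, py,
      m ha hs a2 e3 e4⟩))
  have hd : ∀ (x y z : G) (a b : ℕ), a.Prime → b.Prime → p ∣ orderOf x → p ∣ orderOf y →
      p ∣ orderOf z → r ∣ H7.cs x → a ∣ H7.cs x → a ∣ H7.cs z → b ∣ H7.cs z → b ∣ H7.cs y →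
      s ∣ H7.cs y → False := fun x y z a b ha hb px py pz e1 e2 e3 e4 e5 e6 => by
    by_cases a1 : a = r
    · exact d2 z y b hb pz py (a1 ▸ e3) e4 e5 e6
    by_cases a2 : b = s
    · exact d2 x z a ha px pz e1 e2 e3 (a2 ▸ e4)
    by_cases a3 : a = b
    · exact d2 x y a ha px py e1 e2 (a3 ▸ e5) e6
    exact hc (.inr (.inr ⟨a, b, ⟨ha, x, px, e2⟩, ⟨hb, z, pz, e4⟩, a1, a2, a3,
      ⟨x, px, m hr ha (Ne.symm a1) e1 e2⟩, ⟨z, pz, m ha hb a3 e3 e4⟩, y, py, m hb hs a2 e5 e6⟩))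
  by_cases e : ∃ z : G, p ∣ orderOf z ∧ r ∣ H7.cs z ∧ p ∣ H7.cs z
  · obtain ⟨z, pz, rz, e⟩ := e
    exact P10.Q.core hZ hs hr py sy px rx (fun w pw sw e' => d2 z w p Fact.out pz pw rz e e' sw)
      fun x y z a b ha hb px py pz e1 e2 e3 e4 e5 e6 =>
        hd y x z b a hb ha py px pz e6 e5 e4 e3 e2 e1
  · exact P10.Q.core hZ hr hs px rx py sy (fun z pz rz e' => e ⟨z, pz, rz, e'⟩) hd

end Cfsg.Agent.S4321
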