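import Cfsg.Statements.S4347
import Cfsg.Agent.H8.PComplement

set_option autoImplicit false
open Cfsg

namespace Cfsg.Agent.S4347

/-- Let G be a finite group and p a prime. Say a Sylow p-subgroup Q is redundant when every element of p-power order lies in some Sylow p-subgroup other than Q. Then G has no redundant Sylow p-subgroup if and only if some element of p-power order lies in exactly one Sylow p-subgroup. -/
theorem result {G : Type*} [Group G] [Finite G]
    (p : ℕ) [Fact p.Prime] :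
    (¬ ∃ Q : Sylow p G, ∀ x : G, (∃ k : ℕ, orderOf x = p ^ k) → ∃ P : Sylow p G, P ≠ Q ∧ x ∈ P) ↔
      ∃ x : G, (∃ k : ℕ, orderOf x = p ^ k) ∧ ∃! P : Sylow p G, x ∈ P := by
  constructor
  · intro h
    obtain ⟨Q⟩ : Nonempty (Sylow p G) := inferInstance
    have h1 : ¬ ∀ x : G, (∃ k : ℕ, orderOf x = p ^ k) → ∃ P : Sylow p G, P ≠ Q ∧ x ∈ P :=
      fun h' => h ⟨Q, h'⟩
    push Not at h1
    obtain ⟨x, ⟨k, hk⟩, hx⟩ := h1
    obtain ⟨P, hP⟩ := (H8.isPGroup_zpowers_of_orderOf hk).exists_le_sylow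
    have hxP : x ∈ P := hP (Subgroup.mem_zpowers x)
    refine ⟨x, ⟨k, hk⟩, P, hxP, ?_⟩
    intro R hR
    have h1 : P = Q := by
      by_contra hne
      exact hx P hne hxP
    have h2 : R = Q := by
      by_contra hne
      exact hx R hne hR
    rw [h1, h2]
  · rintro ⟨x, ⟨k, hk⟩, P, hxP, huniq⟩ ⟨Q, hQ⟩
    obtain ⟨g, hg⟩ := MulAction.exists_smul_eq G P Q
    obtain ⟨R, hRQ, hR⟩ := hQ (g * x * g⁻¹) ⟨k, by
      rw [← hk]
      exact SemiconjBy.orderOf_eq g⁻¹ (by simp [SemiconjBy, mul_assoc])⟩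
    apply hRQ
    have : x ∈ g⁻¹ • R := by
      change x ∈ ((g⁻¹ • R : Sylow p G) : Subgroup G)
      rw [Sylow.coe_subgroup_smul, Subgroup.mem_pointwise_smul_iff_inv_smul_mem]
      have hR' : g * x * g⁻¹ ∈ (R : Subgroup G) := hR
      simpa [MulAut.smul_def, mul_assoc] using hR'
    have h2 := huniq _ this
    rw [← hg, ← h2, smul_inv_smul]

end Cfsg.Agent.S4347
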