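import Cfsg.Statements.S4348
import Cfsg.Agent.H8.PComplement
import Cfsg.Agent.L.Cores

set_option autoImplicit false
open Cfsg

namespace Cfsg.Agent.S4348

/-- Let G be a finite group, p a prime and P a Sylow p-subgroup of G, and let O_p(G) be the largest normal p-subgroup of G. If P/O_p(G) is cyclic, then some element of p-power order of G lies in exactly one Sylow p-subgroup. -/
theorem result {G : Type*} [Group G] [Finite G]
    (p : ℕ) [Fact p.Prime] (P : Sylow p G)
    [hn : ((Cfsg.pCore p G).subgroupOf (P : Subgroup G)).Normal]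
    (hc : IsCyclic ((P : Subgroup G) ⧸ (Cfsg.pCore p G).subgroupOf (P : Subgroup G))) :
    ∃ x : G, (∃ k : ℕ, orderOf x = p ^ k) ∧ ∃! Q : Sylow p G, x ∈ Q := by
  obtain ⟨y, hy⟩ := hc.exists_generator
  obtain ⟨x, rfl⟩ := QuotientGroup.mk_surjective y
  refine ⟨x, H8.exists_orderOf_eq_pow_of_mem P.isPGroup' x.2, P, x.2, ?_⟩
  intro Q hQ
  symm
  apply Sylow.ext
  apply P.is_maximal' Q.isPGroup' ?_ |>.symm
  intro z hz
  obtain ⟨n, hn'⟩ := hy (QuotientGroup.mk (⟨z, hz⟩ : (P : Subgroup G)))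
  have h1 : (QuotientGroup.mk (x ^ n) : (P : Subgroup G) ⧸ (Cfsg.pCore p G).subgroupOf (P : Subgroup G)) = QuotientGroup.mk ⟨z, hz⟩ := by
    rw [QuotientGroup.mk_zpow]; exact hn'
  rw [QuotientGroup.eq, Subgroup.mem_subgroupOf] at h1
  have h2 := L.pCore_le_sylow Q h1
  have h3 : ((x : G) ^ n) ∈ (Q : Subgroup G) := Subgroup.zpow_mem _ hQ n
  have := Subgroup.mul_mem _ h3 h2
  simpa using this

end Cfsg.Agent.S4348
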