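import Cfsg.Statements.S4349
import Mathlib

set_option autoImplicit false
open Cfsg

namespace Cfsg.Agent.S4349

open Subgroup Equiv Equiv.Perm

def Cond {α : Type} (x : Perm α) : Prop :=
  {a | x a = a}.ncard ≤ 2 ∧
    ∀ a b, x a ≠ a → (∀ i : ℕ, (x ^ i) a = a ↔ (x ^ i) b = b) → x.SameCycle a b

variable {α : Type}

theorem per (x : Perm α) (a : α) (i : ℕ) : (x ^ i) a = a ↔ MulAction.period x a ∣ i :=
  MulAction.pow_smul_eq_iff_period_dvd (m := x) (a := a)

theorem inv_unique (y : Perm α) (a : α) {k k' : ℕ} (h1 : (y ^ (2 * k)) a = a) (h2 : (y ^ k) a ≠ a)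
    (h3 : (y ^ (2 * k')) a = a) (h4 : (y ^ k') a ≠ a) : (y ^ k) a = (y ^ k') a := by
  have h5 : (y ^ (k + k')) a = a := by
    rw [Ne, per] at h2 h4
    rw [per] at h1 h3 ⊢
    obtain ⟨c, hc⟩ := h1
    obtain ⟨d, hd⟩ := h3
    rcases Nat.even_or_odd' c with ⟨e, rfl | rfl⟩
    · exact absurd ⟨e, by nlinarith⟩ h2
    rcases Nat.even_or_odd' d with ⟨f, rfl | rfl⟩
    · exact absurd ⟨f, by nlinarith⟩ h4
    exact ⟨e + f + 1, by nlinarith⟩
  calc (y ^ k) a = (y ^ k) ((y ^ (k + k')) a) := by rw [h5]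
    _ = (y ^ k') ((y ^ (2 * k)) a) := by
      rw [← mul_apply, ← mul_apply, ← pow_add, ← pow_add]; congr 2; ring
    _ = (y ^ k') a := by rw [h1]

theorem odd_fix {x : Perm α} {k : ℕ} (hx : x ^ 2 ^ k = 1) {a : α} {i : ℕ} (hi : Odd i)
    (h : (x ^ i) a = a) : x a = a := by
  have h1 : MulAction.period x a ∣ 2 ^ k := (per x a _).1 (by rw [hx]; rfl)
  have h2 := Nat.dvd_gcd h1 ((per x a _).1 h)
  rw [(Nat.Coprime.pow_left k ((Nat.coprime_two_left).2 hi)).gcd_eq_one] at h2
  simpa using (per x a 1).2 h2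

theorem fact_odd (k : ℕ) : ∃ o, Odd o ∧ (2 * k).factorial = 2 ^ k * k.factorial * o := by
  induction k with
  | zero => exact ⟨1, odd_one, rfl⟩
  | succ k ih =>
    obtain ⟨o, ho, e⟩ := ih
    refine ⟨(2 * k + 1) * o, (odd_two_mul_add_one k).mul ho, ?_⟩
    rw [show 2 * (k + 1) = 2 * k + 1 + 1 by ring, Nat.factorial_succ, Nat.factorial_succ, e,
      Nat.factorial_succ]
    ring

def Pairing (t : Perm α) : Prop := t * t = 1 ∧ ∀ a b, t a = a → t b = b → a = b

theorem exists_pairing [Finite α] (Q : Subgroup (Perm α)) (hQ : IsPGroup 2 Q) :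
    ∃ t, Pairing t ∧ Q ≤ centralizer {t} := by
  classical
  have := Fintype.ofFinite α
  obtain ⟨k, hk⟩ : ∃ k, Fintype.card α = 2 * k ∨ Fintype.card α = 2 * k + 1 :=
    ⟨Fintype.card α / 2, by omega⟩
  obtain ⟨t, ht⟩ := (exists_with_cycleType_iff α (m := Multiset.replicate k 2)).2
    ⟨by simp; omega, fun a ha => (Multiset.eq_of_mem_replicate ha).ge⟩
  have hc : Nat.card (centralizer {t}) = 2 ^ k * k.factorial := by
    rw [nat_card_centralizer, ht, Multiset.sum_replicate, Multiset.prod_replicate,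
      Multiset.toFinset_replicate]
    have : (Fintype.card α - k • 2).factorial = 1 := by
      rw [Nat.factorial_eq_one, smul_eq_mul]; omega
    rw [this, one_mul]
    split_ifs with h
    · simp [h]
    · simp
  have hodd : ¬ 2 ∣ Nat.card (Perm α ⧸ centralizer {t}) := by
    have h1 := (centralizer {t}).card_mul_index
    obtain ⟨o, ho, e⟩ := fact_odd k
    rw [hc, Nat.card_perm, Nat.card_eq_fintype_card] at h1
    have hpos : 0 < 2 ^ k * k.factorial := Nat.mul_pos (by positivity) (Nat.factorial_pos k)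
    rw [← index_eq_card, Nat.two_dvd_ne_zero, ← Nat.odd_iff]
    rcases hk with hk | hk
    · rw [hk, e] at h1
      rw [Nat.eq_of_mul_eq_mul_left hpos h1]; exact ho
    · rw [hk, Nat.factorial_succ, e, mul_left_comm] at h1
      rw [Nat.eq_of_mul_eq_mul_left hpos h1]; exact (odd_two_mul_add_one k).mul ho
  obtain ⟨c, hc⟩ := hQ.nonempty_fixed_point_of_prime_not_dvd_card _ hodd
  obtain ⟨g, rfl⟩ := QuotientGroup.mk_surjective c
  have ht2 : t * t = 1 := by
    rw [← sq, pow_prime_eq_one_iff, ht]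
    exact fun c hc => Multiset.eq_of_mem_replicate hc
  have hfix : ∀ a b, t a = a → t b = b → a = b := by
    have h1 := card_fixedPoints t
    rw [ht, Multiset.sum_replicate, smul_eq_mul] at h1
    have : Subsingleton (Function.fixedPoints t) := Fintype.card_le_one_iff_subsingleton.1 (by omega)
    intro a b ha hb
    exact congrArg Subtype.val (Subsingleton.elim (⟨a, ha⟩ : Function.fixedPoints t) ⟨b, hb⟩)
  refine ⟨g * t * g⁻¹, ⟨?_, fun a b ha hb => ?_⟩, fun q hq => ?_⟩
  · calc g * t * g⁻¹ * (g * t * g⁻¹) = g * (t * t) * g⁻¹ := by group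
      _ = 1 := by rw [ht2]; group
  · rw [mul_apply, mul_apply, ← eq_inv_iff_eq] at ha hb
    exact g⁻¹.injective (hfix _ _ ha hb)
  · have h1 : ((q * g : Perm α) : Perm α ⧸ centralizer {t}) = g := hc ⟨q, hq⟩
    rw [QuotientGroup.eq, mem_centralizer_singleton_iff] at h1
    rw [mem_centralizer_singleton_iff]
    calc q * (g * t * g⁻¹) = q * g * (t * ((q * g)⁻¹ * g)) * g⁻¹ * q := by group
      _ = g * t * g⁻¹ * q := by rw [← h1]; group

theorem Pairing.apply_apply {t : Perm α} (ht : Pairing t) (a : α) : t (t a) = a := by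
  rw [← mul_apply, ht.1, one_apply]

theorem pairing_move [Finite α] {x t : Perm α} (hx : Cond x) (ht : Pairing t) (hc : Commute x t)
    {a : α} (ha : x a ≠ a) : ∃ k, t a = (x ^ k) a ∧ (x ^ (2 * k)) a = a ∧ (x ^ k) a ≠ a := by
  have h1 : ∀ i, (x ^ i) (t a) = t ((x ^ i) a) := fun i => by
    rw [← mul_apply, (hc.pow_left i).eq, mul_apply]
  obtain ⟨k, hk⟩ := (hx.2 a (t a) ha fun i => by rw [h1, t.injective.eq_iff]).exists_nat_pow_eq
  refine ⟨k, hk.symm, ?_, fun e => ha ?_⟩
  · rw [two_mul, pow_add, mul_apply, hk, h1, hk, ht.apply_apply]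
  · rw [hk] at e
    refine ht.2 _ _ ?_ e
    rw [← pow_one x, ← h1, e]

theorem three [Finite α] {x : Perm α} (hx : Cond x) {a b c : α} (ha : x a = a) (hb : x b = b)
    (hc : x c = c) (h1 : a ≠ b) (h2 : a ≠ c) : b = c := by
  by_contra h3
  have := (Set.two_lt_ncard_iff (s := {a | x a = a})).2 ⟨a, b, c, ha, hb, hc, h1, h2, h3⟩
  exact absurd hx.1 (by omega)

theorem pairing_fix [Finite α] {x t : Perm α} (hx : Cond x) (ht : Pairing t) (hc : Commute x t)
    {a b : α} (ha : x a = a) (hb : x b = b) (hab : a ≠ b) : t a = b := by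
  have h1 : ∀ a, x a = a → x (t a) = t a := fun a ha => by rw [← mul_apply, hc.eq, mul_apply, ha]
  by_cases h2 : t a = a
  · refine absurd (ht.2 a b h2 (three hx ha (h1 b hb) hb (fun e => hab ?_) hab)) hab
    exact t.injective (h2.trans e)
  · exact three hx ha (h1 a ha) hb (Ne.symm h2) hab

theorem pairing_unique [Finite α] {x t t' : Perm α} (hx : Cond x) (ht : Pairing t)
    (hc : Commute x t) (ht' : Pairing t') (hc' : Commute x t') : t = t' := by
  ext a
  by_cases ha : x a = a
  · by_cases h1 : t a = a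
    · by_cases h2 : t' a = a
      · rw [h1, h2]
      · exact pairing_fix hx ht hc ha (by rw [← mul_apply, hc'.eq, mul_apply, ha]) (Ne.symm h2)
    · exact (pairing_fix hx ht' hc' ha (by rw [← mul_apply, hc.eq, mul_apply, ha]) (Ne.symm h1)).symm
  · obtain ⟨k, e, h1, h2⟩ := pairing_move hx ht hc ha
    obtain ⟨k', e', h3, h4⟩ := pairing_move hx ht' hc' ha
    rw [e, e', inv_unique x a h1 h2 h3 h4]

def pairSetoid {t : Perm α} (ht : Pairing t) : Setoid α where
  r a b := b = a ∨ b = t a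
  iseqv := ⟨fun _ => Or.inl rfl, by
    rintro a b (rfl | rfl)
    · exact Or.inl rfl
    · exact Or.inr (ht.apply_apply a).symm, by
    rintro a b c (rfl | rfl) (rfl | rfl)
    · exact Or.inl rfl
    · exact Or.inr rfl
    · exact Or.inr rfl
    · exact Or.inl (ht.apply_apply a)⟩

def pairMap {t : Perm α} (ht : Pairing t) (g : centralizer ({t} : Set (Perm α))) :
    Quotient (pairSetoid ht) → Quotient (pairSetoid ht) :=
  Quotient.map (g : Perm α) (by
    rintro a b (rfl | rfl)
    · exact Or.inl rfl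
    · refine Or.inr ?_
      rw [← mul_apply, mem_centralizer_singleton_iff.1 g.2, mul_apply])

def pairHom {t : Perm α} (ht : Pairing t) :
    centralizer ({t} : Set (Perm α)) →* Perm (Quotient (pairSetoid ht)) :=
  MonoidHom.toHomPerm
    { toFun := pairMap ht
      map_one' := by funext a; induction a using Quotient.inductionOn; rfl
      map_mul' := fun g h => by funext a; induction a using Quotient.inductionOn; rfl }

theorem pairHom_mk {t : Perm α} (ht : Pairing t) (g : centralizer ({t} : Set (Perm α))) (a : α) :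
    pairHom ht g (Quotient.mk _ a) = Quotient.mk _ ((g : Perm α) a) := rfl

theorem mk_eq {t : Perm α} (ht : Pairing t) {a b : α} :
    Quotient.mk (pairSetoid ht) b = Quotient.mk _ a ↔ b = a ∨ b = t a := by
  rw [eq_comm, Quotient.eq]; rfl

theorem cond_pair [Finite α] {x t : Perm α} (hx : Cond x) {k : ℕ} (hk : x ^ 2 ^ k = 1)
    (ht : Pairing t) (hc : x ∈ centralizer {t}) : Cond (pairHom ht ⟨x, hc⟩) := by
  have hc' : Commute x t := mem_centralizer_singleton_iff.1 hc
  have key : ∀ a, x a ≠ a → ∀ i : ℕ, ((pairHom ht ⟨x, hc⟩) ^ i) (Quotient.mk _ a) =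
      Quotient.mk _ a ↔ (x ^ (2 * i)) a = a := by
    intro a ha i
    rw [← map_pow, pairHom_mk, mk_eq]
    change (x ^ i) a = a ∨ (x ^ i) a = t a ↔ _
    obtain ⟨l, e, h1, h2⟩ := pairing_move hx ht hc' ha
    constructor
    · rintro (h | h)
      · rw [two_mul, pow_add, mul_apply, h, h]
      · rw [two_mul, pow_add, mul_apply, h, ← mul_apply, (hc'.pow_left i).eq, mul_apply, h,
          ht.apply_apply]
    · intro h
      by_cases h3 : (x ^ i) a = a
      · exact Or.inl h3
      · exact Or.inr ((inv_unique x a h h3 h1 h2).trans e.symm)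
  have key2 : ∀ a b, x a ≠ a → x b ≠ b → (∀ i, (x ^ (2 * i)) a = a ↔ (x ^ (2 * i)) b = b) →
      x.SameCycle a b := by
    intro a b ha hb h
    refine hx.2 a b ha fun i => ?_
    rcases Nat.even_or_odd' i with ⟨j, rfl | rfl⟩
    · exact h j
    · exact iff_of_false (fun e => ha (odd_fix hk (odd_two_mul_add_one j) e))
        fun e => hb (odd_fix hk (odd_two_mul_add_one j) e)
  constructor
  · have e1 : ∀ a b, x a = a → x b = b →
        Quotient.mk (pairSetoid ht) a = Quotient.mk (pairSetoid ht) b := by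
      intro a b ha hb
      by_cases h : b = a
      · rw [h]
      · exact (mk_eq ht).2 (Or.inr (pairing_fix hx ht hc' hb ha h).symm)
    have e2 : ∀ a b, x a ≠ a → x b ≠ b → pairHom ht ⟨x, hc⟩ (Quotient.mk _ a) = Quotient.mk _ a →
        pairHom ht ⟨x, hc⟩ (Quotient.mk _ b) = Quotient.mk _ b →
        Quotient.mk (pairSetoid ht) a = Quotient.mk (pairSetoid ht) b := by
      intro a b ha hb h1 h2
      have h3 : ∀ i : ℕ, ((pairHom ht ⟨x, hc⟩) ^ i) (Quotient.mk _ a) = Quotient.mk _ a :=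
        fun i => pow_apply_eq_self_of_apply_eq_self h1 i
      obtain ⟨i, hi⟩ := (key2 a b ha hb fun i => by
        rw [← key a ha, ← key b hb]
        exact iff_of_true (h3 i) (pow_apply_eq_self_of_apply_eq_self h2 i)).exists_nat_pow_eq
      rw [← h3 i, ← map_pow, pairHom_mk, ← hi]
      rfl
    by_contra hlt
    obtain ⟨a, b, c, ha, hb, hc, h1, h2, h3⟩ := (Set.two_lt_ncard_iff).1 (not_le.1 hlt)
    induction a using Quotient.inductionOn with | _ a
    induction b using Quotient.inductionOn with | _ b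
    induction c using Quotient.inductionOn with | _ c
    by_cases fa : x a = a <;> by_cases fb : x b = b <;> by_cases fc : x c = c
    all_goals first
      | exact h1 (e1 a b fa fb)
      | exact h2 (e1 a c fa fc)
      | exact h3 (e1 b c fb fc)
      | exact h1 (e2 a b fa fb ha hb)
      | exact h2 (e2 a c fa fc ha hc)
      | exact h3 (e2 b c fb fc hb hc)
  · intro a b ha h
    induction a using Quotient.inductionOn with | _ a
    induction b using Quotient.inductionOn with | _ b
    have fa : x a ≠ a := fun e => ha (by rw [pairHom_mk]; exact congrArg _ e)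
    have fb : x b ≠ b := fun e => ha (by
      have := (h 1).2 (by rw [pow_one, pairHom_mk]; exact congrArg _ e)
      rwa [pow_one] at this)
    obtain ⟨i, hi⟩ := (key2 a b fa fb fun i => by
      rw [← key a fa, ← key b fb]; exact h i).exists_nat_pow_eq
    exact ⟨i, by rw [zpow_natCast, ← map_pow, pairHom_mk, ← hi]; rfl⟩

theorem uniq (n : ℕ) : ∀ (α : Type) [Finite α], Nat.card α = n → ∀ (x : Perm α) (k : ℕ),
    x ^ 2 ^ k = 1 → Cond x →
      ∃ R : Subgroup (Perm α), IsPGroup 2 R ∧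
        ∀ Q : Subgroup (Perm α), IsPGroup 2 Q → x ∈ Q → Q ≤ R := by
  induction n using Nat.strong_induction_on with
  | _ n ih =>
  intro α _ hn x k hk hx
  rcases subsingleton_or_nontrivial α with hs | hs
  · exact ⟨⊥, IsPGroup.of_bot, fun Q _ _ y _ => Subsingleton.elim _ _⟩
  have hz : IsPGroup 2 (zpowers x) := by
    intro ⟨_, i, rfl⟩
    exact ⟨k, Subtype.ext (by
      change (x ^ i) ^ 2 ^ k = 1
      rw [← zpow_natCast, ← zpow_mul, mul_comm, zpow_mul, zpow_natCast, hk, one_zpow])⟩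
  obtain ⟨t, ht, hxt⟩ := exists_pairing _ hz
  have hc : x ∈ centralizer {t} := hxt (mem_zpowers x)
  have hlt : Nat.card (Quotient (pairSetoid ht)) < n := by
    classical
    have := Fintype.ofFinite α
    rw [← hn, Nat.card_eq_fintype_card, Nat.card_eq_fintype_card]
    refine Fintype.card_lt_of_surjective_not_injective _ Quotient.mk_surjective fun hi => ?_
    obtain ⟨a, b, hab⟩ := exists_pair_ne α
    exact hab (ht.2 a b (hi ((mk_eq ht).2 (Or.inr rfl))) (hi ((mk_eq ht).2 (Or.inr rfl))))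
  obtain ⟨R, hR, h⟩ := ih _ hlt _ rfl (pairHom ht ⟨x, hc⟩) k (by
    rw [← map_pow, show (⟨x, hc⟩ : centralizer {t}) ^ 2 ^ k = 1 from Subtype.ext hk, map_one]) (cond_pair hx hk ht hc)
  refine ⟨(R.comap (pairHom ht)).map (centralizer {t}).subtype,
    (hR.comap_of_ker_isPGroup _ fun g => ⟨1, ?_⟩).map _, fun Q hQ hxQ y hy => ?_⟩
  · ext a
    have h1 := pairHom_mk ht g a
    rw [g.2, one_apply, eq_comm, mk_eq] at h1
    change (g : Perm α) ((g : Perm α) a) = a
    rcases h1 with h1 | h1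
    · rw [h1, h1]
    · rw [h1, ← mul_apply, mem_centralizer_singleton_iff.1 g.1.2, mul_apply, h1, ht.apply_apply]
  · obtain ⟨t', ht', hQt⟩ := exists_pairing Q hQ
    rw [← pairing_unique hx ht (mem_centralizer_singleton_iff.1 hc) ht'
      (mem_centralizer_singleton_iff.1 (hQt hxQ))] at hQt
    refine ⟨⟨y, hQt hy⟩, h ((Q.subgroupOf _).map (pairHom ht)) (hQ.comap_subtype.map _)
      ⟨⟨x, hc⟩, hxQ, rfl⟩ ⟨_, hy, rfl⟩, rfl⟩

theorem swap_mem [Finite α] [DecidableEq α] {x : Perm α} (hz : IsPGroup 2 (zpowers x))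
    {P : Sylow 2 (Perm α)} (hP : ∀ Q : Sylow 2 (Perm α), x ∈ Q → Q = P) {a b : α}
    (h1 : ∀ i : ℕ, (x ^ i) a = a ↔ (x ^ i) b = b) (h2 : ∀ i : ℕ, (x ^ i) a = b ↔ (x ^ i) b = a) :
    swap a b ∈ P := by
  have c0 : ∀ i : ℕ, Commute (swap a b) (x ^ i * swap a b * (x ^ i)⁻¹) := by
    intro i
    rw [← swap_apply_apply]
    by_cases e1 : (x ^ i) a = a
    · rw [e1, (h1 i).1 e1]
    by_cases e2 : (x ^ i) a = b
    · rw [e2, (h2 i).1 e2, swap_comm b a]
    have e3 := mt (h1 i).2 e1
    have e4 := mt (h2 i).2 e2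
    rw [Commute, SemiconjBy, mul_swap_eq_swap_mul, swap_apply_of_ne_of_ne e1 e2,
      swap_apply_of_ne_of_ne e4 e3]
  have c1 : ∀ i j : ℕ, j ≤ i →
      Commute (x ^ j * swap a b * (x ^ j)⁻¹) (x ^ i * swap a b * (x ^ i)⁻¹) := by
    intro i j hij
    obtain ⟨l, rfl⟩ := Nat.exists_eq_add_of_le hij
    have := (c0 l).map (MulAut.conj (x ^ j))
    simp only [MulAut.conj_apply] at this
    rwa [show x ^ (j + l) * swap a b * (x ^ (j + l))⁻¹ =
      x ^ j * (x ^ l * swap a b * (x ^ l)⁻¹) * (x ^ j)⁻¹ by group]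
  obtain ⟨S, hS⟩ : ∃ S, S = Set.range fun i : ℕ => x ^ i * swap a b * (x ^ i)⁻¹ := ⟨_, rfl⟩
  have hcomm : IsMulCommutative (closure S) := isMulCommutative_closure (by
    rw [hS]
    rintro _ ⟨i, rfl⟩ _ ⟨j, rfl⟩
    rcases le_total i j with h | h
    · exact c1 j i h
    · exact (c1 i j h).symm)
  have hN : IsPGroup 2 (closure S) := by
    rintro ⟨y, hy⟩
    refine ⟨1, Subtype.ext ?_⟩
    change y ^ 2 = 1
    induction hy using closure_induction with
    | mem y hy =>
      rw [hS] at hy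
      obtain ⟨i, rfl⟩ := hy
      rw [conj_pow, sq, swap_mul_self]; group
    | one => exact one_pow _
    | mul y z hy hz e1 e2 => rw [(show Commute y z from setLike_mul_comm hy hz).mul_pow, e1, e2, mul_one]
    | inv y hy e => rw [inv_pow, e, inv_one]
  have hn : zpowers x ≤ normalizer (closure S : Set (Perm α)) := by
    rw [zpowers_le]
    refine mem_normalizer_fintype fun y hy => ?_
    have : closure S ≤ (closure S).comap (MulAut.conj x).toMonoidHom := by
      rw [closure_le, hS]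
      rintro _ ⟨i, rfl⟩
      refine subset_closure ⟨i + 1, ?_⟩
      change _ = x * _ * x⁻¹
      group
    exact this hy
  obtain ⟨Q, hQ⟩ := (hz.to_sup_of_normal_right' hN hn).exists_le_sylow
  rw [← hP Q (hQ (mem_sup_left (mem_zpowers x)))]
  exact hQ (mem_sup_right (subset_closure (hS ▸ ⟨0, by simp⟩)))

theorem cond_of_unique [Finite α] {x : Perm α} {k : ℕ} (hk : x ^ 2 ^ k = 1)
    (hz : IsPGroup 2 (zpowers x)) {P : Sylow 2 (Perm α)}
    (hP : ∀ Q : Sylow 2 (Perm α), x ∈ Q → Q = P) : Cond x := by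
  classical
  have := Fintype.ofFinite α
  have contra : ∀ a b c : α, a ≠ b → a ≠ c → b ≠ c → swap a b ∈ P → swap a c ∈ P → False := by
    intro a b c h1 h2 h3 h4 h5
    obtain ⟨j, hj⟩ := P.isPGroup' ⟨_, mul_mem h4 h5⟩
    have h6 := orderOf_dvd_of_pow_eq_one (congrArg Subtype.val hj)
    change orderOf (swap a b * swap a c) ∣ _ at h6
    rw [(isThreeCycle_swap_mul_swap_same h1 h2 h3).orderOf] at h6
    have := Nat.prime_three.dvd_of_dvd_pow h6
    omega
  constructor
  · by_contra hlt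
    obtain ⟨a, b, c, ha, hb, hc, h1, h2, h3⟩ := (Set.two_lt_ncard_iff).1 (not_le.1 hlt)
    have f := fun (a : α) (ha : x a = a) (i : ℕ) => pow_apply_eq_self_of_apply_eq_self ha i
    refine contra a b c h1 h2 h3 (swap_mem hz hP (fun i => ?_) fun i => ?_)
      (swap_mem hz hP (fun i => ?_) fun i => ?_)
    · exact iff_of_true (f a ha i) (f b hb i)
    · rw [f a ha, f b hb, eq_comm]
    · exact iff_of_true (f a ha i) (f c hc i)
    · rw [f a ha, f c hc, eq_comm]
  · intro a b ha h
    by_contra hn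
    have h1 : MulAction.period x a ∣ 2 ^ k := (per x a _).1 (by rw [hk]; rfl)
    obtain ⟨j, -, hj⟩ := (Nat.dvd_prime_pow Nat.prime_two).1 h1
    rcases j with _ | j
    · exact ha (by simpa using (per x a 1).2 (by rw [hj, pow_zero]))
    have h2 : (x ^ 2 ^ j) ((x ^ 2 ^ j) a) = a := by
      rw [← mul_apply, ← pow_add, per, hj, pow_succ, mul_two]
    have h3 : (x ^ 2 ^ j) a ≠ a := by
      rw [Ne, per, hj]
      intro hd
      have := Nat.le_of_dvd (by positivity) hd
      have := Nat.pow_lt_pow_right (a := 2) one_lt_two (Nat.lt_succ_self j)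
      omega
    have cm : ∀ (i : ℕ) (y : α), (x ^ i) ((x ^ 2 ^ j) y) = (x ^ 2 ^ j) ((x ^ i) y) := fun i y => by
      rw [← mul_apply, ← mul_apply, ← pow_add, ← pow_add, add_comm]
    refine contra a b ((x ^ 2 ^ j) a) (fun e => hn (e ▸ SameCycle.refl x a)) h3.symm
      (fun e => hn ⟨(2 ^ j : ℕ), by rw [zpow_natCast, e]⟩) (swap_mem hz hP h fun i => ?_)
      (swap_mem hz hP (fun i => ?_) fun i => ?_)
    · exact iff_of_false (fun e => hn ⟨i, by rw [zpow_natCast, e]⟩)
        fun e => hn (SameCycle.symm ⟨i, by rw [zpow_natCast, e]⟩)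
    · rw [cm, (x ^ 2 ^ j).injective.eq_iff]
    · rw [cm]
      refine ⟨fun e => by rw [e, h2], fun e => (x ^ 2 ^ j).injective (by rw [e, h2])⟩

theorem cond_iff [Fintype α] [DecidableEq α] (x : Perm α) :
    Cond x ↔ Fintype.card α ≤ x.support.card + 2 ∧ x.cycleType.Nodup := by
  have hper : ∀ a, x a ≠ a → ∀ i : ℕ, (x ^ i) a = a ↔ (x.cycleOf a).support.card ∣ i :=
    fun a ha i => (isCycleOn_support_cycleOf x a).pow_apply_eq
      ((mem_support_cycleOf_iff' ha).2 (SameCycle.refl x a))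
  refine and_congr ?_ ?_
  · have : {a | x a = a} = ((x.supportᶜ : Finset α) : Set α) := by ext a; simp
    rw [this, Set.ncard_coe_finset, Finset.card_compl]
    omega
  · rw [cycleType_def, Multiset.nodup_map_iff_inj_on (Finset.nodup _)]
    constructor
    · intro h c hc d hd e
      obtain ⟨a, ha⟩ := (mem_cycleFactorsFinset_iff.1 hc).1.nonempty_support
      obtain ⟨b, hb⟩ := (mem_cycleFactorsFinset_iff.1 hd).1.nonempty_support
      have ha' := mem_support.1 (mem_cycleFactorsFinset_support_le hc ha)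
      have hb' := mem_support.1 (mem_cycleFactorsFinset_support_le hd hb)
      have e1 := cycle_is_cycleOf ha hc
      have e2 := cycle_is_cycleOf hb hd
      rw [e1, e2] at e ⊢
      refine (h a b ha' fun i => ?_).cycleOf_eq
      rw [hper a ha', hper b hb']
      exact iff_of_eq (congrArg (· ∣ i) e)
    · intro h a b ha hi
      have hb : x b ≠ b := fun e => ha (by simpa using (hi 1).2 (by simpa using e))
      have e := h _ (cycleOf_mem_cycleFactorsFinset_iff.2 (mem_support.2 ha)) _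
        (cycleOf_mem_cycleFactorsFinset_iff.2 (mem_support.2 hb)) (Nat.dvd_antisymm
          ((hper a ha _).1 ((hi _).2 ((hper b hb _).2 dvd_rfl)))
          ((hper b hb _).1 ((hi _).1 ((hper a ha _).2 dvd_rfl))))
      rw [← mem_support_cycleOf_iff' ha, e, mem_support_cycleOf_iff' hb]


/-- Let n ≥ 2 and let x be an element of 2-power order of the symmetric group of degree n. Then x lies in exactly one Sylow 2-subgroup if and only if x has at most two fixed points and the nontrivial cycles of x have pairwise different lengths. -/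
theorem result (n : ℕ) (hn : 2 ≤ n)
    (x : Equiv.Perm (Fin n)) (hx : ∃ k : ℕ, orderOf x = 2 ^ k) :
    (∃! P : Sylow 2 (Equiv.Perm (Fin n)), x ∈ P) ↔ (n ≤ x.support.card + 2 ∧ x.cycleType.Nodup) := by
  obtain ⟨k, hk⟩ := hx
  have hk' : x ^ 2 ^ k = 1 := hk ▸ pow_orderOf_eq_one x
  have hz : IsPGroup 2 (zpowers x) := IsPGroup.of_card (n := k) (by rw [Nat.card_zpowers, hk])
  have := cond_iff x
  rw [Fintype.card_fin] at this
  rw [← this]
  constructor
  · rintro ⟨P, -, hP⟩
    exact cond_of_unique hk' hz hP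
  · intro hc
    obtain ⟨R, hR, h⟩ := uniq _ _ rfl x k hk' hc
    obtain ⟨P, hP⟩ := hz.exists_le_sylow
    refine ⟨P, hP (mem_zpowers x), fun Q hQ => Sylow.ext ?_⟩
    rw [← Q.is_maximal' hR (h Q Q.isPGroup' hQ),
      ← P.is_maximal' hR (h P P.isPGroup' (hP (mem_zpowers x)))]

end Cfsg.Agent.S4349
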