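import Cfsg.Statements.S4358
import Cfsg.Agent.H4.Redundant

set_option autoImplicit false
open Cfsg

namespace Cfsg.Agent.S4358

open Subgroup Module Polynomial

section
variable {F V : Type*} [Field F] [Fintype F] [AddCommGroup V] [Module F V] [FiniteDimensional F V]
  {p : ℕ} [hp : Fact p.Prime]

theorem not_dvd_card (hp2 : p ≠ 2) (h1 : p ∣ Fintype.card F - 1) (h2 : ¬ p ^ 2 ∣ Fintype.card F - 1)
    (hV : finrank F V = 2) : ¬ p ^ 3 ∣ Nat.card (V ≃ₗ[F] V) := by
  rw [← Nat.card_congr ((Matrix.GeneralLinearGroup.toLin' (finBasisOfFinrankEq F V hV)).trans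
    (LinearMap.GeneralLinearGroup.generalLinearEquiv F V)).toEquiv, Matrix.card_GL_field]
  obtain ⟨m, hm⟩ := h1
  have hq : Fintype.card F = p * m + 1 := by have := Fintype.card_pos (α := F); omega
  have e : ∏ i : Fin 2, (Fintype.card F ^ 2 - Fintype.card F ^ (i : ℕ)) =
      p ^ 2 * (m * (m * ((p * m + 2) * (p * m + 1)))) := by
    rw [Fin.prod_univ_two, hq, Nat.sub_eq_of_eq_add (b := _ ^ ((0 : Fin 2) : ℕ))
      (c := p * m * (p * m + 2)) (by simp; ring), Nat.sub_eq_of_eq_add (b := _ ^ ((1 : Fin 2) : ℕ))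
      (c := p * m * (p * m + 1)) (by simp; ring)]
    ring
  rw [e, pow_succ, Nat.mul_dvd_mul_iff_left (pow_pos hp.out.pos 2)]
  have h3 : ¬ p ∣ m := fun h => h2 (by rw [hm, sq]; exact Nat.mul_dvd_mul_left p h)
  simp only [hp.out.dvd_mul, h3, false_or, Nat.dvd_add_right (dvd_mul_right p m), Nat.dvd_one,
    hp.out.ne_one, or_false, Nat.prime_dvd_prime_iff_eq hp.out Nat.prime_two]
  exact hp2

theorem two_refl (hp2 : p ≠ 2) (h1 : p ∣ Fintype.card F - 1) (h2 : ¬ p ^ 2 ∣ Fintype.card F - 1)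
    {Q : Subgroup (V ≃ₗ[F] V)} (hQ : IsPGroup p Q) {a b : V ≃ₗ[F] V} (ha : a ∈ Q) (hb : b ∈ Q)
    {u v : V} (hi : LinearIndependent F ![u, v]) {ω c d : F} (hω : ω ≠ 1) (e1 : a u = ω • u)
    (e2 : a v = v + c • u) (e3 : b v = ω • v) (e4 : b u = u + d • v) : c = 0 := by
  obtain ⟨W, hW⟩ : ∃ W, W = Submodule.span F (Set.range ![u, v]) := ⟨_, rfl⟩
  have hu : u ∈ W := hW ▸ Submodule.subset_span ⟨0, rfl⟩
  have hv : v ∈ W := hW ▸ Submodule.subset_span ⟨1, rfl⟩
  have h3 := not_dvd_card (V := W) hp2 h1 h2 (by rw [hW, finrank_span_eq_card hi]; rfl)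
  let R : Subgroup (W ≃ₗ[F] W) :=
    { carrier := {h | ∃ g ∈ Q, ∀ z : W, g z = h z}
      mul_mem' := by
        rintro h h' ⟨g, hg, e⟩ ⟨g', hg', e'⟩
        exact ⟨g * g', mul_mem hg hg', fun z => by simp [e', e]⟩
      one_mem' := ⟨1, one_mem _, fun _ => rfl⟩
      inv_mem' := by
        rintro h ⟨g, hg, e⟩
        refine ⟨g⁻¹, inv_mem hg, fun z => ?_⟩
        rw [LinearEquiv.coe_inv, LinearEquiv.symm_apply_eq, e]
        simp }
  have : Finite V := Module.finite_of_finite F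
  have : Finite (W ≃ₗ[F] W) := DFunLike.finite _
  have hR : IsPGroup p R := by
    rintro ⟨h, g, hg, e⟩
    obtain ⟨k, hk⟩ := hQ ⟨g, hg⟩
    refine ⟨k, Subtype.ext (LinearEquiv.ext fun z => Subtype.ext ?_)⟩
    have h4 : ∀ (n : ℕ) (z : W), (g ^ n) z = (h ^ n) z := fun n => by
      induction n with
      | zero => exact fun _ => rfl
      | succ n ih => intro z; rw [pow_succ, pow_succ, LinearEquiv.mul_apply, e, ih]; rfl
    change ((h ^ p ^ k) z : V) = z
    rw [← h4, show g ^ p ^ k = 1 from Subtype.ext_iff.mp hk]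
    rfl
  have hc : IsMulCommutative R := by
    obtain ⟨k, hk⟩ := hR.exists_card_eq
    have h4 : k ≤ 2 := by
      by_contra h
      exact h3 ((pow_dvd_pow p (by omega)).trans (hk ▸ R.card_subgroup_dvd_card))
    rcases h4.eq_or_lt with rfl | h4
    · exact IsPGroup.isMulCommutative_of_card_eq_prime_sq hk
    · exact (isCyclic_of_card_dvd_prime (p := p)
        (by simpa [hk] using pow_dvd_pow p (Nat.lt_succ_iff.mp h4))).isMulCommutative
  have key : ∀ g ∈ Q, g u ∈ W → g v ∈ W → ∃ h : R, ∀ z : W, g z = h.1 z := fun g hg f1 f2 => by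
    have h4 : ∀ z ∈ W, (g : V →ₗ[F] V) z ∈ W := fun z hz => by
      have : W ≤ W.comap (g : V →ₗ[F] V) := by
        nth_rw 1 [hW]
        rw [Submodule.span_le]
        rintro _ ⟨i, rfl⟩
        fin_cases i
        exacts [f1, f2]
      exact this hz
    refine ⟨⟨LinearEquiv.ofInjectiveEndo ((g : V →ₗ[F] V).restrict h4) fun z z' e =>
      Subtype.ext (g.injective (Subtype.ext_iff.mp e)), g, hg, fun _ => rfl⟩, fun _ => rfl⟩
  obtain ⟨h, eh⟩ := key a ha (e1 ▸ W.smul_mem _ hu) (e2 ▸ W.add_mem hv (W.smul_mem _ hu))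
  obtain ⟨h', eh'⟩ := key b hb (e4 ▸ W.add_mem hu (W.smul_mem _ hv)) (e3 ▸ W.smul_mem _ hv)
  have h4 : a (b v) = b (a v) := by
    have := congrArg (fun g : R => (g.1 ⟨v, hv⟩ : V)) (hc.is_comm.comm h h')
    simpa [← eh, ← eh'] using this
  rw [e3, e2, map_smul, map_add, map_smul, e2, e3, e4] at h4
  have h5 := (LinearIndependent.pair_iff.mp hi ((ω - 1) * c) (-(c * d))
    (by linear_combination (norm := module) h4)).1
  exact (mul_eq_zero.mp h5).resolve_left (sub_ne_zero.mpr hω)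

/-- Diagonal maps of exponent `p`. -/
def Dg (p : ℕ) [hp : Fact p.Prime] {ι : Type*} (b : Basis ι F V) : Subgroup (V ≃ₗ[F] V) where
  carrier := {g | ∀ i, ∃ μ : F, μ ^ p = 1 ∧ g (b i) = μ • b i}
  mul_mem' := fun {g g'} h h' i => by
    obtain ⟨μ, e1, e2⟩ := h i
    obtain ⟨μ', e3, e4⟩ := h' i
    exact ⟨μ' * μ, by rw [mul_pow, e1, e3, one_mul], by simp [e2, e4, mul_smul]⟩
  one_mem' := fun i => ⟨1, one_pow _, by simp⟩
  inv_mem' := fun {g} h i => by
    obtain ⟨μ, e1, e2⟩ := h i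
    have : μ ≠ 0 := fun e => by simp [e, hp.out.ne_zero] at e1
    refine ⟨μ⁻¹, by rw [inv_pow, e1, inv_one], ?_⟩
    rw [LinearEquiv.coe_inv, LinearEquiv.symm_apply_eq, map_smul, e2, inv_smul_smul₀ this]

omit [Fintype F] [FiniteDimensional F V] hp in
theorem pow_apply {g : V ≃ₗ[F] V} {v : V} {μ : F} (h : g v = μ • v) (n : ℕ) :
    (g ^ n) v = μ ^ n • v := by
  induction n with
  | zero => simp
  | succ n ih => rw [pow_succ, LinearEquiv.mul_apply, h, map_smul, ih, smul_smul, pow_succ']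

theorem exists_refl {x : V ≃ₗ[F] V} (hx : IsPGroup p (zpowers x)) {Q : Subgroup (V ≃ₗ[F] V)}
    (hQ : ∀ K : Subgroup (V ≃ₗ[F] V), IsPGroup p K → x ∈ K → K ≤ Q) {ι : Type*} (b : Basis ι F V)
    (hm : ∀ i, ∃ j, ∃ s : F, x (b i) = s • b j) {ω : F} (hω : ω ^ p = 1) (i : ι) :
    ∃ a ∈ Q, ∀ v, a v = v + ((ω - 1) * b.repr v i) • b i := by
  classical
  have : Finite V := Module.finite_of_finite F
  have : Finite (V ≃ₗ[F] V) := DFunLike.finite _
  have h1 : IsPGroup p (Dg p b) := fun g => ⟨1, Subtype.ext (b.ext' fun j => by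
    obtain ⟨μ, e1, e2⟩ := g.2 j
    simp [pow_apply e2, e1])⟩
  have h2 : x ∈ normalizer (Dg p b : Set (V ≃ₗ[F] V)) := by
    rw [← inv_mem_iff]
    refine mem_normalizer_fintype fun g hg j => ?_
    obtain ⟨k, s, e⟩ := hm j
    obtain ⟨μ, e1, e2⟩ := hg k
    refine ⟨μ, e1, ?_⟩
    rw [inv_inv, LinearEquiv.mul_apply, LinearEquiv.mul_apply, LinearEquiv.coe_inv,
      LinearEquiv.symm_apply_eq, map_smul, e, map_smul, e2, smul_comm]
  have h3 := le_sup_right.trans (hQ _ (hx.to_sup_of_normal_right' h1 (zpowers_le.mpr h2))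
    (mem_sup_left (mem_zpowers x)))
  have h4 : ω ≠ 0 := fun e => by simp [e, hp.out.ne_zero] at hω
  let w : ι → Fˣ := Function.update 1 i (Units.mk0 ω h4)
  have h5 : ∀ j, b.equiv (b.unitsSMul w) (Equiv.refl ι) (b j) = (w j : F) • b j := fun j => by
    simp [Basis.unitsSMul_apply, Units.smul_def]
  refine ⟨b.equiv (b.unitsSMul w) (Equiv.refl ι), h3 fun j => ⟨_, ?_, h5 j⟩, fun v => ?_⟩
  · by_cases e : j = i <;> simp [w, e, hω]
  · have : (b.equiv (b.unitsSMul w) (Equiv.refl ι) : V →ₗ[F] V) =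
        LinearMap.id + (ω - 1) • (b.coord i).smulRight (b i) := b.ext fun j => by
      rw [LinearEquiv.coe_coe, h5]
      by_cases e : j = i
      · simp [w, e, sub_smul]
      · simp [w, e]
    simpa [mul_smul] using LinearMap.congr_fun this v

theorem two_bases (hp2 : p ≠ 2) (h1 : p ∣ Fintype.card F - 1) (h2 : ¬ p ^ 2 ∣ Fintype.card F - 1)
    {ω : F} (hω : IsPrimitiveRoot ω p) {x : V ≃ₗ[F] V} (hx : IsPGroup p (zpowers x))
    {Q : Subgroup (V ≃ₗ[F] V)} (hQp : IsPGroup p Q)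
    (hQ : ∀ K : Subgroup (V ≃ₗ[F] V), IsPGroup p K → x ∈ K → K ≤ Q) {ι ι' : Type*}
    (b : Basis ι F V) (b' : Basis ι' F V) (hm : ∀ i, ∃ j, ∃ s : F, x (b i) = s • b j)
    (hm' : ∀ i, ∃ j, ∃ s : F, x (b' i) = s • b' j) (j : ι') : ∃ i, ∃ s : F, s • b i = b' j := by
  by_contra! h
  obtain ⟨i, hi⟩ : ∃ i, b.repr (b' j) i ≠ 0 := by
    by_contra! e
    exact b'.ne_zero j (b.forall_coord_eq_zero_iff.mp e)
  obtain ⟨a, ha, e⟩ := exists_refl hx hQ b hm hω.pow_eq_one i
  obtain ⟨a', ha', e'⟩ := exists_refl hx hQ b' hm' hω.pow_eq_one j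
  have h3 := hω.ne_one hp.out.one_lt
  exact mul_ne_zero (sub_ne_zero.mpr h3) hi (two_refl hp2 h1 h2 hQp ha ha'
    ((LinearIndependent.pair_iff' (b.ne_zero i)).mpr (h i)) h3 (by simp [e, sub_smul]) (e _)
    (by simp [e', sub_smul]) (e' _))

omit [Fintype F] [FiniteDimensional F V] hp in
theorem pow_coe (x : V ≃ₗ[F] V) (n : ℕ) (v : V) : ((x : Module.End F V) ^ n) v = (x ^ n) v := by
  rw [Module.End.pow_apply, LinearEquiv.pow_apply]; rfl

omit [Fintype F] [FiniteDimensional F V] in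
theorem span_eig {ω : F} (hω : IsPrimitiveRoot ω p) {y : V ≃ₗ[F] V} (hy : y ^ p = 1) :
    ⊤ ≤ Submodule.span F {v | ∃ μ : F, μ ^ p = 1 ∧ y v = μ • v} := by
  classical
  intro v _
  have h1 := Lagrange.sum_basis (s := nthRootsFinset p (1 : F)) (v := id) (Set.injOn_id _)
    ⟨1, (mem_nthRootsFinset hp.out.pos _).mpr (one_pow _)⟩
  have h2 : v = aeval (y : Module.End F V) (1 : F[X]) v := by simp
  rw [h2, ← h1, map_sum, LinearMap.sum_apply]
  refine Submodule.sum_mem _ fun μ hμ => Submodule.subset_span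
    ⟨μ, (mem_nthRootsFinset hp.out.pos _).mp hμ, ?_⟩
  have h3 : (X - C μ) * Lagrange.basis (nthRootsFinset p (1 : F)) id μ =
      C (Lagrange.nodalWeight (nthRootsFinset p (1 : F)) id μ) * (X ^ p - 1) := by
    rw [Lagrange.basis_eq_prod_sub_inv_mul_nodal_div hμ, ← Lagrange.nodal_erase_eq_nodal_div hμ,
      mul_left_comm, X_pow_sub_one_eq_prod hp.out.pos hω]
    exact congrArg _ (Lagrange.nodal_eq_mul_nodal_erase (v := id) hμ).symm
  have h4 := congrArg (fun f => aeval (y : Module.End F V) f v) h3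
  have h5 : (y : Module.End F V) ^ p = 1 := LinearMap.ext fun w => by rw [pow_coe, hy]; rfl
  simpa [h5, sub_eq_zero] using h4

omit [Fintype F] [FiniteDimensional F V] hp in
theorem exists_basis {E s : Set V} (hE : ⊤ ≤ Submodule.span F E) (hs : LinearIndepOn F id s)
    (h : s ⊆ E) : ∃ (t : Set V) (b : Basis t F V), s ⊆ t ∧ (∀ i, b i = i) ∧ t ⊆ E := by
  obtain ⟨t, h1, h2, h3, h4⟩ := exists_linearIndepOn_id_extension hs h
  refine ⟨t, Basis.mk h4 (hE.trans (Submodule.span_le.mpr (by simpa using h3))), h2,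
    fun i => by simp, h1⟩

omit [Fintype F] [FiniteDimensional F V] hp in
theorem indep {x : V ≃ₗ[F] V} {v : V} {n : ℕ}
    (hv : ∀ f : F[X], f.degree < n → aeval (x : Module.End F V) f v = 0 → f = 0) :
    LinearIndependent F fun i : Fin n => (x ^ (i : ℕ)) v := by
  rw [Fintype.linearIndependent_iff]
  intro c hc i
  have h2 := hv _ (degree_sum_fin_lt c) (by simpa [LinearMap.sum_apply, pow_coe] using hc)
  have h3 := congrArg (coeff · i) h2
  simpa [finsetSum_coeff, coeff_X_pow, Fin.val_inj] using h3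

omit [Fintype F] in
theorem exists_cyclic (hV : finrank F V = p) {x : V ≃ₗ[F] V} {α : F}
    (hx : ∀ v, (x ^ p) v = α • v) {v : V}
    (hv : ∀ f : F[X], f.degree < p → aeval (x : Module.End F V) f v = 0 → f = 0) :
    ∃ b : Basis (Fin p) F V, (∀ i, b i = (x ^ (i : ℕ)) v) ∧
      ∀ i, ∃ j, ∃ s : F, x (b i) = s • b j := by
  have h2 : ∀ i, basisOfLinearIndependentOfCardEqFinrank' _ (indep hv) (by simp [hV]) i =
      (x ^ (i : ℕ)) v := fun i => by simp [basisOfLinearIndependentOfCardEqFinrank']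
  refine ⟨_, h2, fun i => ?_⟩
  simp only [h2]
  rw [← LinearEquiv.mul_apply, ← pow_succ']
  rcases (Nat.succ_le_of_lt i.2).eq_or_lt with e | e
  · exact ⟨⟨0, hp.out.pos⟩, α, by rw [show (i : ℕ) + 1 = p from e, hx]; simp⟩
  · exact ⟨⟨i + 1, e⟩, 1, by simp⟩

omit [Fintype F] [FiniteDimensional F V] hp in
theorem ne_add {ι : Type*} (b : Basis ι F V) {i j : ι} (h : i ≠ j) (k : ι) (s : F) :
    s • b k ≠ b i + b j := fun e => by
  classical
  have h1 := congrArg (b.repr · i) e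
  have h2 := congrArg (b.repr · j) e
  by_cases e' : k = i
  · simp [e', h] at h2
  · simp [e', h.symm] at h1

theorem key (hp2 : p ≠ 2) (h1 : p ∣ Fintype.card F - 1) (h2 : ¬ p ^ 2 ∣ Fintype.card F - 1)
    (hV : finrank F V = p) {x : V ≃ₗ[F] V} {k : ℕ} (hk : orderOf x = p ^ k)
    {Q : Subgroup (V ≃ₗ[F] V)} (hQp : IsPGroup p Q)
    (hQ : ∀ K : Subgroup (V ≃ₗ[F] V), IsPGroup p K → x ∈ K → K ≤ Q) : False := by
  classical
  obtain ⟨ω, hω⟩ : ∃ ω : F, IsPrimitiveRoot ω p := by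
    obtain ⟨z, hz⟩ := exists_prime_orderOf_dvd_card (G := Fˣ) p (by rwa [Fintype.card_units])
    exact ⟨z, IsPrimitiveRoot.coe_units_iff.mpr (hz ▸ IsPrimitiveRoot.orderOf z)⟩
  have hxp := H8.isPGroup_zpowers_of_orderOf hk
  by_cases hx : x ^ p = 1
  · obtain ⟨t, e, -, h3, h4⟩ := exists_basis (span_eig hω hx) (linearIndepOn_empty F id)
      (Set.empty_subset _)
    have h5 : ∀ i : t, ∃ μ : F, x (e i) = μ • e i ∧ μ ^ p = 1 := fun i => by
      obtain ⟨μ, e1, e2⟩ := h4 i.2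
      exact ⟨μ, by rwa [h3], e1⟩
    choose μ h5 h6 using h5
    by_cases hi : Function.Injective μ
    · have := FiniteDimensional.fintypeBasisIndex e
      have h7 : Fintype.card t = p := by rw [← hV, finrank_eq_card_basis e]
      obtain ⟨b, h8, h9⟩ := exists_cyclic hV (x := x) (α := 1) (v := ∑ i, e i) (by simp [hx])
        fun f hf h => by
          rw [map_sum, Finset.sum_congr rfl fun i _ =>
            Module.End.aeval_apply_of_mem_apply_eq_smul (h5 i)] at h
          exact eq_zero_of_degree_lt_of_eval_index_eq_zero Finset.univ hi.injOn (by simpa [h7])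
            fun i _ => Fintype.linearIndependent_iff.mp e.linearIndependent _ h i
      obtain ⟨i, s, h10⟩ := two_bases hp2 h1 h2 hω hxp hQp hQ
        e b (fun i => ⟨i, _, h5 i⟩) h9 ⟨0, hp.out.pos⟩
      obtain ⟨j, hj⟩ := Fintype.exists_ne_of_one_lt_card (h7 ▸ hp.out.one_lt) i
      simpa [h8, hj.symm, Finsupp.single_apply] using congrArg (e.repr · j) h10
    · obtain ⟨i, j, h7, h8⟩ := Function.not_injective_iff.mp hi
      obtain ⟨t', e', h9, h10, h11⟩ := exists_basis (span_eig hω hx) (s := {e i + e j})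
        (LinearIndepOn.singleton (by simpa using (ne_add e h8 i 0).symm))
        (Set.singleton_subset_iff.mpr ⟨μ i, h6 i, by rw [map_add, h5, h5, h7, smul_add]⟩)
      obtain ⟨l, s, h12⟩ := two_bases hp2 h1 h2 hω hxp hQp hQ
        e e' (fun i => ⟨i, _, h5 i⟩) (fun i => by
        obtain ⟨ν, -, h⟩ := h11 i.2
        exact ⟨i, ν, by rwa [h10]⟩) ⟨_, h9 rfl⟩
      exact ne_add e h8 l s (h12.trans (h10 _))
  obtain ⟨m, rfl, hm⟩ : ∃ m, k = m + 1 ∧ 1 ≤ m := by
    rcases k with _ | _ | m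
    · simp [orderOf_eq_one_iff.mp hk] at hx
    · exact absurd (orderOf_dvd_iff_pow_eq_one.mp (by simp [hk])) hx
    · exact ⟨m + 1, rfl, by omega⟩
  obtain ⟨w, β, hw, h3, h4, h5⟩ : ∃ (w : V) (β : F), w ≠ 0 ∧ β ≠ 1 ∧ β ^ p = 1 ∧
      (x ^ p ^ m) w = β • w := by
    by_contra! h
    have h3 : x ^ p ^ m = 1 := LinearEquiv.toLinearMap_injective (LinearMap.ext_on
      (top_le_iff.mp (span_eig hω (y := x ^ p ^ m) (by
        rw [← pow_mul, ← pow_succ, ← hk, pow_orderOf_eq_one]))) fun w ⟨β, e1, e2⟩ => by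
      by_cases e : w = 0
      · simp [e]
      · obtain rfl : β = 1 := by_contra fun e' => h w β e e' e1 e2
        simpa using e2)
    have h4 := orderOf_dvd_of_pow_eq_one h3
    rw [hk, Nat.pow_dvd_pow_iff_le_right hp.out.one_lt] at h4
    omega
  have h6 := X_pow_sub_C_irreducible_of_prime_pow hp.out hp2 m (a := β) fun γ e => by
    have e1 : orderOf γ = p ^ (1 + 1) := orderOf_eq_prime_pow (by rwa [pow_one, e])
      (by rw [pow_succ, pow_one, pow_mul, e, h4])
    refine h2 (e1 ▸ orderOf_dvd_of_pow_eq_one (FiniteField.pow_card_sub_one_eq_one γ ?_))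
    rintro rfl
    simp [← e, hp.out.ne_zero] at h4
  have h7 : ∀ v : V, v ≠ 0 → (x ^ p ^ m) v = β • v → ∀ f : F[X], f.degree < (p ^ m : ℕ) →
      aeval (x : Module.End F V) f v = 0 → f = 0 := fun v hv e f hf e' => by
    by_contra hf0
    obtain ⟨a, c, h⟩ := h6.coprime_iff_not_dvd.mpr fun h : _ ∣ f => by
      have := (degree_le_of_dvd h hf0).trans_lt hf
      simp [degree_X_pow_sub_C (pow_pos hp.out.pos m)] at this
    have := congrArg (fun g => aeval (x : Module.End F V) g v) h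
    simp [pow_coe, e, e', hv.symm] at this
  have h8 := indep (h7 w hw h5)
  obtain rfl : m = 1 := le_antisymm ((Nat.pow_le_pow_iff_right hp.out.one_lt).mp (by
    simpa [hV] using h8.fintype_card_le_finrank)) hm
  have h9 : ∀ v, (x ^ p ^ 1) v = β • v := fun v => by
    have := LinearMap.ext_on (f := ((x ^ p ^ 1 : V ≃ₗ[F] V) : V →ₗ[F] V)) (g := β • LinearMap.id)
      (h8.span_eq_top_of_card_eq_finrank' (by simp [hV])) (by
        rintro _ ⟨i, rfl⟩
        simp only [LinearEquiv.coe_coe, LinearMap.smul_apply, LinearMap.id_apply]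
        rw [← map_smul, ← h5, ← LinearEquiv.mul_apply, ← LinearEquiv.mul_apply, pow_mul_comm])
    exact LinearMap.congr_fun this v
  simp only [pow_one] at h7 h9
  obtain ⟨b, h10, h11⟩ := exists_cyclic hV h9 (h7 w hw (h9 w))
  have h12 : (⟨0, hp.out.pos⟩ : Fin p) ≠ ⟨1, hp.out.one_lt⟩ := by simp
  obtain ⟨b', h13, h14⟩ := exists_cyclic hV h9 (h7 _ (by simpa using (ne_add b h12 0 0).symm) (h9 _))
  obtain ⟨i, s, h15⟩ := two_bases hp2 h1 h2 hω hxp hQp hQ
        b b' h11 h14 ⟨0, hp.out.pos⟩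
  exact ne_add b h12 i s (by simpa [h13] using h15)

end


/-- Let p be an odd prime and F a finite field with q elements such that p divides q - 1 but p² does not. Then GL(p, F) has a Sylow p-subgroup Q such that every element of p-power order lies in some Sylow p-subgroup other than Q (a redundant Sylow p-subgroup). -/
theorem result {F : Type*} [Field F] [Fintype F] (p : ℕ) [Fact p.Prime]
    (hp : p ≠ 2) (h1 : p ∣ Fintype.card F - 1) (h2 : ¬ p ^ 2 ∣ Fintype.card F - 1) :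
    ∃ Q : Sylow p (Matrix.GeneralLinearGroup (Fin p) F), ∀ x : Matrix.GeneralLinearGroup (Fin p) F,
      (∃ k : ℕ, orderOf x = p ^ k) → ∃ P : Sylow p (Matrix.GeneralLinearGroup (Fin p) F), P ≠ Q ∧ x ∈ P := by
  refine H4.red_of_forall fun x hx => ?_
  obtain ⟨k, hk⟩ := hx
  obtain ⟨Q, hQ⟩ := (H8.isPGroup_zpowers_of_orderOf hk).exists_le_sylow
  by_contra! h
  let e := (Matrix.GeneralLinearGroup.toLin (n := Fin p) (R := F)).trans
    (LinearMap.GeneralLinearGroup.generalLinearEquiv F (Fin p → F))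
  refine key hp h1 h2 (V := Fin p → F) (by simp) (x := e x) (k := k) (by rwa [MulEquiv.orderOf_eq])
    (Q.isPGroup'.map e.toMonoidHom) fun K hK hx y hy => ?_
  refine ⟨e.symm y, H4.le_of_unique (fun P hP => by_contra fun e' => h P Q e' hP
    (hQ (mem_zpowers x))) (hK.comap_of_injective e.toMonoidHom e.injective) hx ?_, by simp⟩
  simpa using hy

end Cfsg.Agent.S4358
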